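import Mathlib
import Cfsg.Agent.H548.Crit
import Cfsg.Agent.H463.LieReg

/-!
# Numerical criteria for `Crit` in groups of Lie type (helper548, for S4239)

The element is the regular unipotent element of `H463.LieReg`.
-/

set_option autoImplicit false

namespace Cfsg.Agent.H548.LieNum

open Cfsg Cfsg.Agent.H548.Crit

universe u

theorem ordProj_of_mul {p N M : ℕ} (hp : p.Prime) (hM : ¬ p ∣ M) (hM0 : M ≠ 0) : ordProj[p] (p ^ N * M) = p ^ N := by
  rw [Nat.factorization_mul (pow_pos hp.pos N).ne' hM0, Nat.factorization_pow]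
  simp [hp.factorization_self, Nat.factorization_eq_zero_of_not_dvd hM]

/-- A regular unipotent element has centralizer of order at most `p ^ N`. -/
theorem exists_reg {G : Type u} [Group G] [Finite G] (hs : IsSimpleGroup G) {p N M : ℕ} (hG : IsLieTypeChar p G)
    (hS : Nat.card G = p ^ N * M) (hM : ¬ p ∣ M) :
    ∃ x : G, Nat.card (Subgroup.centralizer ({x} : Set G)) ≤ p ^ N := by
  have hp := H463.LieReg.prime hG
  have : Fact p.Prime := ⟨hp⟩
  obtain ⟨z, -, -, hz⟩ := H463.LieReg.exists_regular_isPGroup hs hG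
  refine ⟨z, ?_⟩
  obtain ⟨k, hk⟩ := hz.exists_card_eq
  have h1 : p ^ k ∣ p ^ N * M := by
    rw [← hk, ← hS]
    exact Subgroup.card_subgroup_dvd_card _
  have hM0 : M ≠ 0 := fun h => hM (h ▸ dvd_zero p)
  have h2 : (p ^ k).Coprime M := Nat.Coprime.pow_left k ((Nat.Prime.coprime_iff_not_dvd hp).2 hM)
  rw [hk]
  exact Nat.le_of_dvd (pow_pos hp.pos N) (h2.dvd_of_dvd_mul_right h1)

/-- The numerical criterion. -/
theorem crit_num {G : Type u} [Group G] [Finite G] (hs : IsSimpleGroup G) {p f q N D M' o a b : ℕ}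
    (hG : IsLieTypeChar p G) (hq : q = p ^ f) (hf : 1 ≤ f) (hS : D * Nat.card G = q ^ N * M')
    (hqM : Nat.Coprime q M') (ho : Nat.card (Out G) ≤ o) (hab : Nat.Coprime a b) (hM : a * b * D ∣ M')
    (ha : 2 * o ≤ a) (hb : 2 * o ≤ b) (h : 2 * o * q ^ N * D ≤ M') (hM0 : 0 < M') : Crit G := by
  have hp := H463.LieReg.prime hG
  have hD : 0 < D := Nat.pos_of_ne_zero fun h0 => by
    rw [h0, mul_zero] at hM
    exact hM0.ne' (Nat.eq_zero_of_zero_dvd hM)
  obtain ⟨M, hMeq⟩ : D ∣ M' := (Dvd.intro_left (a * b) rfl).trans hM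
  have hSM : Nat.card G = q ^ N * M := by
    apply Nat.eq_of_mul_eq_mul_left hD
    rw [hS, hMeq]
    ring
  have hSM' : Nat.card G = p ^ (f * N) * M := by rw [hSM, hq, ← pow_mul]
  have hpM' : ¬ p ∣ M' := by
    intro hd
    have h1 : p ∣ q := by rw [hq]; exact dvd_pow_self p (by omega)
    exact hp.one_lt.ne' (Nat.dvd_one.1 (hqM ▸ Nat.dvd_gcd h1 hd))
  have hpM : ¬ p ∣ M := fun hd => hpM' (hMeq ▸ hd.mul_left D)
  obtain ⟨x, hx⟩ := exists_reg hs hG hSM' hpM
  refine crit_of_lie x hp hSM' hpM hx ho hab ?_ ha hb ?_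
  · have h1 : D * (a * b) ∣ D * M := by rw [← hMeq, mul_comm D]; exact hM
    exact Nat.dvd_of_mul_dvd_mul_left hD h1
  · have h1 : D * (2 * o * Nat.card (Subgroup.centralizer ({x} : Set G))) ≤ D * M := by
      rw [← hMeq]
      refine le_trans ?_ h
      rw [pow_mul, ← hq] at hx
      calc D * (2 * o * Nat.card (Subgroup.centralizer ({x} : Set G))) ≤ D * (2 * o * q ^ N) := by gcongr
        _ = _ := by ring
    exact Nat.le_of_mul_le_mul_left h1 hD

/-- Small groups: prime by prime. -/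
theorem crit_expl {G : Type u} [Group G] [Finite G] {n o c : ℕ} (x : G) (hn : Nat.card G = n) (hn0 : n ≠ 0)
    (ho : Nat.card (Out G) = o) (hx : Nat.card (Subgroup.centralizer ({x} : Set G)) ≤ c) (L : List (ℕ × ℕ × ℕ))
    (hL : n ∣ (L.map fun t => t.1 ^ t.2.1).prod) (hL1 : ∀ t ∈ L, t.1.Prime ∧ ¬ t.1 ^ (t.2.1 + 1) ∣ n ∧
      ¬ t.1 ^ (t.2.2 + 1) ∣ o ∧ 2 * t.1 ^ t.2.2 * t.1 ^ t.2.1 * c ≤ n) (h0 : 2 * o * c ≤ n) : Crit G := by
  have hopos : 0 < o := by rw [← ho]; exact card_out_pos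
  have key : ∀ {p k m : ℕ}, p.Prime → m ≠ 0 → ¬ p ^ (k + 1) ∣ m → ordProj[p] m ≤ p ^ k := by
    intro p k m hp hm hk
    apply Nat.pow_le_pow_right hp.pos
    by_contra hlt
    push Not at hlt
    exact hk ((hp.pow_dvd_iff_le_factorization hm).2 hlt)
  refine crit_of_forall x hx fun p hp => ?_
  rw [hn, ho]
  by_cases hex : ∃ t ∈ L, t.1 = p
  · obtain ⟨t, ht, rfl⟩ := hex
    obtain ⟨-, h1, h2, h3⟩ := hL1 t ht
    refine le_trans ?_ h3
    have h4 := key hp hn0 h1
    have h5 := key hp hopos.ne' h2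
    gcongr
  · push Not at hex
    have hpn : ¬ p ∣ n := by
      intro hd
      have h1 := hd.trans hL
      rw [hp.prime.dvd_prod_iff] at h1
      obtain ⟨y, hy, hpy⟩ := h1
      obtain ⟨t, ht, rfl⟩ := List.mem_map.1 hy
      have h2 := hp.dvd_of_dvd_pow hpy
      exact hex t ht ((Nat.prime_dvd_prime_iff_eq hp (hL1 t ht).1).1 h2).symm
    have h1 : ordProj[p] n = 1 := by rw [Nat.factorization_eq_zero_of_not_dvd hpn, pow_zero]
    have h2 : ordProj[p] o ≤ o := Nat.le_of_dvd hopos (Nat.ordProj_dvd _ _)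
    rw [h1, mul_one]
    exact le_trans (by gcongr) h0

/-- `|Out S| |S| = |Aut S|` if the centre is trivial. -/
theorem card_out_mul {S : Type u} [Group S] [Finite S] (hs : IsSimpleGroup S) (hna : ¬ IsMulCommutative S) :
    Nat.card (Out S) * Nat.card S = Nat.card (MulAut S) := by
  have hker : (MulAut.conj (G := S)).ker = ⊥ := by
    have h1 : (MulAut.conj (G := S)).ker.Normal := MonoidHom.normal_ker _
    rcases h1.eq_bot_or_eq_top with h | h
    · exact h
    · exfalso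
      apply hna
      refine ⟨⟨fun a b => ?_⟩⟩
      have h2 : a ∈ (MulAut.conj (G := S)).ker := h ▸ Subgroup.mem_top a
      have h3 := congrArg (fun e : MulAut S => e b) (MonoidHom.mem_ker.1 h2)
      have h4 : a * b * a⁻¹ = b := h3
      rw [mul_inv_eq_iff_eq_mul] at h4
      exact h4
  have h1 : Nat.card (Inn S) = Nat.card S :=
    (Nat.card_congr (MonoidHom.ofInjective ((MonoidHom.ker_eq_bot_iff _).1 hker)).toEquiv).symm
  rw [← h1]
  exact (Subgroup.card_eq_card_quotient_mul_card_subgroup (Inn S)).symm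

theorem card_out_of_mulAut {S : Type u} [Group S] [Finite S] (hs : IsSimpleGroup S) (hna : ¬ IsMulCommutative S) {o : ℕ}
    (h : Nat.card (MulAut S) = o * Nat.card S) : Nat.card (Out S) = o := by
  have h1 := card_out_mul hs hna
  rw [h] at h1
  exact Nat.eq_of_mul_eq_mul_right Nat.card_pos h1

/-! ### Geometric sums -/

/-- `1 + q + ... + q ^ (k - 1)` -/
def gs (q k : ℕ) : ℕ := ∑ i ∈ Finset.range k, q ^ i

theorem gs_succ (q k : ℕ) : gs q (k + 1) = q * gs q k + 1 := by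
  unfold gs
  rw [Finset.sum_range_succ', Finset.mul_sum, pow_zero]
  congr 1
  exact Finset.sum_congr rfl fun i _ => pow_succ' q i

theorem gs_coprime (q k : ℕ) : Nat.Coprime (gs q k) (gs q (k + 1)) := by
  rw [gs_succ, mul_comm, Nat.coprime_mul_left_add_right]
  exact Nat.coprime_one_right _

theorem gs_mul {q : ℕ} (hq : 1 ≤ q) (k : ℕ) : (q - 1) * gs q k = q ^ k - 1 := by
  obtain ⟨r, rfl⟩ : ∃ r, q = r + 1 := ⟨q - 1, by omega⟩
  induction k with
  | zero => simp [gs]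
  | succ k ih =>
    have h1 : 1 ≤ (r + 1) ^ k := Nat.one_le_pow _ _ (by omega)
    rw [gs_succ, mul_add, mul_one, mul_left_comm, ih, Nat.mul_sub, pow_succ']
    have h2 : r + 1 ≤ (r + 1) * (r + 1) ^ k := Nat.le_mul_of_pos_right _ (by omega)
    omega

theorem gs_mono {q : ℕ} {k l : ℕ} (h : k ≤ l) : gs q k ≤ gs q l :=
  Finset.sum_le_sum_of_subset (Finset.range_subset_range.2 h)

theorem two_mul_f_le {p f q : ℕ} (hp : 2 ≤ p) (hf : 1 ≤ f) (hq : q = p ^ f) : 2 * f ≤ q := by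
  have h1 : 2 ^ f ≤ q := by rw [hq]; exact Nat.pow_le_pow_left hp f
  have h2 : 2 * f ≤ 2 ^ f := by
    obtain ⟨k, rfl⟩ : ∃ k, f = k + 1 := ⟨f - 1, by omega⟩
    have := Nat.lt_two_pow_self (n := k)
    rw [pow_succ]; omega
  omega

theorem three_mul_f_le {p f q : ℕ} (hp : 3 ≤ p) (hf : 1 ≤ f) (hq : q = p ^ f) : 3 * f ≤ q := by
  have h1 : 3 ^ f ≤ q := by rw [hq]; exact Nat.pow_le_pow_left hp f
  have h2 : 3 * f ≤ 3 ^ f := by
    obtain ⟨k, rfl⟩ : ∃ k, f = k + 1 := ⟨f - 1, by omega⟩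
    have := Nat.lt_pow_self (n := k) (a := 3) (by norm_num)
    rw [pow_succ]; omega
  omega

end Cfsg.Agent.H548.LieNum
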