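import Mathlib
import Cfsg.Agent.H548.LieNum

/-!
# Products of `q ^ i ± 1` (helper548, for S4239)
-/

set_option autoImplicit false

namespace Cfsg.Agent.H548.LieArith

open Cfsg.Agent.H548.LieNum

theorem cop_sub {q i : ℕ} (hq : 1 ≤ q) (hi : i ≠ 0) : Nat.Coprime q (q ^ i - 1) := by
  have h1 : 1 ≤ q ^ i := Nat.one_le_pow _ _ hq
  have h2 : Nat.Coprime (q ^ i) (q ^ i - 1) := by
    rw [Nat.coprime_self_sub_right h1]
    exact Nat.coprime_one_right _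
  exact Nat.Coprime.coprime_dvd_left (dvd_pow_self q hi) h2

theorem cop_add {q i : ℕ} (hi : i ≠ 0) : Nat.Coprime q (q ^ i + 1) := by
  have h2 : Nat.Coprime (q ^ i) (q ^ i + 1) := by simp
  exact Nat.Coprime.coprime_dvd_left (dvd_pow_self q hi) h2

/-! ### Symplectic products -/

/-- `∏_{i=1}^m (q^{2i} - 1)` -/
def sp (q m : ℕ) : ℕ := ∏ i ∈ Finset.range m, (q ^ (2 * (i + 1)) - 1)

theorem sp_succ (q m : ℕ) : sp q (m + 1) = sp q m * (q ^ (2 * (m + 1)) - 1) := Finset.prod_range_succ _ _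

theorem sp_pos {q : ℕ} (hq : 2 ≤ q) (m : ℕ) : 0 < sp q m :=
  Finset.prod_pos fun i _ => Nat.sub_pos_of_lt (Nat.one_lt_pow (by omega) (by omega))

theorem sp_cop {q : ℕ} (hq : 1 ≤ q) (m : ℕ) : Nat.Coprime q (sp q m) :=
  Nat.Coprime.prod_right fun i _ => cop_sub hq (by omega)

theorem sp_bound' {q : ℕ} (hq : 2 ≤ q) (m : ℕ) :
    (q : ℤ) ^ (m * (m + 1)) * (2 * (q : ℤ) ^ (2 * m) + 1) ≤ 3 * (sp q m : ℤ) * (q : ℤ) ^ (2 * m) ∧
      (sp q m : ℤ) ≤ (q : ℤ) ^ (m * (m + 1)) := by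
  induction m with
  | zero => simp [sp]
  | succ m ih =>
    obtain ⟨ih1, ih2⟩ := ih
    have h1 : 1 ≤ q ^ (2 * (m + 1)) := Nat.one_le_pow _ _ (by omega)
    rw [sp_succ, Nat.cast_mul, Nat.cast_sub h1]
    push_cast
    set P : ℤ := (sp q m : ℤ)
    set E : ℤ := (q : ℤ) ^ (m * (m + 1)) with hE
    set Y : ℤ := (q : ℤ) ^ (2 * m) with hY
    have hX : (q : ℤ) ^ (2 * (m + 1)) = (q : ℤ) ^ 2 * Y := by rw [hY, ← pow_add]; congr 1; ring
    have hE' : (q : ℤ) ^ ((m + 1) * (m + 1 + 1)) = E * ((q : ℤ) ^ 2 * Y) := by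
      rw [hE, hY, ← pow_add, ← pow_add]; congr 1; ring
    have hq' : (4 : ℤ) ≤ (q : ℤ) ^ 2 := by
      have : (2 : ℤ) ≤ q := by exact_mod_cast hq
      nlinarith
    have hEpos : 0 < E := by positivity
    have hYpos : 0 < Y := by positivity
    have hPpos : 0 ≤ P := Int.natCast_nonneg _
    rw [hX, hE']
    constructor
    · have h3 : E * (2 * Y + 1) * ((q : ℤ) ^ 2 * ((q : ℤ) ^ 2 * Y)) - 3 * E * ((q : ℤ) ^ 2 * Y) ≤
          3 * P * Y * ((q : ℤ) ^ 2 * ((q : ℤ) ^ 2 * Y)) - 3 * P * ((q : ℤ) ^ 2 * Y) := by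
        have a1 : E * (2 * Y + 1) * ((q : ℤ) ^ 2 * ((q : ℤ) ^ 2 * Y)) ≤ 3 * P * Y * ((q : ℤ) ^ 2 * ((q : ℤ) ^ 2 * Y)) :=
          mul_le_mul_of_nonneg_right ih1 (by positivity)
        have a2 : 3 * P * ((q : ℤ) ^ 2 * Y) ≤ 3 * E * ((q : ℤ) ^ 2 * Y) :=
          mul_le_mul_of_nonneg_right (by linarith) (by positivity)
        linarith
      have h4 : 0 ≤ E * ((q : ℤ) ^ 2 * Y) * ((q : ℤ) ^ 2 - 4) := by
        apply mul_nonneg (by positivity) (by linarith)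
      nlinarith [h3, h4]
    · have h5 : P * ((q : ℤ) ^ 2 * Y - 1) ≤ E * ((q : ℤ) ^ 2 * Y) := by
        have : 0 ≤ (q : ℤ) ^ 2 * Y := by positivity
        nlinarith
      exact h5

/-- `2 q^{m(m+1)} ≤ 3 ∏ (q^{2i} - 1)` -/
theorem sp_bound {q : ℕ} (hq : 2 ≤ q) (m : ℕ) : 2 * q ^ (m * (m + 1)) ≤ 3 * sp q m := by
  have h1 := (sp_bound' hq m).1
  have h2 : (0 : ℤ) < (q : ℤ) ^ (2 * m) := by positivity
  have h3 : (0 : ℤ) < (q : ℤ) ^ (m * (m + 1)) := by positivity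
  have h4 : 2 * (q : ℤ) ^ (m * (m + 1)) * (q : ℤ) ^ (2 * m) ≤ 3 * (sp q m : ℤ) * (q : ℤ) ^ (2 * m) := by nlinarith
  have h5 := le_of_mul_le_mul_right h4 h2
  exact_mod_cast h5

theorem sq_gs {q : ℕ} (hq : 1 ≤ q) (k : ℕ) : (q ^ 2 - 1) * gs (q ^ 2) k = q ^ (2 * k) - 1 := by
  rw [gs_mul (Nat.one_le_pow _ _ hq), ← pow_mul]

/-- coprime factors of the symplectic product -/
theorem sp_dvd {q : ℕ} (hq : 1 ≤ q) (m : ℕ) : gs (q ^ 2) (m + 1) * gs (q ^ 2) (m + 2) * (q ^ 2 - 1) ∣ sp q (m + 2) := by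
  rw [sp_succ, sp_succ]
  have h1 := sq_gs hq (m + 1)
  have h2 := sq_gs hq (m + 2)
  rw [← h1, show m + 1 + 1 = m + 2 by ring, ← h2]
  exact ⟨sp q m * (q ^ 2 - 1), by ring⟩

/-! ### Linear products -/

/-- `∏_{j=2}^{k+1} (q^j - 1)` -/
def ln (q k : ℕ) : ℕ := ∏ i ∈ Finset.range k, (q ^ (i + 2) - 1)

/-- `Σ_{j=2}^{k+1} j` -/
def lnE (k : ℕ) : ℕ := ∑ i ∈ Finset.range k, (i + 2)

theorem ln_succ (q k : ℕ) : ln q (k + 1) = ln q k * (q ^ (k + 2) - 1) := Finset.prod_range_succ _ _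

theorem lnE_succ (k : ℕ) : lnE (k + 1) = lnE k + (k + 2) := Finset.sum_range_succ _ _

theorem lnE_eq (k : ℕ) : 2 * lnE k = k * (k + 3) := by
  induction k with
  | zero => simp [lnE]
  | succ k ih => rw [lnE_succ, mul_add, ih]; ring

theorem ln_pos {q : ℕ} (hq : 2 ≤ q) (k : ℕ) : 0 < ln q k :=
  Finset.prod_pos fun i _ => Nat.sub_pos_of_lt (Nat.one_lt_pow (by omega) (by omega))

theorem ln_cop {q : ℕ} (hq : 1 ≤ q) (k : ℕ) : Nat.Coprime q (ln q k) :=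
  Nat.Coprime.prod_right fun i _ => cop_sub hq (by omega)

theorem ln_bound' {q : ℕ} (hq : 2 ≤ q) (k : ℕ) :
    (q : ℤ) ^ lnE (k + 1) * ((q : ℤ) ^ (k + 2) + 2) ≤ 2 * (ln q (k + 1) : ℤ) * (q : ℤ) ^ (k + 2) ∧
      (ln q (k + 1) : ℤ) ≤ (q : ℤ) ^ lnE (k + 1) := by
  have hq' : (2 : ℤ) ≤ q := by exact_mod_cast hq
  induction k with
  | zero =>
    have h1 : 1 ≤ q ^ 2 := Nat.one_le_pow _ _ (by omega)
    have e1 : ln q (0 + 1) = q ^ 2 - 1 := by simp [ln]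
    have e2 : lnE (0 + 1) = 2 := by simp [lnE]
    rw [e1, e2, Nat.cast_sub h1]
    push_cast
    constructor
    · nlinarith [sq_nonneg ((q : ℤ)), mul_nonneg (sq_nonneg (q : ℤ)) (show (0 : ℤ) ≤ (q : ℤ) ^ 2 - 4 by nlinarith)]
    · linarith
  | succ k ih =>
    obtain ⟨ih1, ih2⟩ := ih
    have h1 : 1 ≤ q ^ (k + 1 + 2) := Nat.one_le_pow _ _ (by omega)
    rw [ln_succ, lnE_succ, Nat.cast_mul, Nat.cast_sub h1]
    push_cast
    set P : ℤ := (ln q (k + 1) : ℤ)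
    set E : ℤ := (q : ℤ) ^ lnE (k + 1) with hE
    set Y : ℤ := (q : ℤ) ^ (k + 2) with hY
    have hX : (q : ℤ) ^ (k + 1 + 2) = (q : ℤ) * Y := by rw [hY, ← pow_succ']
    have hE' : (q : ℤ) ^ (lnE (k + 1) + (k + 1 + 2)) = E * ((q : ℤ) * Y) := by rw [pow_add, hX]
    have hEpos : 0 < E := by positivity
    have hYpos : 0 < Y := by positivity
    have hPpos : 0 ≤ P := Int.natCast_nonneg _
    rw [hX, hE']
    constructor
    · have a1 : E * (Y + 2) * ((q : ℤ) * ((q : ℤ) * Y)) ≤ 2 * P * Y * ((q : ℤ) * ((q : ℤ) * Y)) :=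
        mul_le_mul_of_nonneg_right ih1 (by positivity)
      have a2 : 2 * P * ((q : ℤ) * Y) ≤ 2 * E * ((q : ℤ) * Y) :=
        mul_le_mul_of_nonneg_right (by linarith) (by positivity)
      have h4 : 0 ≤ E * ((q : ℤ) * Y) * ((q : ℤ) - 2) := by
        apply mul_nonneg (by positivity) (by linarith)
      nlinarith [a1, a2, h4]
    · have : 0 ≤ (q : ℤ) * Y := by positivity
      nlinarith

/-- `q^E ≤ 2 ∏ (q^j - 1)` -/
theorem ln_bound {q : ℕ} (hq : 2 ≤ q) (k : ℕ) : q ^ lnE (k + 1) ≤ 2 * ln q (k + 1) := by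
  have h1 := (ln_bound' hq k).1
  have h2 : (0 : ℤ) < (q : ℤ) ^ (k + 2) := by positivity
  have h3 : (0 : ℤ) < (q : ℤ) ^ lnE (k + 1) := by positivity
  have h4 : (q : ℤ) ^ lnE (k + 1) * (q : ℤ) ^ (k + 2) ≤ 2 * (ln q (k + 1) : ℤ) * (q : ℤ) ^ (k + 2) := by nlinarith
  have h5 := le_of_mul_le_mul_right h4 h2
  exact_mod_cast h5

theorem ln_dvd {q : ℕ} (hq : 1 ≤ q) (k : ℕ) : gs q (k + 2) * gs q (k + 3) * (q - 1) ∣ ln q (k + 2) := by
  rw [ln_succ, ln_succ]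
  have h1 := gs_mul hq (k + 2)
  have h2 := gs_mul hq (k + 3)
  rw [← h1, show k + 1 + 2 = k + 3 by ring, ← h2]
  exact ⟨ln q k * (q - 1), by ring⟩

/-! ### Unitary products -/

/-- `q^j - (-1)^j` -/
def un (q j : ℕ) : ℕ := if Even j then q ^ j - 1 else q ^ j + 1

theorem un_even {q j : ℕ} (h : Even j) : un q j = q ^ j - 1 := if_pos h

theorem un_odd {q j : ℕ} (h : ¬ Even j) : un q j = q ^ j + 1 := if_neg h

theorem un_pos {q j : ℕ} (hq : 2 ≤ q) (hj : j ≠ 0) : 0 < un q j := by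
  unfold un
  split_ifs
  · exact Nat.sub_pos_of_lt (Nat.one_lt_pow hj (by omega))
  · omega

theorem un_cop {q j : ℕ} (hq : 1 ≤ q) (hj : j ≠ 0) : Nat.Coprime q (un q j) := by
  unfold un
  split_ifs
  · exact cop_sub hq hj
  · exact cop_add hj

/-- `(q^j - (-1)^j) / (q + 1)` -/
def hs (q : ℕ) : ℕ → ℕ
  | 0 => 0
  | (k + 1) => q ^ k - hs q k

theorem hs_le {q : ℕ} (hq : 1 ≤ q) (k : ℕ) : hs q k ≤ q ^ k := by
  cases k with
  | zero => exact Nat.zero_le _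
  | succ k =>
    change q ^ k - hs q k ≤ q ^ (k + 1)
    have : q ^ k ≤ q ^ (k + 1) := Nat.pow_le_pow_right hq (Nat.le_succ _)
    omega

theorem hs_add {q : ℕ} (hq : 1 ≤ q) (k : ℕ) : hs q (k + 1) + hs q k = q ^ k := by
  change q ^ k - hs q k + hs q k = q ^ k
  exact Nat.sub_add_cancel (hs_le hq k)

theorem hs_mul {q : ℕ} (hq : 1 ≤ q) (k : ℕ) : (q + 1) * hs q k = un q k := by
  induction k with
  | zero => simp [hs, un]
  | succ k ih =>
    have h1 := hs_add hq k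
    have h2 : (q + 1) * hs q (k + 1) + (q + 1) * hs q k = (q + 1) * q ^ k := by rw [← mul_add, h1]
    rw [ih] at h2
    have h3 : 1 ≤ q ^ k := Nat.one_le_pow _ _ hq
    have h4 : (q + 1) * q ^ k = q ^ (k + 1) + q ^ k := by ring
    rw [h4] at h2
    by_cases hk : Even k
    · rw [un_even hk] at h2
      rw [un_odd (by rw [Nat.even_add_one]; exact not_not.2 hk)]
      omega
    · rw [un_odd hk] at h2
      rw [un_even (by rw [Nat.even_add_one]; exact hk)]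
      omega

theorem hs_cop {q : ℕ} (hq : 1 ≤ q) (k : ℕ) : Nat.Coprime (hs q (k + 1)) (hs q (k + 2)) := by
  have h1 := hs_add hq (k + 1)
  have h2 : Nat.Coprime (hs q (k + 1)) q := by
    have h3 := (un_cop hq (Nat.succ_ne_zero k)).symm
    rw [← hs_mul hq] at h3
    exact Nat.Coprime.coprime_dvd_left (Dvd.intro_left _ rfl) h3
  have h3 : Nat.Coprime (hs q (k + 1)) (hs q (k + 1 + 1) + hs q (k + 1)) := by
    rw [h1]; exact h2.pow_right _
  rwa [Nat.coprime_add_self_right] at h3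

/-- `∏_{j=2}^{k+1} (q^j - (-1)^j)` -/
def up (q k : ℕ) : ℕ := ∏ i ∈ Finset.range k, un q (i + 2)

theorem up_succ (q k : ℕ) : up q (k + 1) = up q k * un q (k + 2) := Finset.prod_range_succ _ _

theorem up_pos {q : ℕ} (hq : 2 ≤ q) (k : ℕ) : 0 < up q k :=
  Finset.prod_pos fun i _ => un_pos hq (by omega)

theorem up_cop {q : ℕ} (hq : 1 ≤ q) (k : ℕ) : Nat.Coprime q (up q k) :=
  Nat.Coprime.prod_right fun i _ => un_cop hq (by omega)

theorem up_dvd {q : ℕ} (hq : 1 ≤ q) (k : ℕ) : hs q (k + 2) * hs q (k + 3) * (q + 1) ∣ up q (k + 2) := by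
  rw [up_succ, up_succ, ← hs_mul hq, ← hs_mul hq]
  exact ⟨up q k * (q + 1), by ring⟩

/-- `(q^2 - 1) q^{3 + ... + n} ≤ ∏_{j=2}^n (q^j - (-1)^j)` -/
theorem up_bound {q : ℕ} (hq : 2 ≤ q) : ∀ k : ℕ, (q ^ 2 - 1) * q ^ lnE (k + 1) ≤ q ^ 2 * up q (k + 1)
  | 0 => by simp [lnE, up, un, mul_comm]
  | 1 => by
    have e1 : up q (1 + 1) = (q ^ 2 - 1) * (q ^ 3 + 1) := by
      rw [up_succ, up_succ]
      simp [up, un, show ¬ Even 3 by decide]
    have e2 : lnE (1 + 1) = 2 + 3 := rfl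
    rw [e1, e2, pow_add]
    calc (q ^ 2 - 1) * (q ^ 2 * q ^ 3) = q ^ 2 * ((q ^ 2 - 1) * q ^ 3) := by ring
      _ ≤ q ^ 2 * ((q ^ 2 - 1) * (q ^ 3 + 1)) := by gcongr; omega
  | (k + 2) => by
    rcases Nat.even_or_odd k with hk | hk
    · -- the last factor is `q^{k+4} - 1`, before it `q^{k+3} + 1`
      have ih := up_bound hq k
      have e1 : up q (k + 2 + 1) = up q (k + 1) * ((q ^ (k + 3) + 1) * (q ^ (k + 4) - 1)) := by
        rw [up_succ, up_succ, un_odd (j := k + 1 + 2) (by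
          rw [show k + 1 + 2 = k + 2 + 1 by ring, Nat.even_add_one, not_not]
          exact hk.add (by decide)), un_even (j := k + 2 + 2) (by
          rw [show k + 2 + 2 = k + 4 by ring]; exact hk.add (by decide))]
        ring_nf
      have e2 : lnE (k + 2 + 1) = lnE (k + 1) + ((k + 3) + (k + 4)) := by
        rw [lnE_succ, lnE_succ]; ring
      have h1 : q ^ ((k + 3) + (k + 4)) ≤ (q ^ (k + 3) + 1) * (q ^ (k + 4) - 1) := by
        have h2 : 1 ≤ q ^ (k + 3) := Nat.one_le_pow _ _ (by omega)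
        have h3 : q ^ (k + 4) = q * q ^ (k + 3) := pow_succ' _ _
        have h4 : 1 ≤ q * q ^ (k + 3) := Nat.mul_pos (by omega) (by omega)
        rw [pow_add, h3]
        generalize q ^ (k + 3) = x at *
        zify [h4]
        have h5 : (2 : ℤ) ≤ q := by exact_mod_cast hq
        have h6 : (1 : ℤ) ≤ x := by exact_mod_cast h2
        nlinarith
      rw [e1, e2, pow_add]
      calc (q ^ 2 - 1) * (q ^ lnE (k + 1) * q ^ ((k + 3) + (k + 4)))
          = ((q ^ 2 - 1) * q ^ lnE (k + 1)) * q ^ ((k + 3) + (k + 4)) := by ring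
        _ ≤ (q ^ 2 * up q (k + 1)) * ((q ^ (k + 3) + 1) * (q ^ (k + 4) - 1)) := Nat.mul_le_mul ih h1
        _ = _ := by ring
    · have ih := up_bound hq (k + 1)
      have e1 : up q (k + 2 + 1) = up q (k + 1 + 1) * (q ^ (k + 4) + 1) := by
        rw [up_succ, un_odd (j := k + 2 + 2) (by
          rw [show k + 2 + 2 = k + 4 by ring, Nat.not_even_iff_odd]; exact hk.add_even (by decide))]
      have e2 : lnE (k + 2 + 1) = lnE (k + 1 + 1) + (k + 4) := by rw [lnE_succ]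
      rw [e1, e2, pow_add]
      calc (q ^ 2 - 1) * (q ^ lnE (k + 1 + 1) * q ^ (k + 4))
          = ((q ^ 2 - 1) * q ^ lnE (k + 1 + 1)) * q ^ (k + 4) := by ring
        _ ≤ (q ^ 2 * up q (k + 1 + 1)) * (q ^ (k + 4) + 1) := Nat.mul_le_mul ih (by omega)
        _ = _ := by ring

end Cfsg.Agent.H548.LieArith
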