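import Mathlib
import Cfsg.Agent.H548.LieArith
import Cfsg.Agent.S0245
import Cfsg.Agent.S0814

/-!
# `Crit` for the symplectic groups (helper548, for S4239)
-/

set_option autoImplicit false

namespace Cfsg.Agent.H548.RowPSp

open Cfsg Cfsg.Agent.H548.Crit Cfsg.Agent.H548.LieNum Cfsg.Agent.H548.LieArith

universe u

theorem field_data (F : Type) [Field F] [Fintype F] : ∃ p f : ℕ, p.Prime ∧ 1 ≤ f ∧ Fintype.card F = p ^ f ∧ CharP F p := by
  obtain ⟨p, hp⟩ := CharP.exists F
  obtain ⟨n, h1, h2⟩ := FiniteField.card F p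
  exact ⟨p, n, h1, n.2, h2, hp⟩

theorem simple_congr {G : Type u} {T : Type*} [Group G] [Group T] (e : G ≃* T) (hs : IsSimpleGroup G) :
    IsSimpleGroup T := by
  have := hs
  have : Nontrivial T := e.symm.toEquiv.nontrivial
  exact IsSimpleGroup.isSimpleGroup_of_surjective e.toMonoidHom e.surjective

theorem comm_congr {G : Type u} {T : Type*} [Group G] [Group T] (e : G ≃* T) (hna : ¬ IsMulCommutative G) :
    ¬ IsMulCommutative T := by
  intro h
  apply hna
  refine ⟨⟨fun a b => e.injective ?_⟩⟩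
  rw [map_mul, map_mul]
  exact h.is_comm.comm _ _

theorem crit_psp_core {F : Type} [Field F] [Fintype F] {m : ℕ} (hm : 2 ≤ m) (h2 : m = 2 → 3 ≤ Fintype.card F)
    [Finite (PSp m F)] (hs : IsSimpleGroup (PSp m F)) (hna : ¬ IsMulCommutative (PSp m F)) : Crit (PSp m F) := by
  obtain ⟨p, f, hp, hf, hF, hch⟩ := field_data F
  have : Fact p.Prime := ⟨hp⟩
  have hL : IsLieTypeChar p (PSp m F) := Or.inr (Or.inl ⟨F, _, _, hch, m, hm, h2, ⟨MulEquiv.refl _⟩⟩)
  have h22 : m = 2 → 3 ≤ p ^ f := fun h => hF ▸ h2 h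
  have hA := Cfsg.Agent.S0814.result p f hf hF m hm h22
  have ho := card_out_of_mulAut hs hna hA
  have hq2 : 2 ≤ p ^ f := by
    calc 2 ≤ p := hp.two_le
      _ = p ^ 1 := (pow_one p).symm
      _ ≤ p ^ f := Nat.pow_le_pow_right hp.pos hf
  have hS : Nat.gcd 2 (p ^ f - 1) * Nat.card (PSp m F) = (p ^ f) ^ (m ^ 2) * sp (p ^ f) m := by
    have h := ClassicalGeometry.AutPSpCount.card_sp (F := F) (m := m) (by omega)
    rw [Cfsg.Agent.S0245.result hF m, hF] at h
    exact h.symm
  have hf2 : 2 * f ≤ p ^ f := two_mul_f_le hp.two_le hf rfl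
  obtain ⟨q, hq⟩ : ∃ q, q = p ^ f := ⟨_, rfl⟩
  rw [← hq] at hS hq2 hf2 ho h22
  have hD : Nat.gcd 2 (q - 1) = 1 ∧ Even q ∨ Nat.gcd 2 (q - 1) = 2 ∧ Odd q := by
    rcases Nat.even_or_odd q with h | h
    · left
      refine ⟨?_, h⟩
      have h1 : Odd (q - 1) := by
        obtain ⟨k, hk⟩ := h
        exact ⟨k - 1, by omega⟩
      exact Nat.Coprime.symm (Odd.coprime_two_right h1)
    · right
      refine ⟨?_, h⟩
      obtain ⟨k, hk⟩ := h
      exact Nat.gcd_eq_left ⟨k, by omega⟩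
  have hspos := sp_pos hq2 m
  have hDd : Nat.gcd 2 (q - 1) ∣ q ^ 2 - 1 := by
    refine (Nat.gcd_dvd_right 2 (q - 1)).trans ?_
    have := Nat.sub_dvd_pow_sub_pow q 1 2
    rwa [one_pow] at this
  rcases Nat.lt_or_ge 2 m with hm3 | hm2
  · -- `m ≥ 3`
    obtain ⟨k, rfl⟩ : ∃ k, m = k + 3 := ⟨m - 3, by omega⟩
    rw [if_neg (by omega), one_mul] at ho
    obtain ⟨D, hDeq⟩ : ∃ D, D = Nat.gcd 2 (q - 1) := ⟨_, rfl⟩
    rw [← hDeq] at hS ho hD hDd
    have hDq : D ≤ 2 ∧ D ≤ q - 1 ∧ 1 ≤ D := by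
      rcases hD with ⟨h, h'⟩ | ⟨h, h'⟩
      · rw [h]; omega
      · rw [h]
        obtain ⟨l, hl⟩ := h'
        omega
    have hb1 : q ^ 2 + 1 ≤ gs (q ^ 2) (k + 2) := by
      have : gs (q ^ 2) 2 = q ^ 2 + 1 := by simp [gs, Finset.sum_range_succ]; ring
      rw [← this]
      exact gs_mono (by omega)
    have hb2 : gs (q ^ 2) (k + 2) ≤ gs (q ^ 2) (k + 3) := gs_mono (by omega)
    have hDf : 2 * (D * f) ≤ q ^ 2 + 1 := by nlinarith
    refine crit_num (N := (k + 3) ^ 2) (D := D) (M' := sp q (k + 3)) (o := D * f) (a := gs (q ^ 2) (k + 2))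
      (b := gs (q ^ 2) (k + 3)) hs hL hq hf hS (sp_cop (by omega) _) ho.le (gs_coprime _ _) ?_
      (hDf.trans hb1) (hDf.trans (hb1.trans hb2)) ?_ hspos
    · exact (mul_dvd_mul_left _ hDd).trans (sp_dvd (by omega) (k + 1))
    · have h1 := sp_bound hq2 (k + 3)
      have h3 : q ^ ((k + 3) * (k + 3 + 1)) = q ^ ((k + 3) ^ 2) * q ^ (k + 3) := by
        rw [← pow_add]; congr 1; ring
      rw [h3] at h1
      have h4 : 3 * (D * f) * D ≤ q ^ (k + 3) := by
        have h5 : q ^ 3 ≤ q ^ (k + 3) := Nat.pow_le_pow_right (by omega) (by omega)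
        refine le_trans ?_ h5
        have h7 : 3 * D * D ≤ 2 * q ^ 2 := by
          have : D ≤ q - 1 := hDq.2.1
          have : D + 1 ≤ q := by omega
          nlinarith
        have h8 : (3 * D * D) * (2 * f) ≤ 2 * q ^ 2 * q := Nat.mul_le_mul h7 hf2
        nlinarith
      have h6 : 3 * (2 * (D * f) * q ^ ((k + 3) ^ 2) * D) ≤ 3 * sp q (k + 3) := by
        refine le_trans ?_ h1
        calc 3 * (2 * (D * f) * q ^ ((k + 3) ^ 2) * D) = 2 * (q ^ ((k + 3) ^ 2) * (3 * (D * f) * D)) := by ring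
          _ ≤ _ := by gcongr
      omega
  · obtain rfl : m = 2 := by omega
    have hq3 : 3 ≤ q := h22 rfl
    have e1 : sp q 2 = (q ^ 2 - 1) * (q ^ 4 - 1) := by simp [sp, Finset.prod_range_succ]
    have e2 : q ^ 4 - 1 = (q ^ 2 - 1) * (q ^ 2 + 1) := by
      have : 1 ≤ q ^ 2 := Nat.one_le_pow _ _ (by omega)
      have h4 : 1 ≤ q ^ 4 := Nat.one_le_pow _ _ (by omega)
      zify [this, h4]
      ring
    have hq9 : 9 ≤ q ^ 2 := by nlinarith
    have hs2 : ∃ s, q ^ 2 = s + 1 := ⟨q ^ 2 - 1, by omega⟩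
    obtain ⟨s, hs1⟩ := hs2
    have e3 : q ^ 2 - 1 = s := by omega
    have e4 : q ^ 4 = (s + 1) ^ 2 := by rw [← hs1]; ring
    rcases hD with ⟨hD, hev⟩ | ⟨hD, hod⟩
    · -- `q` even
      have hp2 : p = 2 := by
        rcases hp.eq_two_or_odd' with h | h
        · exact h
        · exfalso
          have := h.pow (n := f)
          rw [← hq] at this
          exact (Nat.not_odd_iff_even.2 hev) this
      rw [if_pos ⟨rfl, hp2⟩, hD, mul_one] at ho
      rw [hD] at hS
      have hq4 : 4 ≤ q := by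
        obtain ⟨l, hl⟩ := hev
        omega
      refine crit_num (N := 2 ^ 2) (D := 1) (M' := sp q 2) (o := 2 * f) (a := q ^ 2 - 1)
        (b := q ^ 2 + 1) hs hL hq hf hS (sp_cop (by omega) _) ho.le ?_ ?_ ?_ ?_ ?_ hspos
      · have h1 : q ^ 2 + 1 = (q ^ 2 - 1) + 2 := by omega
        rw [h1, Nat.coprime_self_add_right]
        have h2 : Odd (q ^ 2 - 1) := by
          have : Even (q ^ 2) := hev.pow_of_ne_zero (by norm_num)
          obtain ⟨l, hl⟩ := this
          exact ⟨l - 1, by omega⟩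
        exact Odd.coprime_two_right h2
      · rw [mul_one, e1, e2]
        exact ⟨q ^ 2 - 1, by ring⟩
      · have : 4 * q ≤ q ^ 2 := by nlinarith
        omega
      · have : 4 * q ≤ q ^ 2 := by nlinarith
        omega
      · rw [e1, e3, e4, show (2 : ℕ) ^ 2 = 4 by norm_num, e4]
        have h1 : 2 * (2 * f) ≤ 2 * q := by omega
        have h2 : 8 * (2 * q) ≤ 4 * (s + 1) := by rw [← hs1]; nlinarith
        have h3 : 15 ≤ s := by nlinarith
        have h4 : (s + 1) ^ 2 - 1 = s * s + 2 * s := by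
          have : (s + 1) ^ 2 = s * s + 2 * s + 1 := by ring
          omega
        rw [h4]
        have h5 : 2 * (2 * f) * (s + 1) ^ 2 * 1 ≤ (2 * q) * (s + 1) ^ 2 := by nlinarith [sq_nonneg (s + 1)]
        refine h5.trans ?_
        have h6 : 2 * (2 * q) ≤ s + 1 := by omega
        have h7 : 2 * ((2 * q) * (s + 1) ^ 2) ≤ 2 * (s * (s * s + 2 * s)) := by
          calc 2 * ((2 * q) * (s + 1) ^ 2) = (2 * (2 * q)) * (s + 1) ^ 2 := by ring
            _ ≤ (s + 1) * (s + 1) ^ 2 := by gcongr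
            _ ≤ 2 * (s * (s * s + 2 * s)) := by nlinarith [Nat.mul_le_mul h3 (le_refl (s * s)), Nat.mul_le_mul h3 (le_refl s)]
        omega
    · -- `q` odd
      have hp2 : p ≠ 2 := by
        rintro rfl
        have : Even ((2 : ℕ) ^ f) := (by decide : Even 2).pow_of_ne_zero (by omega)
        rw [← hq] at this
        exact (Nat.not_even_iff_odd.2 hod) this
      rw [if_neg (by rintro ⟨-, h⟩; exact hp2 h), hD, one_mul] at ho
      rw [hD] at hS
      have hp3 : 3 ≤ p := by have := hp.two_le; omega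
      have hf3 : 3 * f ≤ q := three_mul_f_le hp3 hf hq
      obtain ⟨l, hl⟩ := hod
      have hq8 : ∃ t, q ^ 2 = 8 * t + 1 := by
        obtain ⟨t, ht⟩ : 2 ∣ l * (l + 1) := (Nat.even_mul_succ_self l).two_dvd
        exact ⟨t, by rw [hl]; nlinarith⟩
      obtain ⟨t, ht⟩ := hq8
      have hb : (q ^ 2 + 1) / 2 = 4 * t + 1 := by omega
      have hs8 : s = 8 * t := by omega
      rcases Nat.lt_or_ge q 5 with hq5 | hq5
      · -- `q = 3`
        have hq3' : q = 3 := by omega
        have hf1 : f = 1 := by omega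
        have hp3' : p = 3 := by rw [hf1, pow_one] at hq; omega
        have hcard : Nat.card (PSp 2 F) = 25920 := by
          rw [e1, hq3'] at hS
          norm_num at hS
          omega
        rw [hf1] at ho
        obtain ⟨x, hx⟩ := exists_reg (N := 4) (M := 320) hs hL (by rw [hcard, hp3']; norm_num) (by rw [hp3']; norm_num)
        rw [hp3'] at hx
        refine crit_expl x hcard (by norm_num) ho hx [(2, 6, 1), (3, 4, 0), (5, 1, 0)] (by norm_num) ?_ (by norm_num)
        intro t ht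
        simp only [List.mem_cons, List.not_mem_nil, or_false] at ht
        rcases ht with rfl | rfl | rfl <;> norm_num
      · refine crit_num (N := 2 ^ 2) (D := 2) (M' := sp q 2) (o := 2 * f) (a := q ^ 2 - 1)
          (b := 4 * t + 1) hs hL hq hf hS (sp_cop (by omega) _) ho.le ?_ ?_ ?_ ?_ ?_ hspos
        · rw [e3, hs8]
          have h1 : Nat.Coprime (4 * t) (4 * t + 1) := by simp
          have h2 : Nat.Coprime 2 (4 * t + 1) := by
            rw [Nat.coprime_two_left]
            exact ⟨2 * t, by ring⟩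
          have h3 := Nat.Coprime.mul_left h2 h1
          rwa [show 2 * (4 * t) = 8 * t by ring] at h3
        · rw [e1, e2, e3]
          exact ⟨s, by rw [ht]; ring⟩
        · have : 5 * q ≤ q ^ 2 := by nlinarith
          omega
        · have : 5 * q ≤ q ^ 2 := by nlinarith
          omega
        · rw [e1, e3, show (2 : ℕ) ^ 2 = 4 by norm_num, e4]
          have h4 : (s + 1) ^ 2 - 1 = s * s + 2 * s := by
            have : (s + 1) ^ 2 = s * s + 2 * s + 1 := by ring
            omega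
          rw [h4]
          have h1 : 5 * q ≤ s + 1 := by rw [← hs1]; nlinarith
          have h3 : 24 ≤ s := by nlinarith
          have h5 : 15 * (2 * (2 * f) * 2) ≤ 8 * (s + 1) := by omega
          have h6 : 15 * (2 * (2 * f) * (s + 1) ^ 2 * 2) ≤ 15 * (s * (s * s + 2 * s)) := by
            calc 15 * (2 * (2 * f) * (s + 1) ^ 2 * 2) = (15 * (2 * (2 * f) * 2)) * (s + 1) ^ 2 := by ring
              _ ≤ (8 * (s + 1)) * (s + 1) ^ 2 := by gcongr
              _ ≤ _ := by nlinarith [Nat.mul_le_mul h3 (le_refl (s * s)), Nat.mul_le_mul h3 (le_refl s)]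
          omega

theorem crit_psp {G : Type u} [Group G] [Finite G] (hs : IsSimpleGroup G) (hna : ¬ IsMulCommutative G) (hG : IsPSp G) :
    Crit G := by
  obtain ⟨F, _, _, m, hm, h2, ⟨e⟩⟩ := hG
  have : Finite (PSp m F) := Finite.of_equiv _ e.toEquiv
  exact Crit.congr e.symm (crit_psp_core hm h2 (simple_congr e hs) (comm_congr e hna))

end Cfsg.Agent.H548.RowPSp
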