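import Mathlib
import Cfsg.Agent.H548.RowPSp
import Cfsg.Agent.S0243
import Cfsg.Agent.S2601
import Cfsg.Agent.SmallSimple.Simple168Classes

/-!
# `Crit` for `PSL_n(q)`, `n ≥ 3` (helper548, for S4239)
-/

set_option autoImplicit false

namespace Cfsg.Agent.H548.RowPSL

open Cfsg Cfsg.Agent.H548.Crit Cfsg.Agent.H548.LieNum Cfsg.Agent.H548.LieArith Cfsg.Agent.H548.RowPSp

universe u

theorem prod_eq {q : ℕ} (hq : 1 ≤ q) (k : ℕ) : ∏ i : Fin (k + 1), (q ^ (k + 1) - q ^ (i : ℕ)) =
    (q - 1) * (q ^ (∑ i ∈ Finset.range (k + 1), i) * ln q k) := by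
  rw [Fin.prod_univ_eq_prod_range (fun i => q ^ (k + 1) - q ^ i) (k + 1)]
  have h1 : ∏ i ∈ Finset.range (k + 1), (q ^ (k + 1) - q ^ i) =
      ∏ i ∈ Finset.range (k + 1), (q ^ i * (q ^ ((k + 1 - 1 - i) + 1) - 1)) := by
    refine Finset.prod_congr rfl fun i hi => ?_
    have hi' := Finset.mem_range.1 hi
    rw [Nat.mul_sub, mul_one, ← pow_add]
    congr 2
    omega
  rw [h1, Finset.prod_mul_distrib, Finset.prod_pow_eq_pow_sum,
    Finset.prod_range_reflect (fun i => q ^ (i + 1) - 1) (k + 1), Finset.prod_range_succ']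
  rw [zero_add, pow_one]
  unfold ln
  ring

theorem sum_eq (k : ℕ) : lnE k + 1 = (∑ i ∈ Finset.range (k + 1), i) + (k + 1) := by
  induction k with
  | zero => simp [lnE]
  | succ k ih =>
    rw [lnE_succ, Finset.sum_range_succ]
    omega

theorem pow_lnE {q : ℕ} (hq : 1 ≤ q) (k : ℕ) : q ^ lnE k = q ^ (∑ i ∈ Finset.range (k + 1), i) * q ^ k := by
  have h1 := sum_eq k
  rw [← pow_add]
  congr 1
  omega

/-- `n = k + 1 ≥ 4`: the criterion in terms of two inequalities. -/
theorem psl_aux {G : Type u} [Group G] [Finite G] (hs : IsSimpleGroup G) {p f q k D : ℕ} (hL : IsLieTypeChar p G)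
    (hq : q = p ^ f) (hf : 1 ≤ f) (hq2 : 2 ≤ q) (hD : D ∣ q - 1)
    (hS : D * Nat.card G = q ^ (∑ i ∈ Finset.range (k + 2 + 1), i) * ln q (k + 2))
    (ho : Nat.card (Out G) = D * (2 * f)) (h1 : 2 * (D * (2 * f)) ≤ gs q (k + 2))
    (h2 : 2 * (D * (2 * f)) * q ^ (∑ i ∈ Finset.range (k + 2 + 1), i) * D ≤ ln q (k + 2)) : Crit G := by
  refine crit_num (N := ∑ i ∈ Finset.range (k + 2 + 1), i) (D := D) (M' := ln q (k + 2)) (o := D * (2 * f))
    (a := gs q (k + 2)) (b := gs q (k + 3)) hs hL hq hf hS (ln_cop (by omega) _) ho.le (gs_coprime _ _) ?_ h1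
    (h1.trans (gs_mono (by omega))) h2 (ln_pos hq2 _)
  exact (mul_dvd_mul_left _ hD).trans (ln_dvd (by omega) k)

theorem h2_of {q k D f : ℕ} (hq2 : 2 ≤ q) (h : 8 * f * D ^ 2 ≤ q ^ (k + 2)) :
    2 * (D * (2 * f)) * q ^ (∑ i ∈ Finset.range (k + 2 + 1), i) * D ≤ ln q (k + 2) := by
  have h1 := ln_bound hq2 (k + 1)
  rw [show k + 1 + 1 = k + 2 by ring, pow_lnE (by omega)] at h1
  have h2 : 2 * (2 * (D * (2 * f)) * q ^ (∑ i ∈ Finset.range (k + 2 + 1), i) * D) ≤ 2 * ln q (k + 2) := by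
    refine le_trans ?_ h1
    calc 2 * (2 * (D * (2 * f)) * q ^ (∑ i ∈ Finset.range (k + 2 + 1), i) * D)
        = q ^ (∑ i ∈ Finset.range (k + 2 + 1), i) * (8 * f * D ^ 2) := by ring
      _ ≤ _ := by gcongr
  omega

theorem gs_three' (q : ℕ) : gs q 3 = q ^ 2 + q + 1 := by
  simp [gs, Finset.sum_range_succ]; ring

theorem gs_four' (q : ℕ) : gs q 4 = q ^ 3 + q ^ 2 + q + 1 := by
  simp [gs, Finset.sum_range_succ]; ring

theorem ln_two (q : ℕ) : ln q 2 = (q ^ 2 - 1) * (q ^ 3 - 1) := by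
  simp [ln, Finset.prod_range_succ]

theorem ln_three (q : ℕ) : ln q 3 = (q ^ 2 - 1) * (q ^ 3 - 1) * (q ^ 4 - 1) := by
  simp [ln, Finset.prod_range_succ]

theorem ln_three_bound {q : ℕ} (hq : 3 ≤ q) : 4 * q ^ 9 ≤ 5 * ln q 3 := by
  rw [ln_three]
  have h2 : 9 ≤ q ^ 2 := by nlinarith
  have h3 : 27 ≤ q ^ 3 := by
    calc 27 = 3 ^ 3 := by norm_num
      _ ≤ q ^ 3 := Nat.pow_le_pow_left hq 3
  have h4 : 81 ≤ q ^ 4 := by
    calc 81 = 3 ^ 4 := by norm_num
      _ ≤ q ^ 4 := Nat.pow_le_pow_left hq 4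
  have a2 : 8 * q ^ 2 ≤ 9 * (q ^ 2 - 1) := by omega
  have a3 : 26 * q ^ 3 ≤ 27 * (q ^ 3 - 1) := by omega
  have a4 : 80 * q ^ 4 ≤ 81 * (q ^ 4 - 1) := by omega
  have h5 := Nat.mul_le_mul (Nat.mul_le_mul a2 a3) a4
  have e1 : 8 * q ^ 2 * (26 * q ^ 3) * (80 * q ^ 4) = 16640 * q ^ 9 := by ring
  have e2 : 9 * (q ^ 2 - 1) * (27 * (q ^ 3 - 1)) * (81 * (q ^ 4 - 1)) =
    19683 * ((q ^ 2 - 1) * (q ^ 3 - 1) * (q ^ 4 - 1)) := by ring
  rw [e1, e2] at h5
  generalize (q ^ 2 - 1) * (q ^ 3 - 1) * (q ^ 4 - 1) = X at *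
  generalize q ^ 9 = Y at *
  omega

theorem psl_four_le {G : Type u} [Group G] [Finite G] (hs : IsSimpleGroup G) {p f q k D : ℕ} (hp : p.Prime)
    (hL : IsLieTypeChar p G) (hq : q = p ^ f) (hf : 1 ≤ f) (hk : 1 ≤ k) (hD : D = Nat.gcd (k + 3) (q - 1))
    (hS : D * Nat.card G = q ^ (∑ i ∈ Finset.range (k + 2 + 1), i) * ln q (k + 2))
    (ho : Nat.card (Out G) = D * (2 * f)) : Crit G := by
  have hq2 : 2 ≤ q := by
    rw [hq]
    calc 2 ≤ p := hp.two_le
      _ = p ^ 1 := (pow_one p).symm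
      _ ≤ p ^ f := Nat.pow_le_pow_right hp.pos hf
  have hf2 : 2 * f ≤ q := two_mul_f_le hp.two_le hf hq
  have hDn : D ∣ k + 3 := hD ▸ Nat.gcd_dvd_left _ _
  have hDq : D ∣ q - 1 := hD ▸ Nat.gcd_dvd_right _ _
  have hDle : D ≤ q - 1 := Nat.le_of_dvd (by omega) hDq
  have hD1 : 1 ≤ D := Nat.pos_of_dvd_of_pos hDn (by omega)
  have hDk : D ≤ k + 3 := Nat.le_of_dvd (by omega) hDn
  obtain ⟨r, rfl⟩ : ∃ r, q = r + 1 := ⟨q - 1, by omega⟩
  rw [Nat.add_sub_cancel] at hDle hDq
  rcases Nat.lt_or_ge 2 k with hk3 | hk2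
  · -- `n ≥ 6`
    refine psl_aux hs hL hq hf hq2 hDq hS ho ?_ (h2_of hq2 ?_)
    · refine le_trans ?_ (gs_mono (show 4 ≤ k + 2 by omega))
      rw [gs_four']
      have h1 : 2 * (D * (2 * f)) ≤ 2 * (r * (r + 1)) := by gcongr
      nlinarith
    · have h1 : 8 * f * D ^ 2 ≤ 4 * (r + 1) * r ^ 2 := by
        calc 8 * f * D ^ 2 = 4 * (2 * f) * D ^ 2 := by ring
          _ ≤ 4 * (r + 1) * r ^ 2 := by gcongr
      have h2 : 2 * r ≤ (r + 1) ^ 2 := by nlinarith
      have h3 : 4 * (r + 1) * r ^ 2 ≤ (r + 1) ^ 5 := by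
        calc 4 * (r + 1) * r ^ 2 = (r + 1) * (2 * r) ^ 2 := by ring
          _ ≤ (r + 1) * ((r + 1) ^ 2) ^ 2 := by gcongr
          _ = (r + 1) ^ 5 := by ring
      exact (h1.trans h3).trans (Nat.pow_le_pow_right (by omega) (by omega))
  · rcases Nat.lt_or_ge 1 k with hk2' | hk1
    · -- `n = 5`
      obtain rfl : k = 2 := by omega
      refine psl_aux hs hL hq hf hq2 hDq hS ho ?_ (h2_of hq2 ?_)
      · change _ ≤ gs (r + 1) 4
        rw [gs_four']
        have h1 : 2 * (D * (2 * f)) ≤ 2 * (r * (r + 1)) := by gcongr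
        nlinarith
      · change _ ≤ (r + 1) ^ 4
        have h5 : Nat.Prime 5 := by norm_num
        rcases (Nat.dvd_prime h5).1 hDn with rfl | rfl
        · have h1 : 8 * f * 1 ^ 2 ≤ 4 * (r + 1) := by omega
          have h2 : 4 * (r + 1) ≤ (r + 1) ^ 4 := by
            have : 2 ^ 3 ≤ (r + 1) ^ 3 := Nat.pow_le_pow_left hq2 3
            calc 4 * (r + 1) ≤ (r + 1) ^ 3 * (r + 1) := by gcongr; omega
              _ = (r + 1) ^ 4 := by ring
          exact h1.trans h2
        · have h1 : 8 * f * 5 ^ 2 ≤ 100 * (r + 1) := by omega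
          have h2 : 100 * (r + 1) ≤ (r + 1) ^ 4 := by
            have : 6 ^ 3 ≤ (r + 1) ^ 3 := Nat.pow_le_pow_left (by omega) 3
            calc 100 * (r + 1) ≤ (r + 1) ^ 3 * (r + 1) := by gcongr; omega
              _ = (r + 1) ^ 4 := by ring
          exact h1.trans h2
    · -- `n = 4`
      obtain rfl : k = 1 := by omega
      rcases Nat.even_or_odd (r + 1) with hev | hod
      · have hDodd : D = 1 := by
          have h1 : Odd r := by
            obtain ⟨l, hl⟩ := hev
            exact ⟨l - 1, by omega⟩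
          have h2 : Odd D := h1.of_dvd_nat hDq
          have h3 : Nat.Coprime (2 ^ 2) D := Nat.Coprime.pow_left 2 (Nat.coprime_two_left.2 h2)
          have h4 : D ∣ 2 ^ 2 := hDn
          exact h3.symm.eq_one_of_dvd h4
        refine psl_aux hs hL hq hf hq2 hDq hS ho ?_ (h2_of hq2 ?_)
        · change _ ≤ gs (r + 1) 3
          rw [gs_three', hDodd]
          nlinarith
        · change _ ≤ (r + 1) ^ 3
          rw [hDodd]
          have h2 : 4 * (r + 1) ≤ (r + 1) ^ 3 := by
            have : 2 ^ 2 ≤ (r + 1) ^ 2 := Nat.pow_le_pow_left hq2 2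
            calc 4 * (r + 1) ≤ (r + 1) ^ 2 * (r + 1) := by gcongr; omega
              _ = (r + 1) ^ 3 := by ring
          omega
      · have hp3 : 3 ≤ p := by
          have := hp.two_le
          rcases hp.eq_two_or_odd' with h | h
          · exfalso
            rw [hq, h] at hod
            exact (Nat.not_odd_iff_even.2 ((by decide : Even 2).pow_of_ne_zero (by omega : f ≠ 0))) hod
          · obtain ⟨l, hl⟩ := h
            omega
        have hf3 : 3 * f ≤ r + 1 := three_mul_f_le hp3 hf hq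
        have hq3 : 3 ≤ r + 1 := by omega
        have h49 := ln_three_bound hq3
        have hkey : 5 * f * D ^ 2 ≤ (r + 1) ^ 3 ∧ 2 * (D * (2 * f)) ≤ (r + 1) ^ 2 + (r + 1) + 1 := by
          rcases Nat.lt_or_ge (r + 1) 6 with hr | hr
          · -- `q = 3, 5`
            have hf1 : f = 1 := by omega
            have hr' : r = 2 ∨ r = 4 := by
              obtain ⟨l, hl⟩ := hod
              omega
            rcases hr' with rfl | rfl
            · rw [hf1]
              have hD2 : D ≤ 2 := hDle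
              constructor
              · calc 5 * 1 * D ^ 2 ≤ 5 * 1 * 2 ^ 2 := by gcongr
                  _ ≤ _ := by norm_num
              · omega
            · rw [hf1]
              have hD2 : D ≤ 4 := hDle
              constructor
              · calc 5 * 1 * D ^ 2 ≤ 5 * 1 * 4 ^ 2 := by gcongr
                  _ ≤ _ := by norm_num
              · omega
          · constructor
            · calc 5 * f * D ^ 2 ≤ 5 * f * 4 ^ 2 := by gcongr
                _ ≤ 36 * (r + 1) := by omega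
                _ ≤ (r + 1) ^ 2 * (r + 1) := by gcongr; nlinarith
                _ = _ := by ring
            · have h1 : 2 * (D * (2 * f)) ≤ 2 * (4 * (2 * f)) := by gcongr
              nlinarith
        refine psl_aux hs hL hq hf hq2 hDq hS ho ?_ ?_
        · change _ ≤ gs (r + 1) 3
          rw [gs_three']
          exact hkey.2
        · change 2 * (D * (2 * f)) * (r + 1) ^ 6 * D ≤ ln (r + 1) 3
          have h1 : 5 * (2 * (D * (2 * f)) * (r + 1) ^ 6 * D) ≤ 4 * (r + 1) ^ 9 := by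
            calc 5 * (2 * (D * (2 * f)) * (r + 1) ^ 6 * D) = 4 * (r + 1) ^ 6 * (5 * f * D ^ 2) := by ring
              _ ≤ 4 * (r + 1) ^ 6 * (r + 1) ^ 3 := by gcongr; exact hkey.1
              _ = _ := by ring
          omega

/-! ### `PSL_3(q)` -/

theorem psl_three {G : Type u} [Group G] [Finite G] (hs : IsSimpleGroup G) {p f q D : ℕ} (hp : p.Prime)
    (hL : IsLieTypeChar p G) (hq : q = p ^ f) (hf : 1 ≤ f) (hD : D = Nat.gcd 3 (q - 1)) (hq3 : 3 ≤ q) (hq4 : q ≠ 4)
    (hS : D * Nat.card G = q ^ 3 * ((q ^ 2 - 1) * (q ^ 3 - 1)))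
    (ho : Nat.card (Out G) = D * (2 * f)) : Crit G := by
  have hf2 : 2 * f ≤ q := two_mul_f_le hp.two_le hf hq
  have hDn : D ∣ 3 := hD ▸ Nat.gcd_dvd_left _ _
  have hDq : D ∣ q - 1 := hD ▸ Nat.gcd_dvd_right _ _
  have hlpos := ln_pos (q := q) (by omega) 2
  have hlcop := ln_cop (q := q) (by omega) 2
  rw [ln_two] at hlpos hlcop
  have h2 : 9 ≤ q ^ 2 := by nlinarith
  have h3 : 27 ≤ q ^ 3 := by
    calc 27 = 3 ^ 3 := by norm_num
      _ ≤ q ^ 3 := Nat.pow_le_pow_left hq3 3
  have e3 : q ^ 3 - 1 = (q - 1) * (q ^ 2 + q + 1) := by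
    have h1 : 1 ≤ q := by omega
    have h3' : 1 ≤ q ^ 3 := by omega
    zify [h1, h3']
    ring
  have hc1 : ∀ b, b ∣ q ^ 2 + q + 1 → ¬ 3 ∣ b → Nat.Coprime (q ^ 2 - 1) b := by
    intro b hb hb3
    have e2 : q ^ 2 - 1 = (q - 1) * (q + 1) := by
      have h1 : 1 ≤ q := by omega
      have h2' : 1 ≤ q ^ 2 := by omega
      zify [h1, h2']
      ring
    rw [e2]
    apply Nat.Coprime.mul_left
    · -- `gcd (q - 1) b ∣ 3`
      have h1 : Nat.gcd (q - 1) b ∣ 3 := by
        have h4 : Nat.gcd (q - 1) b ∣ q ^ 2 + q + 1 := (Nat.gcd_dvd_right _ _).trans hb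
        have h5 : Nat.gcd (q - 1) b ∣ (q - 1) * (q + 2) := (Nat.gcd_dvd_left _ _).mul_right _
        have h6 : q ^ 2 + q + 1 = (q - 1) * (q + 2) + 3 := by
          have h1 : 1 ≤ q := by omega
          zify [h1]
          ring
        rw [h6] at h4
        exact (Nat.dvd_add_right h5).1 h4
      rcases (Nat.dvd_prime Nat.prime_three).1 h1 with h4 | h4
      · exact h4
      · exfalso
        apply hb3
        rw [← h4]
        exact Nat.gcd_dvd_right _ _
    · have h4 : Nat.Coprime (q + 1) (q ^ 2 + q + 1) := by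
        have h6 : q ^ 2 + q + 1 = 1 + (q + 1) * q := by ring
        rw [h6, Nat.coprime_add_mul_left_right]
        exact Nat.coprime_one_right _
      exact Nat.Coprime.coprime_dvd_right hb h4
  rcases (Nat.dvd_prime Nat.prime_three).1 hDn with hD1 | hD1
  · rw [hD1] at hS ho
    have hn3 : ¬ 3 ∣ q ^ 2 + q + 1 := by
      intro hd
      have h1 : ¬ 3 ∣ q - 1 := by
        intro h4
        have h5 : 3 ∣ Nat.gcd 3 (q - 1) := Nat.dvd_gcd dvd_rfl h4
        rw [← hD, hD1] at h5
        omega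
      have h6 : q ^ 2 + q + 1 = (q - 1) * (q + 2) + 3 := by
        have h1 : 1 ≤ q := by omega
        zify [h1]
        ring
      rw [h6] at hd
      have h7 : 3 ∣ (q - 1) * (q + 2) := (Nat.dvd_add_left (dvd_refl 3)).1 hd
      rcases (Nat.Prime.dvd_mul Nat.prime_three).1 h7 with h8 | h8
      · exact h1 h8
      · exact h1 (by omega)
    refine crit_num (N := 3) (D := 1) (M' := (q ^ 2 - 1) * (q ^ 3 - 1)) (o := 1 * (2 * f)) (a := q ^ 2 - 1)
      (b := q ^ 2 + q + 1) hs hL hq hf hS hlcop ho.le (hc1 _ dvd_rfl hn3) ?_ ?_ ?_ ?_ hlpos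
    · rw [e3]
      exact ⟨q - 1, by ring⟩
    · have : 3 * q ≤ q ^ 2 := by nlinarith
      omega
    · have : 3 * q ≤ q ^ 2 := by nlinarith
      omega
    · have h4 : 2 * (1 * (2 * f)) * q ^ 3 * 1 ≤ (2 * q) * q ^ 3 := by
        have : 2 * (1 * (2 * f)) ≤ 2 * q := by omega
        calc 2 * (1 * (2 * f)) * q ^ 3 * 1 = 2 * (1 * (2 * f)) * q ^ 3 := by ring
          _ ≤ (2 * q) * q ^ 3 := by gcongr
      refine h4.trans ?_
      have h5 : 8 * q ^ 2 ≤ 9 * (q ^ 2 - 1) := by omega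
      have h6 : 26 * q ^ 3 ≤ 27 * (q ^ 3 - 1) := by omega
      have h7 := Nat.mul_le_mul h5 h6
      have e4 : 8 * q ^ 2 * (26 * q ^ 3) = 208 * (q * (q * q ^ 3)) := by ring
      have e5 : 9 * (q ^ 2 - 1) * (27 * (q ^ 3 - 1)) = 243 * ((q ^ 2 - 1) * (q ^ 3 - 1)) := by ring
      rw [e4, e5] at h7
      have h8 : 3 * (q * q ^ 3) ≤ q * (q * q ^ 3) := Nat.mul_le_mul_right _ hq3
      have e6 : 2 * q * q ^ 3 = 2 * (q * q ^ 3) := by ring
      rw [e6]
      generalize (q ^ 2 - 1) * (q ^ 3 - 1) = X at *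
      generalize q * (q * q ^ 3) = Z at *
      generalize q * q ^ 3 = Y at *
      omega
  · rw [hD1] at hS ho hDq
    obtain ⟨t, ht⟩ := hDq
    have hqt : q = 3 * t + 1 := by omega
    have hkey : 36 * f + 2 ≤ q ^ 2 := by
      rcases Nat.lt_or_ge q 19 with h19 | h19
      · have h2f : 2 ^ f ≤ q := by rw [hq]; exact Nat.pow_le_pow_left hp.two_le f
        have hf5 : f < 5 := by
          by_contra hcon
          have : 2 ^ 5 ≤ 2 ^ f := Nat.pow_le_pow_right (by norm_num) (by omega)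
          omega
        have ht' : t = 2 ∨ t = 3 ∨ t = 4 ∨ t = 5 := by omega
        rcases ht' with rfl | rfl | rfl | rfl
        · -- `q = 7`
          have hq7 : q = 7 := hqt
          have hf1 : f = 1 := by
            by_contra hne
            have hp2 : p = 2 := by
              by_contra hp2
              have hp3 : 3 ≤ p := by have := hp.two_le; omega
              have : 3 ^ 2 ≤ q := by
                rw [hq]
                calc 3 ^ 2 ≤ p ^ 2 := Nat.pow_le_pow_left hp3 2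
                  _ ≤ p ^ f := Nat.pow_le_pow_right hp.pos (by omega)
              omega
            rw [hp2, hq7] at hq
            have : Even (2 ^ f) := (by decide : Even 2).pow_of_ne_zero (by omega)
            rw [← hq] at this
            exact absurd this (by decide)
          rw [hf1, hq7]
          norm_num
        · -- `q = 10`
          have hq10 : q = 10 := hqt
          exfalso
          rw [hq10] at hq
          have h5 : Nat.Prime 5 := by norm_num
          have h1 : 5 ∣ p ^ f := hq ▸ (by norm_num : 5 ∣ 10)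
          have h2 : 2 ∣ p ^ f := hq ▸ (by norm_num : 2 ∣ 10)
          have h3 := (Nat.prime_dvd_prime_iff_eq h5 hp).1 (h5.dvd_of_dvd_pow h1)
          have h4 := (Nat.prime_dvd_prime_iff_eq Nat.prime_two hp).1 (Nat.prime_two.dvd_of_dvd_pow h2)
          omega
        · have hq13 : q = 13 := hqt
          have : f ≤ 3 := by
            by_contra hcon
            have : 2 ^ 4 ≤ 2 ^ f := Nat.pow_le_pow_right (by norm_num) (by omega)
            omega
          rw [hq13]
          omega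
        · have hq13 : q = 16 := hqt
          rw [hq13]
          omega
      · have : 19 * q ≤ q ^ 2 := by nlinarith
        omega
    have hb : q ^ 2 + q + 1 = 3 * (3 * t ^ 2 + 3 * t + 1) := by rw [hqt]; ring
    refine crit_num (N := 3) (D := 3) (M' := (q ^ 2 - 1) * (q ^ 3 - 1)) (o := 3 * (2 * f)) (a := q ^ 2 - 1)
      (b := 3 * t ^ 2 + 3 * t + 1) hs hL hq hf hS hlcop ho.le (hc1 _ ?_ ?_) ?_ ?_ ?_ ?_ hlpos
    · rw [hb]
      exact Dvd.intro_left 3 rfl
    · omega
    · rw [e3, hb]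
      exact ⟨q - 1, by ring⟩
    · omega
    · omega
    · have h4 : 2 * (3 * (2 * f)) * q ^ 3 * 3 ≤ (q ^ 2 - 2) * q ^ 3 := by
        calc 2 * (3 * (2 * f)) * q ^ 3 * 3 = (36 * f) * q ^ 3 := by ring
          _ ≤ (q ^ 2 - 2) * q ^ 3 := by gcongr; omega
      refine h4.trans ?_
      obtain ⟨s, hs'⟩ : ∃ s, q ^ 2 = s + 2 := ⟨q ^ 2 - 2, by omega⟩
      obtain ⟨w, hw⟩ : ∃ w, q ^ 3 = w + 1 := ⟨q ^ 3 - 1, by omega⟩
      have hsw : s + 1 ≤ w + 1 := by
        have : q ^ 2 ≤ q ^ 3 := Nat.pow_le_pow_right (by omega) (by norm_num)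
        omega
      rw [hs', hw, show s + 2 - 2 = s by omega, show s + 2 - 1 = s + 1 by omega, show w + 1 - 1 = w by omega]
      nlinarith

/-- A group of order 168. -/
theorem crit_168 {G : Type u} [Group G] [Finite G] (hs : IsSimpleGroup G) (hc : Nat.card G = 168)
    (ho : Nat.card (Out G) = 2) : Crit G := by
  have := hs
  obtain ⟨T⟩ : Nonempty (Sylow 2 G) := inferInstance
  obtain ⟨r, -, hr⟩ := SmallSimple.Simple168Classes.exists_four hc T
  have h4 := SmallSimple.Simple168Classes.card_centralizer_four hc r hr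
  refine crit_expl r hc (by norm_num) ho h4.le [(2, 3, 1), (3, 1, 0), (7, 1, 0)] (by norm_num) ?_ (by norm_num)
  intro t ht
  simp only [List.mem_cons, List.not_mem_nil, or_false] at ht
  rcases ht with rfl | rfl | rfl <;> norm_num

/-! ### `PSL_3(4)` -/

section Four

open Matrix

variable {F : Type} [Field F]

/-- companion matrix of `X^3 - X^2 - 1` -/
def comp (F : Type) [Field F] : SpecialLinearGroup (Fin 3) F :=
  ⟨!![0, 0, 1; 1, 0, 0; 0, 1, 1], by simp [Matrix.det_fin_three]⟩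

theorem comp_trace : (comp F : Matrix (Fin 3) (Fin 3) F).trace = 1 := by
  simp [comp, Matrix.trace, Fin.sum_univ_three]

theorem comm_of_mk {g : SpecialLinearGroup (Fin 3) F}
    (h : (QuotientGroup.mk g : ProjectiveSpecialLinearGroup (Fin 3) F) ∈
      Subgroup.centralizer {(QuotientGroup.mk (comp F) : ProjectiveSpecialLinearGroup (Fin 3) F)}) :
    g * comp F = comp F * g := by
  rw [Subgroup.mem_centralizer_singleton_iff] at h
  have h1 : (QuotientGroup.mk (comp F * g) : ProjectiveSpecialLinearGroup (Fin 3) F) = QuotientGroup.mk (g * comp F) :=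
    h.symm
  rw [QuotientGroup.eq] at h1
  obtain ⟨r, hr, hr'⟩ := Matrix.SpecialLinearGroup.mem_center_iff.1 h1
  -- `comp F * g * z = g * comp F`
  have h2 : comp F * g * ((comp F * g)⁻¹ * (g * comp F)) = g * comp F := mul_inv_cancel_left _ _
  have h3 : (comp F : Matrix (Fin 3) (Fin 3) F) * (g : Matrix (Fin 3) (Fin 3) F) * Matrix.scalar (Fin 3) r =
      (g : Matrix (Fin 3) (Fin 3) F) * (comp F : Matrix (Fin 3) (Fin 3) F) := by
    rw [hr', ← Matrix.SpecialLinearGroup.coe_mul, ← Matrix.SpecialLinearGroup.coe_mul, h2,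
      Matrix.SpecialLinearGroup.coe_mul]
  have h4 : (comp F : Matrix (Fin 3) (Fin 3) F) * (g : Matrix (Fin 3) (Fin 3) F) * Matrix.scalar (Fin 3) r =
      r • ((comp F : Matrix (Fin 3) (Fin 3) F) * (g : Matrix (Fin 3) (Fin 3) F)) := by
    rw [Matrix.scalar_apply, ← Matrix.smul_eq_mul_diagonal]
  have h5 : r = 1 := by
    have hg : (g : Matrix (Fin 3) (Fin 3) F) * ((g⁻¹ : SpecialLinearGroup (Fin 3) F) : Matrix (Fin 3) (Fin 3) F) = 1 := by
      rw [← Matrix.SpecialLinearGroup.coe_mul, mul_inv_cancel, Matrix.SpecialLinearGroup.coe_one]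
    have h6 := congrArg (fun M => (M * ((g⁻¹ : SpecialLinearGroup (Fin 3) F) : Matrix (Fin 3) (Fin 3) F)).trace)
      (h4.symm.trans h3)
    simp only [Matrix.smul_mul, Matrix.mul_assoc, hg, Matrix.mul_one, Matrix.trace_smul, comp_trace] at h6
    rw [← Matrix.mul_assoc, Matrix.trace_mul_comm, ← Matrix.mul_assoc] at h6
    have hg' : ((g⁻¹ : SpecialLinearGroup (Fin 3) F) : Matrix (Fin 3) (Fin 3) F) * (g : Matrix (Fin 3) (Fin 3) F) = 1 := by
      rw [← Matrix.SpecialLinearGroup.coe_mul, inv_mul_cancel, Matrix.SpecialLinearGroup.coe_one]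
    rw [hg', Matrix.one_mul, comp_trace] at h6
    simpa using h6
  apply Subtype.ext
  rw [h4, h5, one_smul] at h3
  exact h3.symm

theorem col_inj {g g' : SpecialLinearGroup (Fin 3) F} (hg : g * comp F = comp F * g) (hg' : g' * comp F = comp F * g')
    (h : ∀ i, (g : Matrix (Fin 3) (Fin 3) F) i 0 = (g' : Matrix (Fin 3) (Fin 3) F) i 0) : g = g' := by
  have key : ∀ g : SpecialLinearGroup (Fin 3) F, g * comp F = comp F * g →
      (g : Matrix (Fin 3) (Fin 3) F) 0 1 = (g : Matrix (Fin 3) (Fin 3) F) 2 0 ∧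
      (g : Matrix (Fin 3) (Fin 3) F) 1 1 = (g : Matrix (Fin 3) (Fin 3) F) 0 0 ∧
      (g : Matrix (Fin 3) (Fin 3) F) 2 1 = (g : Matrix (Fin 3) (Fin 3) F) 1 0 + (g : Matrix (Fin 3) (Fin 3) F) 2 0 ∧
      (g : Matrix (Fin 3) (Fin 3) F) 0 2 = (g : Matrix (Fin 3) (Fin 3) F) 2 1 ∧
      (g : Matrix (Fin 3) (Fin 3) F) 1 2 = (g : Matrix (Fin 3) (Fin 3) F) 0 1 ∧
      (g : Matrix (Fin 3) (Fin 3) F) 2 2 = (g : Matrix (Fin 3) (Fin 3) F) 1 1 + (g : Matrix (Fin 3) (Fin 3) F) 2 1 := by
    intro g hg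
    have h1 : (g : Matrix (Fin 3) (Fin 3) F) * (comp F : Matrix (Fin 3) (Fin 3) F) =
        (comp F : Matrix (Fin 3) (Fin 3) F) * (g : Matrix (Fin 3) (Fin 3) F) := by
      rw [← Matrix.SpecialLinearGroup.coe_mul, hg, Matrix.SpecialLinearGroup.coe_mul]
    have e00 := congrFun (congrFun h1 0) 0
    have e10 := congrFun (congrFun h1 1) 0
    have e20 := congrFun (congrFun h1 2) 0
    have e01 := congrFun (congrFun h1 0) 1
    have e11 := congrFun (congrFun h1 1) 1
    have e21 := congrFun (congrFun h1 2) 1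
    simp [comp, Matrix.mul_apply, Fin.sum_univ_three] at e00 e10 e20 e01 e11 e21
    exact ⟨e00, e10, e20, e01, e11, e21⟩
  obtain ⟨a1, a2, a3, a4, a5, a6⟩ := key g hg
  obtain ⟨b1, b2, b3, b4, b5, b6⟩ := key g' hg'
  apply Subtype.ext
  ext i j
  fin_cases j
  · exact h i
  · fin_cases i
    · change (g : Matrix (Fin 3) (Fin 3) F) 0 1 = (g' : Matrix (Fin 3) (Fin 3) F) 0 1
      rw [a1, b1, h]
    · change (g : Matrix (Fin 3) (Fin 3) F) 1 1 = (g' : Matrix (Fin 3) (Fin 3) F) 1 1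
      rw [a2, b2, h]
    · change (g : Matrix (Fin 3) (Fin 3) F) 2 1 = (g' : Matrix (Fin 3) (Fin 3) F) 2 1
      rw [a3, b3, h, h]
  · fin_cases i
    · change (g : Matrix (Fin 3) (Fin 3) F) 0 2 = (g' : Matrix (Fin 3) (Fin 3) F) 0 2
      rw [a4, b4, a3, b3, h, h]
    · change (g : Matrix (Fin 3) (Fin 3) F) 1 2 = (g' : Matrix (Fin 3) (Fin 3) F) 1 2
      rw [a5, b5, a1, b1, h]
    · change (g : Matrix (Fin 3) (Fin 3) F) 2 2 = (g' : Matrix (Fin 3) (Fin 3) F) 2 2
      rw [a6, b6, a2, b2, a3, b3, h, h, h]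

theorem two_mul_le [Fintype F] (hF : Fintype.card F = 4) :
    Nat.card (Subgroup.centralizer {(QuotientGroup.mk (comp F) : ProjectiveSpecialLinearGroup (Fin 3) F)}) ≤ 31 := by
  classical
  set C := Subgroup.centralizer {(QuotientGroup.mk (comp F) : ProjectiveSpecialLinearGroup (Fin 3) F)} with hC
  set Z := Subgroup.center (SpecialLinearGroup (Fin 3) F) with hZ
  have hfin : Finite (ProjectiveSpecialLinearGroup (Fin 3) F) := inferInstanceAs (Finite (_ ⧸ _))
  set H := C.comap (QuotientGroup.mk' Z) with hH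
  have h1 : Nat.card H = Nat.card C * Nat.card Z := by
    have a1 := Subgroup.card_mul_index H
    have a2 := Subgroup.card_mul_index C
    have a3 : H.index = C.index := Subgroup.index_comap_of_surjective C (QuotientGroup.mk'_surjective Z)
    have a4 : Nat.card (SpecialLinearGroup (Fin 3) F) =
        Nat.card (ProjectiveSpecialLinearGroup (Fin 3) F) * Nat.card Z := Subgroup.card_eq_card_quotient_mul_card_subgroup Z
    rw [a4, ← a2, a3] at a1
    have a5 : C.index ≠ 0 := Subgroup.index_ne_zero_of_finite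
    apply Nat.eq_of_mul_eq_mul_right (Nat.pos_of_ne_zero a5)
    rw [a1]
    ring
  have h2 : Nat.card H < 64 := by
    let φ : H → {v : Fin 3 → F // v ≠ 0} := fun g =>
      ⟨fun i => (g.1 : Matrix (Fin 3) (Fin 3) F) i 0, by
        intro h0
        have hdet := g.1.2
        rw [Matrix.det_eq_zero_of_column_eq_zero 0 fun i => congrFun h0 i] at hdet
        exact zero_ne_one hdet⟩
    have hφ : Function.Injective φ := by
      intro g g' h
      have h3 := congrArg Subtype.val h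
      apply Subtype.ext
      exact col_inj (comm_of_mk g.2) (comm_of_mk g'.2) fun i => congrFun h3 i
    have h3 : Nat.card H ≤ Nat.card {v : Fin 3 → F // v ≠ 0} := Nat.card_le_card_of_injective φ hφ
    have h4 : Nat.card {v : Fin 3 → F // v ≠ 0} < Nat.card (Fin 3 → F) :=
      Finite.card_subtype_lt (x := 0) (by simp)
    have h5 : Nat.card (Fin 3 → F) = 64 := by
      rw [Nat.card_eq_fintype_card, Fintype.card_fun, Fintype.card_fin, hF]
      norm_num
    omega
  have h3 : 2 ≤ Nat.card Z := by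
    obtain ⟨r, hr0, hr1⟩ : ∃ r : F, r ≠ 0 ∧ r ≠ 1 := by
      by_contra hcon
      push Not at hcon
      have h4 : (Finset.univ : Finset F) ⊆ {0, 1} := by
        intro r _
        by_cases hr : r = 0
        · simp [hr]
        · simp [hcon r hr]
      have h5 := Finset.card_le_card h4
      rw [Finset.card_univ, hF] at h5
      have h6 : ({0, 1} : Finset F).card ≤ 2 := Finset.card_le_two
      omega
    have hr3 : r ^ 3 = 1 := by
      have := FiniteField.pow_card_sub_one_eq_one r hr0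
      rwa [hF] at this
    let s : SpecialLinearGroup (Fin 3) F := ⟨Matrix.scalar (Fin 3) r, by
      rw [Matrix.scalar_apply, Matrix.det_diagonal, Finset.prod_const, Finset.card_univ, Fintype.card_fin, hr3]⟩
    have hs : s ∈ Z := Matrix.SpecialLinearGroup.mem_center_iff.2 ⟨r, by rw [Fintype.card_fin, hr3], rfl⟩
    have hs1 : s ≠ 1 := by
      intro h
      have h4 := congrFun (congrFun (congrArg (fun g : SpecialLinearGroup (Fin 3) F => (g : Matrix (Fin 3) (Fin 3) F)) h) 0) 0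
      simp [s] at h4
      exact hr1 h4
    have h4 : Nontrivial Z := ⟨⟨s, hs⟩, 1, fun h => hs1 (congrArg Subtype.val h)⟩
    exact Finite.one_lt_card
  have h4 : Nat.card C * 2 ≤ Nat.card C * Nat.card Z := Nat.mul_le_mul_left _ h3
  omega

end Four

theorem crit_L34 {G : Type u} [Group G] [Finite G] {F : Type} [Field F] [Fintype F] (hF : Fintype.card F = 4)
    (e : G ≃* Matrix.ProjectiveSpecialLinearGroup (Fin 3) F) (hc : Nat.card G = 20160) (ho : Nat.card (Out G) = 12) :
    Crit G := by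
  have h1 := two_mul_le hF
  rw [← MulEquiv.apply_symm_apply e (QuotientGroup.mk (comp F)), ← card_centralizer_congr e] at h1
  refine crit_expl _ hc (by norm_num) ho h1 [(2, 6, 2), (3, 2, 1), (5, 1, 0), (7, 1, 0)] (by norm_num) ?_ (by norm_num)
  intro t ht
  simp only [List.mem_cons, List.not_mem_nil, or_false] at ht
  rcases ht with rfl | rfl | rfl | rfl <;> norm_num

theorem card_out_psl {F : Type} [Field F] [Fintype F] {p f n : ℕ} [Fact p.Prime] (hf : 1 ≤ f)
    (hF : Fintype.card F = p ^ f) (hn : 3 ≤ n) :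
    Nat.card (Out (Matrix.ProjectiveSpecialLinearGroup (Fin n) F)) = Nat.gcd n (p ^ f - 1) * (2 * f) := by
  obtain ⟨φ, h1, -, h2⟩ := Cfsg.Agent.S2601.result hf hF hn
  have h3 := Subgroup.card_mul_index φ.ker
  rw [h2, Subgroup.index_ker, MonoidHom.range_eq_top.2 h1, Subgroup.card_top] at h3
  rw [← h3]
  congr 1
  have h4 : Nat.card (Multiplicative (ZMod f × ZMod 2)) = Nat.card (ZMod f × ZMod 2) :=
    Nat.card_congr Multiplicative.toAdd
  rw [h4, Nat.card_prod, Nat.card_zmod, Nat.card_zmod, mul_comm]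

theorem crit_psl {G : Type u} [Group G] [Finite G] (hs : IsSimpleGroup G) {F : Type} [iF : Field F] [iF' : Fintype F]
    {n : ℕ} (hn : 3 ≤ n) (e : G ≃* Matrix.ProjectiveSpecialLinearGroup (Fin n) F) : Crit G := by
  obtain ⟨p, f, hp, hf, hF, hch⟩ := field_data F
  have : Fact p.Prime := ⟨hp⟩
  have hL : IsLieTypeChar p G := Or.inl ⟨F, iF, iF', hch, n, by omega, fun h => absurd h (by omega), ⟨e⟩⟩
  have ho : Nat.card (Out G) = Nat.gcd n (p ^ f - 1) * (2 * f) := by
    rw [card_out_congr e, card_out_psl hf hF hn]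
  have hS := Cfsg.Agent.S0243.result hF n (by omega)
  rw [← Nat.card_congr e.toEquiv] at hS
  have hq2 : 2 ≤ p ^ f := by
    calc 2 ≤ p := hp.two_le
      _ = p ^ 1 := (pow_one p).symm
      _ ≤ p ^ f := Nat.pow_le_pow_right hp.pos hf
  obtain ⟨q, hq⟩ : ∃ q, q = p ^ f := ⟨_, rfl⟩
  rw [← hq] at hS hq2 ho hF
  obtain ⟨k, rfl⟩ : ∃ k, n = k + 2 + 1 := ⟨n - 3, by omega⟩
  rw [prod_eq (by omega)] at hS
  have hS' : Nat.gcd (k + 3) (q - 1) * Nat.card G =
      q ^ (∑ i ∈ Finset.range (k + 2 + 1), i) * ln q (k + 2) := by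
    apply Nat.eq_of_mul_eq_mul_left (show 0 < q - 1 by omega)
    rw [← hS]
    ring
  rcases Nat.eq_zero_or_pos k with hk | hk
  · subst hk
    have e3 : ∑ i ∈ Finset.range (0 + 2 + 1), i = 3 := by decide
    rw [e3, show (0 : ℕ) + 3 = 3 by norm_num, show (0 : ℕ) + 2 = 2 by norm_num, ln_two] at hS'
    by_cases hq22 : q = 2
    · rw [hq22] at hS' ho
      have hf1 : f = 1 := by
        have h1 := two_mul_f_le hp.two_le hf hq
        omega
      rw [hf1] at ho
      norm_num at hS' ho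
      exact crit_168 hs hS' ho
    · by_cases hq4 : q = 4
      · rw [hq4] at hS' ho
        have hf1 : f = 2 := by
          have h1 := two_mul_f_le hp.two_le hf hq
          have h2 : f ≠ 1 := by
            rintro rfl
            rw [hq4, pow_one] at hq
            rw [← hq] at hp
            exact absurd hp (by norm_num)
          omega
        rw [hf1] at ho
        norm_num at hS' ho
        exact crit_L34 (hF.trans hq4) e (by omega) ho
      · exact psl_three hs hp hL hq hf rfl (by omega) hq4 hS' ho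
  · exact psl_four_le hs hp hL hq hf hk rfl hS' ho

end Cfsg.Agent.H548.RowPSL
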