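import Cfsg.Agent.H439.Der.Defs
import Cfsg.Agent.H394.SqBasic
import Cfsg.Agent.H357.NT
import Cfsg.Agent.S0713
import Cfsg.Agent.S2119

/-!
# One class of derangements: the alternating groups (helper548, S3500, task 2395)

* `row_alt` : every proper subgroup of `Alt n`, `n ≥ 7`, misses two cycle types.
-/

set_option autoImplicit false
set_option linter.unusedSectionVars false

namespace Cfsg.Agent.H548.DerAlt

open Equiv Equiv.Perm MulAction Cfsg.Agent.H439.Der Cfsg.Agent.H394 Cfsg.Agent.H394.SqBasic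
open scoped Pointwise

variable {n : ℕ}

/-- the cycle type `c` is missing -/
def Miss (M : Subgroup (alternatingGroup (Fin n))) (c : Multiset ℕ) : Prop :=
  ∀ g ∈ M, (g : Perm (Fin n)).cycleType ≠ c

/-- an even cycle type -/
def IsAlt (n : ℕ) (c : Multiset ℕ) : Prop :=
  c.sum ≤ n ∧ (∀ a ∈ c, 2 ≤ a) ∧ Even (c.sum + Multiset.card c)

theorem exists_alt {c : Multiset ℕ} (h : IsAlt n c) :
    ∃ x : alternatingGroup (Fin n), (x : Perm (Fin n)).cycleType = c := by
  obtain ⟨h1, h2, h3⟩ := h
  obtain ⟨g, hg⟩ : ∃ g : Perm (Fin n), g.cycleType = c := by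
    rw [exists_with_cycleType_iff]
    exact ⟨by rwa [Fintype.card_fin], h2⟩
  refine ⟨⟨g, ?_⟩, hg⟩
  rw [mem_alternatingGroup, sign_of_cycleType, hg]
  exact h3.neg_one_pow

theorem cycleType_aut (hn : 7 ≤ n) (φ : alternatingGroup (Fin n) ≃* alternatingGroup (Fin n))
    (x : alternatingGroup (Fin n)) :
    ((φ x : alternatingGroup (Fin n)) : Perm (Fin n)).cycleType = (x : Perm (Fin n)).cycleType := by
  obtain ⟨σ, hσ⟩ := (Cfsg.Agent.S2119.result n (by omega) (by omega)).2 φ
  have h1 : φ x = (MulAut.conjNormal σ : MulAut (alternatingGroup (Fin n))) x := by rw [hσ]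
  rw [h1, MulAut.conjNormal_apply, cycleType_conj]

theorem two_of_miss (hn : 7 ≤ n) {M : Subgroup (alternatingGroup (Fin n))} {c d : Multiset ℕ} (hcd : c ≠ d)
    (hc : IsAlt n c) (hd : IsAlt n d) (h1 : Miss M c) (h2 : Miss M d) : Two (alternatingGroup (Fin n)) M := by
  obtain ⟨x, hx⟩ := exists_alt hc
  obtain ⟨y, hy⟩ := exists_alt hd
  refine ⟨x, y, fun φ hφ => h1 _ hφ ?_, fun φ hφ => h2 _ hφ ?_, fun φ hφ => hcd ?_⟩
  · rw [cycleType_aut hn, hx]
  · rw [cycleType_aut hn, hy]
  · rw [← hx, ← hy, ← hφ, cycleType_aut hn]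

/-! ### invariant sets -/

/-- the lengths of the cycles in an invariant set -/
theorem sub_type {g : Perm (Fin n)} {Δ : Finset (Fin n)} (h : ∀ x ∈ Δ, g x ∈ Δ) :
    ∃ c₁ ≤ g.cycleType, c₁.sum ≤ Δ.card ∧ Δ.card + g.cycleType.sum ≤ c₁.sum + n := by
  classical
  have hiff : ∀ x, g x ∈ Δ ↔ x ∈ Δ := by
    have hmap : Δ.image g = Δ := by
      refine Finset.eq_of_subset_of_card_le ?_ ?_
      · intro y hy
        obtain ⟨x, hx, rfl⟩ := Finset.mem_image.1 hy
        exact h x hx
      · rw [Finset.card_image_of_injective _ g.injective]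
    intro x
    refine ⟨fun hx => ?_, h x⟩
    rw [← hmap, Finset.mem_image] at hx
    obtain ⟨y, hy, hyx⟩ := hx
    rwa [← g.injective hyx]
  set g₁ : Perm (Fin n) := ofSubtype (g.subtypePerm (p := fun x => x ∈ Δ) hiff) with hg₁
  have h1 : ∀ x ∈ Δ, g₁ x = g x := fun x hx => by
    rw [hg₁, ofSubtype_apply_of_mem _ hx]
    rfl
  have h2 : ∀ x, x ∉ Δ → g₁ x = x := fun x hx => ofSubtype_apply_of_not_mem _ hx
  set g₂ : Perm (Fin n) := g₁⁻¹ * g with hg₂
  have h3 : ∀ x ∈ Δ, g₂ x = x := fun x hx => by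
    rw [hg₂, Perm.mul_apply, Perm.inv_eq_iff_eq, h1 x hx]
  have h4 : ∀ x, x ∉ Δ → g₂ x = g x := fun x hx => by
    rw [hg₂, Perm.mul_apply, Perm.inv_eq_iff_eq, h2]
    rwa [hiff]
  have hdis : Perm.Disjoint g₁ g₂ := fun x => by
    by_cases hx : x ∈ Δ
    · exact Or.inr (h3 x hx)
    · exact Or.inl (h2 x hx)
  have hg : g = g₁ * g₂ := by rw [hg₂, mul_inv_cancel_left]
  have hct : g.cycleType = g₁.cycleType + g₂.cycleType := by
    conv_lhs => rw [hg]
    exact hdis.cycleType_mul
  refine ⟨g₁.cycleType, ?_, ?_, ?_⟩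
  · rw [hct]
    exact Multiset.le_add_right _ _
  · rw [sum_cycleType]
    refine Finset.card_le_card fun x hx => ?_
    by_contra hx'
    exact (mem_support.1 hx) (h2 x hx')
  · rw [hct, Multiset.sum_add, sum_cycleType g₂]
    have h5 : g₂.support ⊆ Δᶜ := by
      intro x hx
      rw [Finset.mem_compl]
      intro hx'
      exact (mem_support.1 hx) (h3 x hx')
    have h6 := Finset.card_le_card h5
    rw [Finset.card_compl, Fintype.card_fin] at h6
    have h7 : Δ.card ≤ n := by
      have := Finset.card_le_univ Δ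
      rwa [Fintype.card_fin] at this
    omega

theorem sum_one {a : ℕ} {c : Multiset ℕ} (h : c ≤ {a}) : c.sum = 0 ∨ c.sum = a := by
  rw [Multiset.le_singleton] at h
  rcases h with rfl | rfl
  · exact Or.inl rfl
  · exact Or.inr (by simp)

theorem le_cons_cases {a : ℕ} {s c : Multiset ℕ} (h : c ≤ a ::ₘ s) : c ≤ s ∨ ∃ t ≤ s, c = a ::ₘ t := by
  rw [← Multiset.mem_powerset, Multiset.powerset_cons, Multiset.mem_add, Multiset.mem_powerset, Multiset.mem_map] at h
  rcases h with h | ⟨t, ht, rfl⟩
  · exact Or.inl h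
  · exact Or.inr ⟨t, Multiset.mem_powerset.1 ht, rfl⟩

theorem sum_two {a b : ℕ} {c : Multiset ℕ} (h : c ≤ {a, b}) :
    c.sum = 0 ∨ c.sum = a ∨ c.sum = b ∨ c.sum = a + b := by
  rcases le_cons_cases h with h1 | ⟨t, ht, rfl⟩
  · rcases sum_one h1 with h2 | h2 <;> omega
  · rw [Multiset.sum_cons]
    rcases sum_one ht with h2 | h2 <;> omega

theorem sum_three {a b d : ℕ} {c : Multiset ℕ} (h : c ≤ {a, b, d}) :
    c.sum = 0 ∨ c.sum = a ∨ c.sum = b ∨ c.sum = d ∨ c.sum = a + b ∨ c.sum = a + d ∨ c.sum = b + d ∨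
      c.sum = a + b + d := by
  rcases le_cons_cases h with h1 | ⟨t, ht, rfl⟩
  · rcases sum_two h1 with h2 | h2 | h2 | h2 <;> omega
  · rw [Multiset.sum_cons]
    rcases sum_two ht with h2 | h2 | h2 | h2 <;> omega

section

variable {M : Subgroup (alternatingGroup (Fin n))} {Δ : Finset (Fin n)}

theorem miss_one {a : ℕ} (hinv : ∀ g ∈ M, ∀ x ∈ Δ, (g : Perm (Fin n)) x ∈ Δ) 
    (h0 : n < Δ.card + a) (h1 : Δ.card < a) : Miss M {a} := by
  intro g hg hc
  obtain ⟨c₁, hc₁, h2, h3⟩ := sub_type (hinv g hg)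
  rw [hc] at hc₁ h3
  rw [Multiset.sum_singleton] at h3
  rcases sum_one hc₁ with h | h <;> omega

theorem miss_two {a b : ℕ} (hinv : ∀ g ∈ M, ∀ x ∈ Δ, (g : Perm (Fin n)) x ∈ Δ)
    (h0 : n < Δ.card + (a + b)) (h1 : Δ.card < a ∨ n < Δ.card + b) (h2 : Δ.card < b ∨ n < Δ.card + a)
    (h3 : Δ.card < a + b) : Miss M {a, b} := by
  intro g hg hc
  obtain ⟨c₁, hc₁, h4, h5⟩ := sub_type (hinv g hg)
  rw [hc] at hc₁ h5
  have h6 : ({a, b} : Multiset ℕ).sum = a + b := by simp
  rw [h6] at h5
  rcases sum_two hc₁ with h | h | h | h <;> omega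

/-- intransitive groups -/
theorem two_of_intrans (hn : 7 ≤ n) (hinv : ∀ g ∈ M, ∀ x ∈ Δ, (g : Perm (Fin n)) x ∈ Δ) (h1 : 1 ≤ Δ.card)
    (h2 : 2 * Δ.card ≤ n) : Two (alternatingGroup (Fin n)) M := by
  have hcardne : ∀ {a b c : ℕ}, ({a} : Multiset ℕ) ≠ {b, c} := by
    intro a b c h
    have := congrArg Multiset.card h
    simp at this
  rcases Nat.even_or_odd n with he | ho
  · have hn8 : 8 ≤ n := by
      rcases Nat.lt_or_ge n 8 with h | h
      · have : n = 7 := by omega
        subst this
        exact absurd he (by decide)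
      · exact h
    have a1 : IsAlt n {n - 1} := by
      refine ⟨by simp, ?_, ?_⟩
      · simp only [Multiset.mem_singleton, forall_eq]
        omega
      · simp only [Multiset.sum_singleton, Multiset.card_singleton]
        rwa [Nat.sub_add_cancel (by omega)]
    have a2 : IsAlt n {n - 3, 3} := by
      refine ⟨?_, ?_, ?_⟩
      · simp only [Multiset.insert_eq_cons, Multiset.sum_cons, Multiset.sum_singleton]
        omega
      · simp only [Multiset.insert_eq_cons, Multiset.mem_cons, Multiset.mem_singleton, forall_eq_or_imp, forall_eq]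
        omega
      · simp only [Multiset.insert_eq_cons, Multiset.sum_cons, Multiset.sum_singleton, Multiset.card_cons,
          Multiset.card_singleton]
        rw [show n - 3 + 3 + (1 + 1) = n + 2 by omega]
        exact he.add even_two
    have a3 : IsAlt n {n - 2, 2} := by
      refine ⟨?_, ?_, ?_⟩
      · simp only [Multiset.insert_eq_cons, Multiset.sum_cons, Multiset.sum_singleton]
        omega
      · simp only [Multiset.insert_eq_cons, Multiset.mem_cons, Multiset.mem_singleton, forall_eq_or_imp, forall_eq]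
        omega
      · simp only [Multiset.insert_eq_cons, Multiset.sum_cons, Multiset.sum_singleton, Multiset.card_cons,
          Multiset.card_singleton]
        rw [show n - 2 + 2 + (1 + 1) = n + 2 by omega]
        exact he.add even_two
    by_cases hk3 : Δ.card = 3
    · exact two_of_miss hn hcardne a1 a3 (miss_one hinv (by omega) (by omega))
        (miss_two hinv (by omega) (by omega) (by omega) (by omega))
    by_cases hk1 : Δ.card = 1
    · refine two_of_miss hn ?_ a2 a3 (miss_two hinv (by omega) (by omega) (by omega) (by omega))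
        (miss_two hinv (by omega) (by omega) (by omega) (by omega))
      intro h
      have h3 : 3 ∈ ({n - 2, 2} : Multiset ℕ) := by rw [← h]; simp
      simp only [Multiset.insert_eq_cons, Multiset.mem_cons, Multiset.mem_singleton] at h3
      omega
    · exact two_of_miss hn hcardne a1 a2 (miss_one hinv (by omega) (by omega))
        (miss_two hinv (by omega) (by omega) (by omega) (by omega))
  · have a1 : IsAlt n {n} := by
      refine ⟨by simp, ?_, ?_⟩
      · simp only [Multiset.mem_singleton, forall_eq]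
        omega
      · simp only [Multiset.sum_singleton, Multiset.card_singleton]
        exact ho.add_one
    have m1 : Miss M {n} := miss_one hinv (by omega) (by omega)
    by_cases hk1 : Δ.card = 1
    · -- `(n - 4, 2, 2)`
      have a2 : IsAlt n {n - 4, 2, 2} := by
        refine ⟨?_, ?_, ?_⟩
        · simp only [Multiset.insert_eq_cons, Multiset.sum_cons, Multiset.sum_singleton]
          omega
        · simp only [Multiset.insert_eq_cons, Multiset.mem_cons, Multiset.mem_singleton, forall_eq_or_imp, forall_eq]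
          omega
        · simp only [Multiset.insert_eq_cons, Multiset.sum_cons, Multiset.sum_singleton, Multiset.card_cons,
            Multiset.card_singleton]
          rw [show n - 4 + (2 + 2) + (1 + 1 + 1) = n + 3 by omega]
          exact ho.add_odd (by decide)
      refine two_of_miss hn ?_ a1 a2 m1 ?_
      · intro h
        have := congrArg Multiset.card h
        simp at this
      · intro g hg hc
        obtain ⟨c₁, hc₁, h4, h5⟩ := sub_type (hinv g hg)
        rw [hc] at hc₁ h5
        have h6 : ({n - 4, 2, 2} : Multiset ℕ).sum = n - 4 + (2 + 2) := by simp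
        rw [h6] at h5
        rcases sum_three hc₁ with h | h | h | h | h | h | h | h <;> omega
    by_cases hk2 : Δ.card = 2
    · have a2 : IsAlt n {n - 4, 3} := by
        refine ⟨?_, ?_, ?_⟩
        · simp only [Multiset.insert_eq_cons, Multiset.sum_cons, Multiset.sum_singleton]
          omega
        · simp only [Multiset.insert_eq_cons, Multiset.mem_cons, Multiset.mem_singleton, forall_eq_or_imp, forall_eq]
          omega
        · simp only [Multiset.insert_eq_cons, Multiset.sum_cons, Multiset.sum_singleton, Multiset.card_cons,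
            Multiset.card_singleton]
          rw [show n - 4 + 3 + (1 + 1) = n + 1 by omega]
          exact ho.add_one
      exact two_of_miss hn hcardne a1 a2 m1 (miss_two hinv (by omega) (by omega) (by omega) (by omega))
    · have a2 : IsAlt n {n - 2} := by
        refine ⟨by simp, ?_, ?_⟩
        · simp only [Multiset.mem_singleton, forall_eq]
          omega
        · simp only [Multiset.sum_singleton, Multiset.card_singleton]
          rw [show n - 2 + 1 = n - 1 by omega]
          exact Nat.Odd.sub_odd ho odd_one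
      refine two_of_miss hn ?_ a1 a2 m1 (miss_one hinv (by omega) (by omega))
      intro h
      rw [Multiset.singleton_inj] at h
      omega

end

/-! ### transitive groups -/

/-- a power is a `q`-cycle -/
theorem pow_cycle {g : Perm (Fin n)} {q k : ℕ} {s : Multiset ℕ} (hq : q.Prime) (hg : g.cycleType = q ::ₘ s)
    (hk0 : 0 < k) (hkq : k < q) (hs : ∀ a ∈ s, a ∣ k) : (g ^ k).IsCycle ∧ (g ^ k).support.card = q := by
  obtain ⟨c, τ, hgc, hdis, hc, hcq⟩ := mem_cycleType_iff.1 (show q ∈ g.cycleType by rw [hg]; exact Multiset.mem_cons_self _ _)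
  have h1 : τ.cycleType = s := by
    have h2 := hdis.cycleType_mul
    rw [← hgc, hg, hc.cycleType, hcq, Multiset.singleton_add] at h2
    exact ((Multiset.cons_inj_right _).1 h2).symm
  have h2 : τ ^ k = 1 := by
    rw [← orderOf_dvd_iff_pow_eq_one, ← lcm_cycleType, h1, Multiset.lcm_dvd]
    exact hs
  have hoc : orderOf c = q := by rw [hc.orderOf, hcq]
  have h3 : g ^ k = c ^ k := by
    rw [hgc, hdis.commute.mul_pow, h2, mul_one]
  have h4 : (c ^ k).IsCycle := hc.isCycle_pow_pos_of_lt_prime_order (by rw [hoc]; exact hq) k hk0 (by rw [hoc]; exact hkq)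
  refine ⟨by rw [h3]; exact h4, ?_⟩
  have h5 : Nat.gcd q k = 1 := (Nat.Prime.coprime_iff_not_dvd hq).2 (Nat.not_dvd_of_pos_of_lt hk0 hkq)
  rw [h3, ← h4.orderOf, orderOf_pow' _ hk0.ne', hoc, h5, Nat.div_one]

/-- primitivity from an element of prime order `l > n / 2` -/
theorem prim_of_mem {M' : Subgroup (Perm (Fin n))} (htr : IsPretransitive M' (Fin n)) (hn : 2 ≤ n) {l : ℕ}
    (hl : l.Prime) (h2l : n < 2 * l) {h : Perm (Fin n)} (hh : h ∈ M') (hhl : h ^ l = 1) (hh1 : h ≠ 1) :
    IsPreprimitive M' (Fin n) := by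
  classical
  let hM : M' := ⟨h, hh⟩
  have hMl : hM ^ l = 1 := Subtype.ext hhl
  have hne : Nonempty (Fin n) := ⟨⟨0, by omega⟩⟩
  refine ⟨fun {B} hB => ?_⟩
  by_contra hnt
  rw [IsTrivialBlock, not_or] at hnt
  obtain ⟨hns, hnu⟩ := hnt
  have hBne : B.Nonempty := by
    by_contra h0
    rw [Set.not_nonempty_iff_eq_empty] at h0
    exact hns (h0 ▸ Set.subsingleton_empty)
  have hcard := hB.ncard_block_mul_ncard_orbit_eq hBne
  have hcn : Nat.card (Fin n) = n := by rw [Nat.card_eq_fintype_card, Fintype.card_fin]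
  rw [hcn] at hcard
  have hB2 : 2 ≤ B.ncard := by
    rw [Nat.succ_le_iff, Set.one_lt_ncard (Set.toFinite B)]
    rw [Set.not_subsingleton_iff] at hns
    obtain ⟨a, ha, b, hb, hab⟩ := hns
    exact ⟨a, ha, b, hb, hab⟩
  have hO2 : 2 ≤ (orbit M' B).ncard := by
    by_contra hlt
    have h1 : (orbit M' B).ncard = 0 ∨ (orbit M' B).ncard = 1 := by omega
    rcases h1 with h1 | h1
    · rw [h1] at hcard; omega
    · rw [h1, mul_one] at hcard
      apply hnu
      apply Set.eq_of_subset_of_ncard_le (Set.subset_univ B)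
      rw [Set.ncard_univ, hcn, hcard]
  have hO : (orbit M' B).ncard < l := by
    by_contra hge
    push Not at hge
    have : 2 * l ≤ B.ncard * (orbit M' B).ncard := Nat.mul_le_mul hB2 hge
    omega
  have hBl : B.ncard < l := by
    by_contra hge
    push Not at hge
    have : l * 2 ≤ B.ncard * (orbit M' B).ncard := Nat.mul_le_mul hge hO2
    omega
  have hfixB : ∀ C ∈ orbit M' B, hM • C = C := by
    intro C hC
    refine fix_of_lt hl hMl (orbit M' B) (Set.toFinite _) ?_ hO C hC
    intro D hD
    exact MulAction.mem_orbit_of_mem_orbit hM hD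
  apply hh1
  ext x : 1
  obtain ⟨b, hb⟩ := hBne
  obtain ⟨m, hm⟩ := htr.exists_smul_eq b x
  have hx : x ∈ m • B := by rw [← hm]; exact Set.smul_mem_smul_set hb
  have h1 := hfixB (m • B) ⟨m, rfl⟩
  have h2 := fix_of_lt hl hMl (m • B) (Set.toFinite _) (fun y hy => by
    have : hM • y ∈ hM • (m • B) := Set.smul_mem_smul_set hy
    rwa [h1] at this) (by rw [Set.ncard_smul_set]; exact hBl) x hx
  exact h2

theorem exists_prime_three {n : ℕ} (hn : 8 ≤ n) : ∃ p : ℕ, p.Prime ∧ n < 2 * p ∧ p + 3 ≤ n := by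
  rcases Nat.lt_or_ge n 44 with h | h
  · rcases Nat.lt_or_ge n 10 with h1 | h1
    · exact ⟨5, by norm_num, by omega, by omega⟩
    rcases Nat.lt_or_ge n 14 with h2 | h2
    · exact ⟨7, by norm_num, by omega, by omega⟩
    rcases Nat.lt_or_ge n 22 with h3 | h3
    · exact ⟨11, by norm_num, by omega, by omega⟩
    rcases Nat.lt_or_ge n 34 with h4 | h4
    · exact ⟨17, by norm_num, by omega, by omega⟩
    · exact ⟨23, by norm_num, by omega, by omega⟩
  · obtain ⟨r, s, hr, -, h1, h2, h3⟩ := Cfsg.Agent.H357.NT.two_primes (n := n - 3) (by omega)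
    exact ⟨r, hr, by omega, by omega⟩

section

variable {M : Subgroup (alternatingGroup (Fin n))}

theorem eq_top_of_le (h : alternatingGroup (Fin n) ≤ M.map (alternatingGroup (Fin n)).subtype) : M = ⊤ := by
  rw [eq_top_iff]
  intro g _
  obtain ⟨g', hg', hgg⟩ := h g.2
  rw [← Subtype.ext (p := (· ∈ alternatingGroup (Fin n))) hgg]
  exact hg'

/-- a missing type by Jordan's theorem -/
theorem miss_of_jordan (hn : 5 ≤ n) (hM : M ≠ ⊤) {q k : ℕ} {s : Multiset ℕ} (hq : q.Prime) (hqn : q + 3 ≤ n)
    (hk0 : 0 < k) (hkq : k < q) (hs : ∀ a ∈ s, a ∣ k)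
    (hprim : ∀ h ∈ M.map (alternatingGroup (Fin n)).subtype, h ^ q = 1 → h ≠ 1 →
      IsPreprimitive (M.map (alternatingGroup (Fin n)).subtype) (Fin n)) : Miss M (q ::ₘ s) := by
  intro g hg hc
  obtain ⟨h1, h2⟩ := pow_cycle hq hc hk0 hkq hs
  have h3 : (g : Perm (Fin n)) ^ k ∈ M.map (alternatingGroup (Fin n)).subtype := ⟨g ^ k, pow_mem hg k, rfl⟩
  have h4 : ((g : Perm (Fin n)) ^ k) ^ q = 1 := by
    rw [← h2, ← h1.orderOf, pow_orderOf_eq_one]
  have hp := hprim _ h3 h4 h1.ne_one
  exact hM (eq_top_of_le (Cfsg.Agent.S0713.result _ hp hq (by rwa [Fintype.card_fin]) (by rwa [Fintype.card_fin]) h1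
    h2 h3))

/-- transitive groups -/
theorem two_of_trans (hn : 7 ≤ n) (hM : M ≠ ⊤)
    (htr : IsPretransitive (M.map (alternatingGroup (Fin n)).subtype) (Fin n)) : Two (alternatingGroup (Fin n)) M := by
  rcases Nat.lt_or_ge n 8 with h | h8
  · have h7 : n = 7 := by omega
    subst h7
    have hprim : IsPreprimitive (M.map (alternatingGroup (Fin 7)).subtype) (Fin 7) := by
      have h7 : Nat.Prime 7 := by norm_num
      have := Fact.mk h7
      have h1 : 7 ∣ Nat.card ↥(M.map (alternatingGroup (Fin 7)).subtype) := by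
        have h2 := MulAction.index_stabilizer_of_transitive (↥(M.map (alternatingGroup (Fin 7)).subtype)) (0 : Fin 7)
        have h3 := Subgroup.index_dvd_card (stabilizer (↥(M.map (alternatingGroup (Fin 7)).subtype)) (0 : Fin 7))
        rwa [h2, Nat.card_fin] at h3
      obtain ⟨g, hg⟩ := exists_prime_orderOf_dvd_card' 7 h1
      refine prim_of_mem htr (by norm_num) h7 (by norm_num) g.2 ?_ ?_
      · have := pow_orderOf_eq_one g
        rw [hg] at this
        exact congrArg Subtype.val this
      · intro h1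
        have : g = 1 := Subtype.ext h1
        rw [this, orderOf_one] at hg
        omega
    refine two_of_miss (c := {3}) (d := 3 ::ₘ {2, 2}) hn ?_ ?_ ?_ ?_ ?_
    · intro h
      have := congrArg Multiset.card h
      simp at this
    · exact ⟨by simp, by simp, by simp; decide⟩
    · exact ⟨by simp, by simp, by simp; decide⟩
    · exact miss_of_jordan (s := 0) (k := 1) (by norm_num) hM (by norm_num) (by norm_num) (by norm_num) (by norm_num)
        (by simp) fun _ _ _ _ => hprim
    · exact miss_of_jordan (k := 2) (by norm_num) hM (by norm_num) (by norm_num) (by norm_num) (by norm_num)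
        (by simp) fun _ _ _ _ => hprim
  · obtain ⟨p, hp, hp1, hp2⟩ := exists_prime_three h8
    have hodd : Odd p := hp.odd_of_ne_two (by omega)
    refine two_of_miss (c := {p}) (d := p ::ₘ {3}) hn ?_ ?_ ?_ ?_ ?_
    · intro h
      have := congrArg Multiset.card h
      simp at this
    · refine ⟨?_, ?_, ?_⟩
      · rw [Multiset.sum_singleton]; omega
      · simp only [Multiset.mem_singleton, forall_eq]; omega
      · rw [Multiset.sum_singleton, Multiset.card_singleton]; exact hodd.add_one
    · refine ⟨?_, ?_, ?_⟩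
      · rw [Multiset.sum_cons, Multiset.sum_singleton]; omega
      · simp only [Multiset.mem_cons, Multiset.mem_singleton, forall_eq_or_imp, forall_eq]
        omega
      · rw [Multiset.sum_cons, Multiset.sum_singleton, Multiset.card_cons, Multiset.card_singleton,
          show p + 3 + (1 + 1) = p + 5 by ring]
        exact hodd.add_odd (by decide)
    · exact miss_of_jordan (s := 0) (k := 1) (by omega) hM hp hp2 (by norm_num) hp.one_lt
        (by simp) fun h hh h1 h2 => prim_of_mem htr (by omega) hp hp1 hh h1 h2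
    · exact miss_of_jordan (k := 3) (by omega) hM hp hp2 (by norm_num) (by omega)
        (by simp) fun h hh h1 h2 => prim_of_mem htr (by omega) hp hp1 hh h1 h2

/-- **every proper subgroup of `Alt n` misses two cycle types** -/
theorem two_alt (hn : 7 ≤ n) (hM : M ≠ ⊤) : Two (alternatingGroup (Fin n)) M := by
  classical
  by_cases htr : IsPretransitive (M.map (alternatingGroup (Fin n)).subtype) (Fin n)
  · exact two_of_trans hn hM htr
  set M' := M.map (alternatingGroup (Fin n)).subtype with hM'
  have hex : ∃ x y : Fin n, y ∉ orbit M' x := by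
    by_contra h
    push Not at h
    apply htr
    exact ⟨fun x y => h x y⟩
  obtain ⟨x, y, hy⟩ := hex
  let Δ : Finset (Fin n) := (orbit M' x).toFinset
  have hinv : ∀ g ∈ M, ∀ z ∈ Δ, (g : Perm (Fin n)) z ∈ Δ := by
    intro g hg z hz
    rw [Set.mem_toFinset] at hz ⊢
    obtain ⟨m, rfl⟩ := hz
    have hgM : (g : Perm (Fin n)) ∈ M' := ⟨g, hg, rfl⟩
    refine ⟨⟨(g : Perm (Fin n)), hgM⟩ * m, ?_⟩
    change ((⟨(g : Perm (Fin n)), hgM⟩ * m : M') • x : Fin n) = _
    rw [mul_smul]
    rfl
  have hinv' : ∀ g ∈ M, ∀ z ∈ Δᶜ, (g : Perm (Fin n)) z ∈ Δᶜ := by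
    intro g hg z hz
    rw [Finset.mem_compl] at hz ⊢
    intro h
    apply hz
    have := hinv g⁻¹ (inv_mem hg) _ h
    rw [Subgroup.coe_inv, Equiv.Perm.inv_def, Equiv.symm_apply_apply] at this
    exact this
  have hx : x ∈ Δ := by rw [Set.mem_toFinset]; exact mem_orbit_self x
  have hy' : y ∈ Δᶜ := by rw [Finset.mem_compl, Set.mem_toFinset]; exact hy
  have hc : Δᶜ.card = n - Δ.card := by rw [Finset.card_compl, Fintype.card_fin]
  have h1 : 1 ≤ Δ.card := Finset.card_pos.2 ⟨x, hx⟩
  have h2 : 1 ≤ Δᶜ.card := Finset.card_pos.2 ⟨y, hy'⟩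
  rcases Nat.lt_or_ge n (2 * Δ.card) with h | h
  · exact two_of_intrans hn hinv' h2 (by omega)
  · exact two_of_intrans hn hinv h1 h

end

/-- **the row of the alternating groups** -/
theorem row_alt {n : ℕ} (hn : 7 ≤ n) : Row (alternatingGroup (Fin n)) :=
  fun _ hM => Or.inl (two_alt hn hM.1)

end Cfsg.Agent.H548.DerAlt
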