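import Mathlib
import Cfsg.Agent.H548.RowPSp
import Cfsg.Agent.S0254
import Cfsg.Agent.S2602
import Cfsg.Agent.S2119

/-!
# `Crit` for the alternating groups (helper548, for S4239)
-/

set_option autoImplicit false

namespace Cfsg.Agent.H548.RowAlt

open Cfsg Cfsg.Agent.H548.Crit Cfsg.Agent.H548.LieNum Cfsg.Agent.H548.RowPSp Equiv.Perm

universe u

/-- all prime powers dividing `n!` are at most `2 ^ (n - 1)` -/
theorem ordProj_factorial {p n : ℕ} (hp : p.Prime) (hn : 1 ≤ n) : ordProj[p] (n.factorial) ≤ 2 ^ (n - 1) := by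
  have : Fact p.Prime := ⟨hp⟩
  have h1 := sub_one_mul_padicValNat_factorial (p := p) n
  have h2 : 1 ≤ (p.digits n).sum := by
    by_contra hcon
    have h3 : (p.digits n).sum = 0 := by omega
    have h4 : n = 0 := by
      rw [List.sum_eq_zero_iff] at h3
      have h5 : Nat.ofDigits p (p.digits n) = n := Nat.ofDigits_digits p n
      rw [← h5]
      have h6 : ∀ L : List ℕ, (∀ x ∈ L, x = 0) → Nat.ofDigits p L = 0 := by
        intro L
        induction L with
        | nil => intro _; rfl
        | cons a L ih =>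
          intro h
          rw [Nat.ofDigits_cons, h a (by simp), ih fun x hx => h x (by simp [hx])]
          simp
      exact h6 _ h3
    omega
  rw [← Nat.factorization_def _ hp] at h1
  have h5 : p ≤ 2 ^ (p - 1) := by
    obtain ⟨k, rfl⟩ : ∃ k, p = k + 1 := ⟨p - 1, by have := hp.pos; omega⟩
    have := Nat.lt_two_pow_self (n := k)
    simpa using this
  calc p ^ (n.factorial).factorization p ≤ (2 ^ (p - 1)) ^ (n.factorial).factorization p := Nat.pow_le_pow_left h5 _
    _ = 2 ^ ((p - 1) * (n.factorial).factorization p) := by rw [pow_mul]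
    _ ≤ 2 ^ (n - 1) := Nat.pow_le_pow_right (by norm_num) (by omega)

theorem pow_le_factorial (k : ℕ) : 2 ^ (k + 9) ≤ (k + 6).factorial := by
  induction k with
  | zero => norm_num [Nat.factorial]
  | succ k ih =>
    rw [show k + 1 + 9 = (k + 9) + 1 by ring, show k + 1 + 6 = (k + 6) + 1 by ring, pow_succ, Nat.factorial_succ]
    calc 2 ^ (k + 9) * 2 ≤ (k + 6).factorial * (k + 6 + 1) := Nat.mul_le_mul ih (by omega)
      _ = _ := by ring

/-- an odd cycle with few fixed points -/
theorem exists_cycle {n m : ℕ} (hm : m ≤ n) (hm3 : 3 ≤ m) (hodd : Odd m) :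
    ∃ x : alternatingGroup (Fin n), Nat.card (Subgroup.centralizer ({(x : Equiv.Perm (Fin n))} : Set (Equiv.Perm (Fin n)))) =
      (n - m).factorial * m ∧ (x : Equiv.Perm (Fin n)).cycleType = {m} := by
  obtain ⟨g, hg⟩ := (Equiv.Perm.exists_with_cycleType_iff (α := Fin n) (m := {m})).2
    ⟨by rw [Multiset.sum_singleton, Fintype.card_fin]; exact hm, by
      intro a ha
      rw [Multiset.mem_singleton] at ha
      omega⟩
  have hs : Equiv.Perm.sign g = 1 := by
    rw [Equiv.Perm.sign_of_cycleType, hg, Multiset.sum_singleton, Multiset.card_singleton]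
    exact (hodd.add_one).neg_one_pow
  refine ⟨⟨g, Equiv.Perm.mem_alternatingGroup.2 hs⟩, ?_, hg⟩
  rw [Equiv.Perm.nat_card_centralizer, hg]
  simp

theorem centralizer_le {n : ℕ} (x : alternatingGroup (Fin n)) :
    Nat.card (Subgroup.centralizer ({x} : Set (alternatingGroup (Fin n)))) ≤
      Nat.card (Subgroup.centralizer ({(x : Equiv.Perm (Fin n))} : Set (Equiv.Perm (Fin n)))) := by
  refine Nat.card_le_card_of_injective (fun g => ⟨(g : alternatingGroup (Fin n)), ?_⟩) ?_
  · have h := g.2
    rw [Subgroup.mem_centralizer_singleton_iff] at h ⊢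
    exact congrArg Subtype.val h
  · intro g h hgh
    have h1 : ((g : alternatingGroup (Fin n)) : Equiv.Perm (Fin n)) = ((h : alternatingGroup (Fin n)) : Equiv.Perm (Fin n)) :=
      congrArg (fun z : Subgroup.centralizer ({(x : Equiv.Perm (Fin n))} : Set (Equiv.Perm (Fin n))) => (z : Equiv.Perm (Fin n))) hgh
    exact Subtype.ext (Subtype.ext h1)

theorem card_alt {n : ℕ} (hn : 2 ≤ n) : 2 * Nat.card (alternatingGroup (Fin n)) = n.factorial := by
  have : Nontrivial (Fin n) := Fin.nontrivial_iff_two_le.2 hn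
  rw [two_mul_nat_card_alternatingGroup, Nat.card_perm, Nat.card_eq_fintype_card, Fintype.card_fin]

theorem card_out_alt {n : ℕ} (hn : 5 ≤ n) (h6 : n ≠ 6) (hs : IsSimpleGroup (alternatingGroup (Fin n)))
    (hna : ¬ IsMulCommutative (alternatingGroup (Fin n))) : Nat.card (Out (alternatingGroup (Fin n))) = 2 := by
  apply card_out_of_mulAut hs hna
  rw [card_alt (by omega), ← Nat.card_congr (Equiv.ofBijective _ (Cfsg.Agent.S2119.result n (by omega) h6)),
    Nat.card_perm, Nat.card_eq_fintype_card, Fintype.card_fin]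

theorem card_out_six : Nat.card (Out (alternatingGroup (Fin 6))) = 4 := by
  have : Fact (Nat.Prime 3) := ⟨Nat.prime_three⟩
  have : Fintype (GaloisField 3 2) := Fintype.ofFinite _
  have hF : Fintype.card (GaloisField 3 2) = 3 ^ 2 := by
    rw [← Nat.card_eq_fintype_card]
    exact GaloisField.card 3 2 (by norm_num)
  obtain ⟨e⟩ := Cfsg.Agent.S0254.result (F := GaloisField 3 2) (by rw [hF]; norm_num)
  rw [← card_out_congr e]
  obtain ⟨φ, h1, -, h2⟩ := Cfsg.Agent.S2602.result (F := GaloisField 3 2) (p := 3) (f := 2) (by norm_num) hF (by norm_num)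
  have h3 := Subgroup.card_mul_index φ.ker
  rw [h2, Subgroup.index_ker, MonoidHom.range_eq_top.2 h1, Subgroup.card_top] at h3
  have h4 : Nat.card (Multiplicative (ZMod 2)) = 2 := by
    rw [Nat.card_congr Multiplicative.toAdd, Nat.card_zmod]
  rw [h4] at h3
  rw [← h3]
  norm_num

theorem three_cycle : ∃ x : alternatingGroup (Fin 5),
    Nat.card (Subgroup.centralizer ({x} : Set (alternatingGroup (Fin 5)))) ≤ 3 := by
  obtain ⟨x, hx, hxc⟩ := exists_cycle (n := 5) (m := 3) (by norm_num) (by norm_num) (by decide)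
  refine ⟨x, ?_⟩
  have h6 : Nat.card (Subgroup.centralizer ({(x : Equiv.Perm (Fin 5))} : Set (Equiv.Perm (Fin 5)))) = 6 := by
    rw [hx]; rfl
  set C := Subgroup.centralizer ({(x : Equiv.Perm (Fin 5))} : Set (Equiv.Perm (Fin 5))) with hC
  -- an odd permutation commuting with `x`
  have hsupp : (x : Equiv.Perm (Fin 5)).support.card = 3 := by
    rw [← Equiv.Perm.sum_cycleType, hxc, Multiset.sum_singleton]
  obtain ⟨a, b, hab, ha, hb⟩ : ∃ a b : Fin 5, a ≠ b ∧ a ∉ (x : Equiv.Perm (Fin 5)).support ∧
      b ∉ (x : Equiv.Perm (Fin 5)).support := by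
    have h1 : 1 < ((x : Equiv.Perm (Fin 5)).supportᶜ).card := by
      rw [Finset.card_compl, Fintype.card_fin, hsupp]
      norm_num
    obtain ⟨a, ha, b, hb, hab⟩ := Finset.one_lt_card.1 h1
    exact ⟨a, b, hab, Finset.mem_compl.1 ha, Finset.mem_compl.1 hb⟩
  have hsw : Equiv.swap a b ∈ C := by
    rw [hC, Subgroup.mem_centralizer_singleton_iff]
    have hd : Equiv.Perm.Disjoint (Equiv.swap a b) (x : Equiv.Perm (Fin 5)) := by
      intro i
      by_cases hi : i = a
      · right
        rw [hi]
        exact Equiv.Perm.notMem_support.1 ha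
      · by_cases hi' : i = b
        · right
          rw [hi']
          exact Equiv.Perm.notMem_support.1 hb
        · left
          exact Equiv.swap_apply_of_ne_of_ne hi hi'
    exact hd.commute.eq
  -- the index of the alternating part is at least two
  set A := (alternatingGroup (Fin 5)).subgroupOf C with hA
  have hAtop : A ≠ ⊤ := by
    intro h
    have h1 : (⟨Equiv.swap a b, hsw⟩ : C) ∈ A := h ▸ Subgroup.mem_top _
    rw [hA, Subgroup.mem_subgroupOf, Equiv.Perm.mem_alternatingGroup] at h1
    change Equiv.Perm.sign (Equiv.swap a b) = 1 at h1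
    rw [Equiv.Perm.sign_swap hab] at h1
    exact absurd h1 (by decide)
  have hidx : 2 ≤ A.index := by
    have h1 : A.index ≠ 1 := fun h => hAtop (Subgroup.index_eq_one.1 h)
    have h2 : A.index ≠ 0 := Subgroup.index_ne_zero_of_finite
    omega
  have hcm := Subgroup.card_mul_index A
  rw [h6] at hcm
  have h3 : Nat.card A ≤ 3 := by
    have : Nat.card A * 2 ≤ Nat.card A * A.index := Nat.mul_le_mul_left _ hidx
    omega
  refine le_trans ?_ h3
  refine Nat.card_le_card_of_injective (fun g => ⟨⟨((g : alternatingGroup (Fin 5)) : Equiv.Perm (Fin 5)), ?_⟩, ?_⟩) ?_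
  · have h := g.2
    rw [hC]
    rw [Subgroup.mem_centralizer_singleton_iff] at h ⊢
    exact congrArg Subtype.val h
  · rw [hA, Subgroup.mem_subgroupOf]
    exact (g : alternatingGroup (Fin 5)).2
  · intro g h hgh
    exact Subtype.ext (Subtype.ext (congrArg (fun z : A => ((z : C) : Equiv.Perm (Fin 5))) hgh))

theorem crit_alt_core {n : ℕ} (hn : 5 ≤ n) (hs : IsSimpleGroup (alternatingGroup (Fin n)))
    (hna : ¬ IsMulCommutative (alternatingGroup (Fin n))) : Crit (alternatingGroup (Fin n)) := by
  have hc := card_alt (n := n) (by omega)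
  have hn56 : n = 5 ∨ n = 6 ∨ 7 ≤ n := by omega
  rcases hn56 with rfl | rfl | hn7
  · have ho := card_out_alt (n := 5) le_rfl (by norm_num) hs hna
    have hcard : Nat.card (alternatingGroup (Fin 5)) = 60 := by
      rw [show Nat.factorial 5 = 120 from rfl] at hc
      omega
    obtain ⟨x, hx⟩ := three_cycle
    refine crit_expl x hcard (by norm_num) ho hx [(2, 2, 1), (3, 1, 0), (5, 1, 0)] (by norm_num) ?_ (by norm_num)
    intro t ht
    simp only [List.mem_cons, List.not_mem_nil, or_false] at ht
    rcases ht with rfl | rfl | rfl <;> norm_num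
  · have hcard : Nat.card (alternatingGroup (Fin 6)) = 360 := by
      rw [show Nat.factorial 6 = 720 from rfl] at hc
      omega
    obtain ⟨x, hx, -⟩ := exists_cycle (n := 6) (m := 5) (by norm_num) (by norm_num) (by decide)
    have hx' := (centralizer_le x).trans hx.le
    norm_num at hx'
    refine crit_expl x hcard (by norm_num) card_out_six hx' [(2, 3, 2), (3, 2, 0), (5, 1, 0)] (by norm_num) ?_ (by norm_num)
    intro t ht
    simp only [List.mem_cons, List.not_mem_nil, or_false] at ht
    rcases ht with rfl | rfl | rfl <;> norm_num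
  · have ho := card_out_alt hn (by omega) hs hna
    obtain ⟨m, hmn, hm3, hodd, hfac⟩ : ∃ m, m ≤ n ∧ 3 ≤ m ∧ Odd m ∧ (n - m).factorial = 1 := by
      rcases Nat.even_or_odd n with h | h
      · refine ⟨n - 1, by omega, by omega, Nat.Even.sub_odd (by omega) h odd_one, ?_⟩
        rw [show n - (n - 1) = 1 by omega]
        rfl
      · refine ⟨n, le_rfl, by omega, h, ?_⟩
        rw [Nat.sub_self]
        rfl
    obtain ⟨x, hx, -⟩ := exists_cycle hmn hm3 hodd
    rw [hfac, one_mul] at hx
    have hx' : Nat.card (Subgroup.centralizer ({x} : Set (alternatingGroup (Fin n)))) ≤ n :=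
      ((centralizer_le x).trans hx.le).trans hmn
    refine crit_of_card x (o := 2) (B := 2 ^ (n - 1)) hx' ho.le (fun p hp => ?_) ?_
    · refine le_trans ?_ (ordProj_factorial hp (by omega : 1 ≤ n))
      refine Nat.le_of_dvd (pow_pos hp.pos _) (Nat.ordProj_dvd_ordProj_of_dvd (Nat.factorial_ne_zero n) ?_ p)
      rw [← hc]
      exact Dvd.intro_left 2 rfl
    · obtain ⟨k, rfl⟩ : ∃ k, n = k + 7 := ⟨n - 7, by omega⟩
      have h1 := pow_le_factorial k
      have h2 : (k + 7).factorial = (k + 7) * (k + 6).factorial := Nat.factorial_succ _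
      have h3 : 2 * (2 * 2 * 2 ^ (k + 7 - 1) * (k + 7)) ≤ 2 * Nat.card (alternatingGroup (Fin (k + 7))) := by
        rw [hc, h2]
        calc 2 * (2 * 2 * 2 ^ (k + 7 - 1) * (k + 7)) = (k + 7) * 2 ^ (k + 9) := by
              rw [show k + 7 - 1 = k + 6 by omega, show k + 9 = (k + 6) + 3 by ring, pow_add]
              ring
          _ ≤ _ := by gcongr
      omega

theorem crit_alt {G : Type u} [Group G] [Finite G] (hs : IsSimpleGroup G) (hna : ¬ IsMulCommutative G)
    (hG : IsAlternating G) : Crit G := by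
  obtain ⟨n, hn, ⟨e⟩⟩ := hG
  exact Crit.congr e.symm (crit_alt_core hn (simple_congr e hs) (comm_congr e hna))

end Cfsg.Agent.H548.RowAlt
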