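import Mathlib
import Cfsg.Agent.S0023

/-!
Subgroups of a group `G` invariant under a group `A` acting by automorphisms.
-/

set_option autoImplicit false

namespace Cfsg.Agent.H548.InvSub

open Subgroup

/-- `H` is invariant under the action of `A`. -/
def Inv (A : Type*) {G : Type*} [Group A] [Group G] [MulDistribMulAction A G]
    (H : Subgroup G) : Prop :=
  ∀ a : A, ∀ x ∈ H, a • x ∈ H

variable {A G : Type*} [Group A] [Group G] [MulDistribMulAction A G]

theorem Inv.mem_iff {H : Subgroup G} (h : Inv A H) (a : A) (x : G) : a • x ∈ H ↔ x ∈ H := by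
  constructor
  · intro hx
    have := h a⁻¹ _ hx
    rwa [inv_smul_smul] at this
  · exact h a x

theorem Inv.map_eq {H : Subgroup G} (h : Inv A H) (a : A) :
    H.map (MulDistribMulAction.toMonoidHom G a) = H := by
  ext x
  constructor
  · rintro ⟨y, hy, rfl⟩
    exact h a y hy
  · intro hx
    exact ⟨a⁻¹ • x, h a⁻¹ x hx, smul_inv_smul a x⟩

theorem inv_of_map_eq {H : Subgroup G}
    (h : ∀ a : A, H.map (MulDistribMulAction.toMonoidHom G a) = H) : Inv A H := by
  intro a x hx
  rw [← h a]
  exact ⟨x, hx, rfl⟩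

theorem inv_bot : Inv A (⊥ : Subgroup G) := by
  intro a x hx
  rw [Subgroup.mem_bot] at hx ⊢
  rw [hx, smul_one]

theorem inv_top : Inv A (⊤ : Subgroup G) := fun _ _ _ => Subgroup.mem_top _

theorem Inv.inf {H K : Subgroup G} (hH : Inv A H) (hK : Inv A K) : Inv A (H ⊓ K) :=
  fun a x hx => ⟨hH a x hx.1, hK a x hx.2⟩

theorem Inv.sup {H K : Subgroup G} (hH : Inv A H) (hK : Inv A K) : Inv A (H ⊔ K) := by
  apply inv_of_map_eq
  intro a
  rw [Subgroup.map_sup, hH.map_eq, hK.map_eq]

/-- The normalizer of an invariant subgroup is invariant. -/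
theorem Inv.normalizer {H : Subgroup G} (hH : Inv A H) :
    Inv A (Subgroup.normalizer (H : Set G)) := by
  intro a x hx
  rw [Subgroup.mem_normalizer_iff] at hx ⊢
  intro h
  have h1 : h = a • (a⁻¹ • h) := (smul_inv_smul a h).symm
  have h2 : (a • x) * h * (a • x)⁻¹ = a • (x * (a⁻¹ • h) * x⁻¹) := by
    rw [smul_mul', smul_mul', smul_inv', smul_inv_smul]
  have e1 := hH.mem_iff a⁻¹ h
  have e2 := hx (a⁻¹ • h)
  have e3 := hH.mem_iff a (x * (a⁻¹ • h) * x⁻¹)
  rw [h2, e3, ← e2]
  exact e1.symm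

/-- Overgroups: every proper invariant subgroup lies in a maximal one. -/
theorem exists_max [Finite G] {H : Subgroup G} (hH : Inv A H) (hne : H ≠ ⊤) :
    ∃ M : Subgroup G, H ≤ M ∧ M ≠ ⊤ ∧ Inv A M ∧
      ∀ K : Subgroup G, M < K → Inv A K → K = ⊤ := by
  obtain ⟨M, hHM, hM⟩ := (Set.toFinite {K : Subgroup G | K ≠ ⊤ ∧ Inv A K}).exists_le_maximal
    (a := H) ⟨hne, hH⟩
  refine ⟨M, hHM, hM.prop.1, hM.prop.2, ?_⟩
  intro K hMK hK
  by_contra hcon
  exact hMK.not_ge (hM.le_of_ge ⟨hcon, hK⟩ hMK.le)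

/-- The action on the quotient by an invariant normal subgroup. -/
@[reducible] def quotAct (N : Subgroup G) [N.Normal] (hN : Inv A N) : MulDistribMulAction A (G ⧸ N) where
  smul a := QuotientGroup.map N N (MulDistribMulAction.toMonoidHom G a) (fun x hx => hN a x hx)
  one_smul x := by
    obtain ⟨g, rfl⟩ := QuotientGroup.mk_surjective x
    change ((((1 : A) • g : G)) : G ⧸ N) = _
    rw [one_smul]
  mul_smul a b x := by
    obtain ⟨g, rfl⟩ := QuotientGroup.mk_surjective x
    change ((((a * b) • g : G)) : G ⧸ N) = ((a • (b • g) : G) : G ⧸ N)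
    rw [mul_smul]
  smul_one a := by
    change ((a • (1 : G) : G) : G ⧸ N) = _
    rw [smul_one]
    rfl
  smul_mul a x y := map_mul (QuotientGroup.map N N (MulDistribMulAction.toMonoidHom G a) _) x y

theorem quotAct_smul_mk (N : Subgroup G) [N.Normal] (hN : Inv A N) (a : A) (g : G) :
    letI := quotAct N hN
    (a • (g : G ⧸ N)) = ((a • g : G) : G ⧸ N) := rfl

theorem inv_comap_mk (N : Subgroup G) [N.Normal] (hN : Inv A N) (H : Subgroup (G ⧸ N))
    (hH : letI := quotAct N hN; Inv A H) : Inv A (H.comap (QuotientGroup.mk' N)) := by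
  letI := quotAct N hN
  intro a x hx
  exact hH a _ hx

/-- **Invariant Sylow subgroups** of a coprime action. -/
theorem exists_inv_sylow [Finite A] [Finite G] (hcop : (Nat.card A).Coprime (Nat.card G))
    (hsolv : Group.IsSolvable A ∨ Group.IsSolvable G) (q : ℕ) [Fact q.Prime] :
    ∃ Q : Sylow q G, Inv A (Q : Subgroup G) := by
  let φ := MulDistribMulAction.toMulAut A G
  have : Finite (G ⋊[φ] A) := Finite.of_equiv _ (SemidirectProduct.equivProd (φ := φ)).symm
  let K : Subgroup (G ⋊[φ] A) := (SemidirectProduct.inl : G →* G ⋊[φ] A).range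
  let B : Subgroup (G ⋊[φ] A) := (SemidirectProduct.inr : A →* G ⋊[φ] A).range
  have eK : G ≃* K := MonoidHom.ofInjective SemidirectProduct.inl_injective
  have eB : A ≃* B := MonoidHom.ofInjective SemidirectProduct.inr_injective
  have hcK : Nat.card K = Nat.card G := (Nat.card_congr eK.toEquiv).symm
  have hcB : Nat.card B = Nat.card A := (Nat.card_congr eB.toEquiv).symm
  have hconj : ∀ (a : A) (g : G), (SemidirectProduct.inr a : G ⋊[φ] A) *
      SemidirectProduct.inl g * (SemidirectProduct.inr a)⁻¹ = SemidirectProduct.inl (a • g) := by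
    intro a g
    rw [← map_inv, ← SemidirectProduct.inl_aut]
    rfl
  have hBK : B ≤ Subgroup.normalizer (K : Set (G ⋊[φ] A)) := by
    rintro _ ⟨a, rfl⟩
    rw [Subgroup.mem_normalizer_iff]
    intro h
    constructor
    · rintro ⟨g, rfl⟩
      rw [hconj]
      exact ⟨_, rfl⟩
    · rintro ⟨g, hg⟩
      refine ⟨a⁻¹ • g, ?_⟩
      have h1 := hconj a⁻¹ g
      rw [← h1, hg]
      rw [map_inv]
      group
  obtain ⟨P, hP⟩ := Cfsg.Agent.S0023.result B K hBK (by rw [hcB, hcK]; exact hcop)
    (by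
      rcases hsolv with h | h
      · left
        exact Group.isSolvable_of_surjective (f := eB.toMonoidHom) eB.surjective
      · right
        exact Group.isSolvable_of_surjective (f := eK.toMonoidHom) eK.surjective) q
  refine ⟨P.comapOfInjective (SemidirectProduct.inl : G →* G ⋊[φ] A).rangeRestrict
    (by
      intro x y hxy
      exact SemidirectProduct.inl_injective (congrArg Subtype.val hxy))
    (by
      rw [MonoidHom.range_eq_top.mpr (MonoidHom.rangeRestrict_surjective _)]
      exact le_top), ?_⟩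
  intro a x hx
  change (SemidirectProduct.inl : G →* G ⋊[φ] A).rangeRestrict x ∈ (P : Subgroup K) at hx
  change (SemidirectProduct.inl : G →* G ⋊[φ] A).rangeRestrict (a • x) ∈ (P : Subgroup K)
  have h1 : (SemidirectProduct.inl x : G ⋊[φ] A) ∈ (P : Subgroup K).map K.subtype :=
    ⟨_, hx, rfl⟩
  have h2 := hP ⟨a, rfl⟩
  rw [Subgroup.mem_normalizer_iff] at h2
  have h3 := (h2 _).mp h1
  rw [hconj] at h3
  obtain ⟨y, hy, hy2⟩ := h3
  have : y = (SemidirectProduct.inl : G →* G ⋊[φ] A).rangeRestrict (a • x) :=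
    Subtype.ext hy2
  rwa [← this]

end Cfsg.Agent.H548.InvSub
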