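import Mathlib

/-!
# `p`-groups acting on finite abelian groups of order prime to `p` (helper548, for S4239): basics

Actions are given by homomorphisms `ρ : Q →* MulAut V`.
-/

set_option autoImplicit false

namespace Cfsg.Agent.H548.PMod

open Subgroup

universe u v

variable {Q : Type u} {V : Type v} [Group Q] [CommGroup V]

/-- The stabilizer of a vector. -/
def stab (ρ : Q →* MulAut V) (v : V) : Subgroup Q where
  carrier := {q | ρ q v = v}
  one_mem' := by simp
  mul_mem' {a b} ha hb := by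
    change ρ (a * b) v = v
    rw [map_mul, MulAut.mul_apply, hb, ha]
  inv_mem' {a} ha := by
    change ρ a⁻¹ v = v
    have h : ρ a v = v := ha
    conv_lhs => rw [← h]
    rw [map_inv, MulAut.inv_apply_self]

@[simp] theorem mem_stab {ρ : Q →* MulAut V} {v : V} {q : Q} : q ∈ stab ρ v ↔ ρ q v = v := Iff.rfl

theorem mem_ker {ρ : Q →* MulAut V} {q : Q} : q ∈ ρ.ker ↔ ∀ v, ρ q v = v := by
  rw [MonoidHom.mem_ker]
  constructor
  · intro h v
    rw [h]; rfl
  · intro h
    exact MulEquiv.ext h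

theorem ker_le_stab (ρ : Q →* MulAut V) (v : V) : ρ.ker ≤ stab ρ v := fun _ hq => mem_ker.1 hq v

/-- The fixed vectors of `ρ q`. -/
def fx (ρ : Q →* MulAut V) (q : Q) : Subgroup V where
  carrier := {v | ρ q v = v}
  one_mem' := by simp
  mul_mem' {a b} ha hb := by
    change ρ q (a * b) = a * b
    rw [map_mul, ha, hb]
  inv_mem' {a} ha := by
    change ρ q a⁻¹ = a⁻¹
    rw [map_inv, ha]

@[simp] theorem mem_fx {ρ : Q →* MulAut V} {v : V} {q : Q} : v ∈ fx ρ q ↔ ρ q v = v := Iff.rfl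

/-- `N` is invariant. -/
def Inv (ρ : Q →* MulAut V) (N : Subgroup V) : Prop := ∀ q, ∀ v ∈ N, ρ q v ∈ N

theorem Inv.inv_apply {ρ : Q →* MulAut V} {N : Subgroup V} (hN : Inv ρ N) (q : Q) {v : V} (hv : v ∈ N) :
    (ρ q)⁻¹ v ∈ N := by
  rw [← map_inv]; exact hN _ _ hv

/-- Restriction of the action to an invariant subgroup. -/
def res (ρ : Q →* MulAut V) (N : Subgroup V) (hN : Inv ρ N) : Q →* MulAut N where
  toFun q :=
    { toFun := fun v => ⟨ρ q v, hN q v v.2⟩
      invFun := fun v => ⟨(ρ q)⁻¹ v, hN.inv_apply q v.2⟩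
      left_inv := fun v => Subtype.ext (by simp)
      right_inv := fun v => Subtype.ext (by simp)
      map_mul' := fun a b => Subtype.ext (by simp) }
  map_one' := by ext v; simp
  map_mul' a b := by ext v; simp

@[simp] theorem coe_res (ρ : Q →* MulAut V) (N : Subgroup V) (hN : Inv ρ N) (q : Q) (v : N) :
    (res ρ N hN q v : V) = ρ q v := rfl

/-- The action on the quotient by an invariant subgroup. -/
def quo (ρ : Q →* MulAut V) (N : Subgroup V) (hN : Inv ρ N) : Q →* MulAut (V ⧸ N) where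
  toFun q :=
    { toFun := QuotientGroup.map N N (ρ q).toMonoidHom (fun x hx => hN q x hx)
      invFun := QuotientGroup.map N N (ρ q)⁻¹.toMonoidHom (fun x hx => hN.inv_apply q hx)
      left_inv := fun v => by
        induction v using QuotientGroup.induction_on with
        | H v => simp
      right_inv := fun v => by
        induction v using QuotientGroup.induction_on with
        | H v => simp
      map_mul' := fun a b => by simp }
  map_one' := by
    ext v
    induction v using QuotientGroup.induction_on with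
    | H v => simp
  map_mul' a b := by
    ext v
    induction v using QuotientGroup.induction_on with
    | H v => simp

@[simp] theorem quo_mk (ρ : Q →* MulAut V) (N : Subgroup V) (hN : Inv ρ N) (q : Q) (v : V) :
    quo ρ N hN q (v : V ⧸ N) = ((ρ q v : V) : V ⧸ N) := rfl

/-- A `p`-group of operators fixes an element of every fixed coset. -/
theorem exists_fix_lift {p : ℕ} [Fact p.Prime] [Finite V] {ρ : Q →* MulAut V} (hQ : IsPGroup p Q)
    {N : Subgroup V} (hN : Inv ρ N) (hp : ¬ p ∣ Nat.card N) (K : Subgroup Q) {v : V}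
    (hv : ∀ q ∈ K, ρ q v / v ∈ N) : ∃ v₀ : V, v₀ / v ∈ N ∧ ∀ q ∈ K, ρ q v₀ = v₀ := by
  let X : Type _ := {u : V // u / v ∈ N}
  have hcoset : ∀ q ∈ K, ∀ u : V, u / v ∈ N → ρ q u / v ∈ N := by
    intro q hq u hu
    have h1 : ρ q u / v = ρ q (u / v) * (ρ q v / v) := by
      rw [map_div]
      simp [div_eq_mul_inv, mul_assoc]
    rw [h1]
    exact N.mul_mem (hN q _ hu) (hv q hq)
  letI : MulAction K X :=
    { smul := fun q u => ⟨ρ q u.1, hcoset q q.2 u.1 u.2⟩
      one_smul := fun u => Subtype.ext (by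
        change ρ ((1 : K) : Q) u.1 = u.1
        simp)
      mul_smul := fun a b u => Subtype.ext (by
        change ρ ((a * b : K) : Q) u.1 = ρ (a : Q) (ρ (b : Q) u.1)
        simp) }
  have hcard : Nat.card X = Nat.card N := by
    refine Nat.card_congr ⟨fun u => ⟨u.1 / v, u.2⟩, fun n => ⟨n.1 * v, by simp⟩, fun u => ?_, fun n => ?_⟩
    · exact Subtype.ext (by simp)
    · exact Subtype.ext (by simp)
  have : Finite X := Subtype.finite
  obtain ⟨u, hu⟩ := (hQ.to_subgroup K).nonempty_fixed_point_of_prime_not_dvd_card X (by rwa [hcard])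
  refine ⟨u.1, u.2, fun q hq => ?_⟩
  exact congrArg Subtype.val (hu ⟨q, hq⟩)

theorem right_eq_mul₀' {G : Type*} [Group G] {a b : G} (h : b = a * b) : a = 1 := by
  have := congrArg (· * b⁻¹) h
  simpa using this.symm

theorem card_mul_relIndex {G : Type*} [Group G] {K E : Subgroup G} (h : K ≤ E) :
    Nat.card K * K.relIndex E = Nat.card E := by
  have := Subgroup.relIndex_mul_relIndex ⊥ K E bot_le h
  rwa [Subgroup.relIndex_bot_left, Subgroup.relIndex_bot_left] at this

theorem pow_apply_of_div_mem {ρ : Q →* MulAut V} {q : Q} {v d : V} (h1 : ρ q v = d * v) (h2 : ρ q d = d)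
    (n : ℕ) : ρ (q ^ n) v = d ^ n * v := by
  induction n with
  | zero => simp
  | succ n ih =>
    rw [pow_succ', map_mul, MulAut.mul_apply, ih, map_mul, map_pow, h2, h1, pow_succ, mul_assoc]

/-- A `p`-element acting trivially on `N` and on `V / N` acts trivially. -/
theorem eq_of_trivial {p : ℕ} [Fact p.Prime] [Finite V] {ρ : Q →* MulAut V} (hp : (Nat.card V).Coprime p)
    {N : Subgroup V} {q : Q} {k : ℕ} (hq : q ^ p ^ k = 1) (h1 : ∀ v ∈ N, ρ q v = v)
    (h2 : ∀ v, ρ q v / v ∈ N) (v : V) : ρ q v = v := by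
  set d := ρ q v / v with hd
  have h3 : ρ q v = d * v := by rw [hd]; simp
  have h4 := pow_apply_of_div_mem h3 (h1 d (h2 v)) (p ^ k)
  rw [hq, map_one, MulAut.one_apply] at h4
  have h5 : d ^ p ^ k = 1 := by
    exact right_eq_mul₀' h4
  have h6 : d = 1 := by
    have h7 : orderOf d ∣ p ^ k := orderOf_dvd_of_pow_eq_one h5
    have h8 : orderOf d ∣ Nat.card V := orderOf_dvd_natCard d
    have h9 : orderOf d = 1 := Nat.dvd_one.1 ((hp.pow_right k) ▸ Nat.dvd_gcd h8 h7)
    exact orderOf_eq_one_iff.1 h9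
  rw [h3, h6, one_mul]

theorem exists_pow_eq_one {p : ℕ} {Q : Type u} [Group Q] (hQ : IsPGroup p Q) (q : Q) : ∃ k : ℕ, q ^ p ^ k = 1 := hQ q

/-- If `D ≤ M`, `⨅ Kᵢ = ⊥`, `Kᵢ ≤ Dᵢ`, `D ≤ Dᵢ` then `|D| ∏ |Kᵢ| ≤ ∏ |Dᵢ|`. -/
theorem card_mul_prod_le {G : Type u} [Group G] [Finite G] {ι : Type*} [Fintype ι] (D : Subgroup G)
    (K E : ι → Subgroup G) (hK : ∀ g ∈ D, (∀ i, g ∈ K i) → g = 1) (hKE : ∀ i, K i ≤ E i) (hD : ∀ i, D ≤ E i) :
    Nat.card D * ∏ i, Nat.card (K i) ≤ ∏ i, Nat.card (E i) := by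
  classical
  have h1 : Nat.card D ≤ ∏ i, (K i).relIndex (E i) := by
    have h2 : ∏ i, (K i).relIndex (E i) = Nat.card (∀ i, (E i) ⧸ (K i).subgroupOf (E i)) := by
      rw [Nat.card_pi]
      rfl
    rw [h2]
    refine Nat.card_le_card_of_injective
      (fun d : D => fun i => (QuotientGroup.mk (⟨d.1, hD i d.2⟩ : E i) : (E i) ⧸ (K i).subgroupOf (E i))) ?_
    intro a b hab
    apply Subtype.ext
    have h3 : ∀ i, a.1⁻¹ * b.1 ∈ K i := by
      intro i
      have h4 := congrFun hab i
      rw [QuotientGroup.eq] at h4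
      exact h4
    have h5 := hK (a.1⁻¹ * b.1) (D.mul_mem (D.inv_mem a.2) b.2) h3
    exact inv_mul_eq_one.1 h5
  calc Nat.card D * ∏ i, Nat.card (K i) ≤ (∏ i, (K i).relIndex (E i)) * ∏ i, Nat.card (K i) := by gcongr
    _ = ∏ i, ((K i).relIndex (E i) * Nat.card (K i)) := Finset.prod_mul_distrib.symm
    _ = ∏ i, Nat.card (E i) := by
        refine Finset.prod_congr rfl fun i _ => ?_
        rw [mul_comm]
        exact card_mul_relIndex (hKE i)

/-- Two groups: `|D| |K| ≤ |E| |D ⊓ K|` if `D, K ≤ E`. -/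
theorem card_mul_card_le {G : Type u} [Group G] [Finite G] {D K E : Subgroup G} (hD : D ≤ E) (hK : K ≤ E) :
    Nat.card D * Nat.card K ≤ Nat.card E * Nat.card (D ⊓ K : Subgroup G) := by
  have h1 : Nat.card D = (K.relIndex D) * Nat.card (D ⊓ K : Subgroup G) := by
    have h2 := card_mul_relIndex (inf_le_left : D ⊓ K ≤ D)
    rw [← h2, mul_comm]
    congr 1
    rw [inf_comm, Subgroup.inf_relIndex_right]
  have hne : K.relIndex E ≠ 0 := fun h0 => by
    have := card_mul_relIndex hK
    rw [h0, mul_zero] at this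
    exact Nat.card_pos.ne this
  have h3 : K.relIndex D ≤ K.relIndex E := Subgroup.relIndex_le_of_le_right hD hne
  have h4 : Nat.card K * K.relIndex E = Nat.card E := card_mul_relIndex hK
  rw [h1, ← h4]
  calc K.relIndex D * Nat.card ↥(D ⊓ K) * Nat.card ↥K ≤ K.relIndex E * Nat.card ↥(D ⊓ K) * Nat.card ↥K := by gcongr
    _ = _ := by ring

end Cfsg.Agent.H548.PMod
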