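import Mathlib
import Cfsg.Agent.H548.PMod
import Cfsg.Agent.Transfer.PGroupNormal
import Cfsg.Agent.Classification.NormalCyclic
import Cfsg.Agent.S0126

/-!
# Irreducible faithful `p`-groups of operators of an abelian `p'`-group (helper548, for S4239)

* `exists_zw` : a noncyclic abelian normal subgroup of a `p`-group gives `z`, `w`;
* `blocks` : then the module is induced from a subgroup of index `p`.
-/

set_option autoImplicit false

namespace Cfsg.Agent.H548.PDich

open Subgroup Cfsg.Agent.H548.PMod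

universe u v

/-- The pair `z, w` in a `p`-group with a noncyclic abelian normal subgroup. -/
theorem exists_zw {Q : Type u} [Group Q] [Finite Q] {p : ℕ} [Fact p.Prime] (hQ : IsPGroup p Q) (A : Subgroup Q)
    [A.Normal] (hAc : IsMulCommutative A) (hA : ¬ IsCyclic A) :
    ∃ z w : Q, z ∈ center Q ∧ z ^ p = 1 ∧ z ≠ 1 ∧ w ^ p = 1 ∧ w ∉ zpowers z ∧
      ∀ q : Q, w⁻¹ * (q * w * q⁻¹) ∈ zpowers z := by
  have hpp : p.Prime := Fact.out
  have hcomm : ∀ x ∈ A, ∀ y ∈ A, x * y = y * x := fun x hx y hy =>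
    congrArg Subtype.val (hAc.is_comm.comm (⟨x, hx⟩ : A) ⟨y, hy⟩)
  let Om : Subgroup Q :=
    { carrier := {x | x ∈ A ∧ x ^ p = 1}
      one_mem' := ⟨A.one_mem, one_pow _⟩
      mul_mem' := fun {a b} ha hb => ⟨A.mul_mem ha.1 hb.1, by
        have hc : Commute a b := hcomm a ha.1 b hb.1
        rw [hc.mul_pow, ha.2, hb.2, one_mul]⟩
      inv_mem' := fun {a} ha => ⟨A.inv_mem ha.1, by rw [inv_pow, ha.2, inv_one]⟩ }
  have hOm : ∀ x, x ∈ Om ↔ x ∈ A ∧ x ^ p = 1 := fun x => Iff.rfl
  have hOmN : Om.Normal := by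
    constructor
    intro x hx g
    refine ⟨‹A.Normal›.conj_mem x hx.1 g, ?_⟩
    rw [conj_pow, hx.2, mul_one, mul_inv_cancel]
  -- `|Om| > p`
  have hcard : p < Nat.card Om := by
    by_contra hle
    push Not at hle
    apply hA
    letI : CommGroup A := { (inferInstance : Group A) with mul_comm := hAc.is_comm.comm }
    refine Cfsg.Agent.Transfer.PGroupNormal.isCyclic_of_card_ker_pow_le (p := p) (hQ.to_subgroup A) (le_trans ?_ hle)
    refine Nat.card_le_card_of_injective
      (fun x : (powMonoidHom p : A →* A).ker => (⟨(x : A), (x : A).2, ?_⟩ : Om)) ?_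
    · have := x.2
      rw [MonoidHom.mem_ker] at this
      exact congrArg Subtype.val this
    · intro x y h
      exact Subtype.ext (Subtype.ext (congrArg (fun t : Om => (t : Q)) h))
  have hOmne : Om ≠ ⊥ := by
    rintro h
    rw [h, Subgroup.card_bot] at hcard
    exact absurd hcard (by have := hpp.two_le; omega)
  obtain ⟨z, hzO, hzc, hzo⟩ := Cfsg.Agent.Transfer.PGroupNormal.exists_mem_inf_center_orderOf hQ Om hOmne
  have hZn : (zpowers z).Normal := by
    constructor
    intro x hx g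
    have hxc : x ∈ center Q := (zpowers_le.2 hzc) hx
    rw [mem_center_iff] at hxc
    rw [hxc g, mul_assoc, mul_inv_cancel, mul_one]
    exact hx
  have hne : Om.map (QuotientGroup.mk' (zpowers z)) ≠ ⊥ := by
    intro h
    rw [Subgroup.map_eq_bot_iff, QuotientGroup.ker_mk'] at h
    have h1 : Nat.card Om ≤ Nat.card (zpowers z) := Nat.le_of_dvd Nat.card_pos (Subgroup.card_dvd_of_le h)
    rw [Nat.card_zpowers, hzo] at h1
    omega
  have : (Om.map (QuotientGroup.mk' (zpowers z))).Normal := hOmN.map _ (QuotientGroup.mk'_surjective _)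
  obtain ⟨w', hw'O, hw'c, hw'o⟩ := Cfsg.Agent.Transfer.PGroupNormal.exists_mem_inf_center_orderOf
    (hQ.to_quotient (zpowers z)) (Om.map (QuotientGroup.mk' (zpowers z))) hne
  obtain ⟨w, hwO, rfl⟩ := hw'O
  refine ⟨z, w, hzc, ?_, ?_, hwO.2, ?_, ?_⟩
  · rw [← hzo, pow_orderOf_eq_one]
  · rintro rfl
    rw [orderOf_one] at hzo
    exact hpp.one_lt.ne hzo
  · intro hw
    have h1 : QuotientGroup.mk' (zpowers z) w = 1 := (QuotientGroup.eq_one_iff w).2 hw
    rw [h1, orderOf_one] at hw'o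
    exact hpp.one_lt.ne hw'o
  · intro q
    rw [mem_center_iff] at hw'c
    have h1 := hw'c (QuotientGroup.mk' (zpowers z) q)
    rw [← map_mul, ← map_mul] at h1
    have h2 : (w * q)⁻¹ * (q * w) ∈ zpowers z := QuotientGroup.eq.1 h1.symm
    have h3 : w⁻¹ * (q * w * q⁻¹) = q * ((w * q)⁻¹ * (q * w)) * q⁻¹ := by group
    rw [h3]
    exact hZn.conj_mem _ h2 q

section nrm

variable {Q : Type u} {V : Type v} [Group Q] [CommGroup V]

/-- The norm of length `p`. -/
def nrm (ρ : Q →* MulAut V) (p : ℕ) (g : Q) : V →* V where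
  toFun v := ∏ k ∈ Finset.range p, ρ (g ^ k) v
  map_one' := by simp
  map_mul' a b := by
    rw [← Finset.prod_mul_distrib]
    exact Finset.prod_congr rfl fun k _ => map_mul _ _ _

theorem nrm_apply (ρ : Q →* MulAut V) (p : ℕ) (g : Q) (v : V) :
    nrm ρ p g v = ∏ k ∈ Finset.range p, ρ (g ^ k) v := rfl

theorem nrm_fix (ρ : Q →* MulAut V) {p : ℕ} {g : Q} (hg : g ^ p = 1) (v : V) :
    ρ g (nrm ρ p g v) = nrm ρ p g v := by
  rw [nrm_apply, map_prod]
  have h1 : ∀ k, ρ g (ρ (g ^ k) v) = ρ (g ^ (k + 1)) v := by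
    intro k
    rw [pow_succ', map_mul, MulAut.mul_apply]
  rw [Finset.prod_congr rfl fun k _ => h1 k]
  have h2 := Finset.prod_range_succ (fun k => ρ (g ^ k) v) p
  have h3 := Finset.prod_range_succ' (fun k => ρ (g ^ k) v) p
  rw [h2] at h3
  simp only [hg, pow_zero] at h3
  exact (mul_right_cancel h3).symm

theorem nrm_of_fix (ρ : Q →* MulAut V) {p : ℕ} {g : Q} {v : V} (h : ρ g v = v) : nrm ρ p g v = v ^ p := by
  have h1 : ∀ k : ℕ, ρ (g ^ k) v = v := by
    intro k
    induction k with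
    | zero => simp
    | succ k ih => rw [pow_succ, map_mul, MulAut.mul_apply, h, ih]
  rw [nrm_apply, Finset.prod_congr rfl fun k _ => h1 k, Finset.prod_const, Finset.card_range]

end nrm

/-- Irreducibility. -/
def Irr {Q : Type u} {V : Type v} [Group Q] [CommGroup V] (ρ : Q →* MulAut V) : Prop :=
  ∀ N : Subgroup V, Inv ρ N → N = ⊥ ∨ N = ⊤

section blocks

variable {Q : Type u} {V : Type v} [Group Q] [CommGroup V] {ρ : Q →* MulAut V}

/-- The fixed points of a normal cyclic subgroup: if every conjugate of `g` is a power of `g` then `C_V(g)` is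
invariant. -/
theorem inv_fx {g : Q} (h : ∀ q, q⁻¹ * g * q ∈ zpowers g) : Inv ρ (fx ρ g) := by
  intro q v hv
  rw [mem_fx] at hv ⊢
  have h1 : ∀ n ∈ zpowers g, ρ n v = v := fun n hn => (zpowers_le.2 (show g ∈ stab ρ v from hv)) hn
  have h2 := h1 _ (h q)
  have h3 : g * q = q * (q⁻¹ * g * q) := by group
  rw [← MulAut.mul_apply, ← map_mul, h3, map_mul, MulAut.mul_apply, h2]

theorem eq_one_of_fx (hinj : Function.Injective ρ) (hirr : Irr ρ) {g : Q} (h : ∀ q, q⁻¹ * g * q ∈ zpowers g)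
    (hg : g ≠ 1) {v : V} (hv : ρ g v = v) : v = 1 := by
  rcases hirr _ (inv_fx (ρ := ρ) h) with h1 | h1
  · have : v ∈ fx ρ g := hv
    rwa [h1, mem_bot] at this
  · exfalso
    apply hg
    apply hinj
    rw [map_one]
    refine MulEquiv.ext fun w => ?_
    have : w ∈ fx ρ g := h1 ▸ mem_top w
    exact this

theorem zpowers_of_central {g : Q} (hg : g ∈ center Q) (q : Q) : q⁻¹ * g * q ∈ zpowers g := by
  rw [mem_center_iff] at hg
  rw [mul_assoc, ← hg q, inv_mul_cancel_left]
  exact mem_zpowers g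

/-- **Blocks.** A noncyclic abelian normal subgroup of an irreducible `p`-group of operators of an abelian `p'`-group
gives a decomposition into `p` blocks. -/
theorem blocks [Finite Q] [Finite V] {p : ℕ} [hF : Fact p.Prime] (hQ : IsPGroup p Q)
    (hinj : Function.Injective ρ) (hirr : Irr ρ) (hp : (Nat.card V).Coprime p) [Nontrivial V]
    (A : Subgroup Q) [A.Normal] (hAc : IsMulCommutative A) (hA : ¬ IsCyclic A) :
    ∃ (M : Subgroup Q) (W : Subgroup V), M.Normal ∧ M.index = p ∧ (∀ m ∈ M, ∀ v ∈ W, ρ m v ∈ W) ∧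
      ∀ s, s ∉ M → Function.Bijective (fun f : Fin p → W => ∏ i : Fin p, ρ (s ^ (i : ℕ)) (f i : V)) := by
  classical
  have hpp : p.Prime := Fact.out
  obtain ⟨z, w₀, hzc, hzp, hz1, hw₀p, hw₀z, hcon₀⟩ := exists_zw hQ A hAc hA
  have hzo : orderOf z = p := orderOf_eq_prime hzp hz1
  have hzcomm : ∀ g, Commute z g := fun g => ((mem_center_iff.1 hzc) g).symm
  have hpinj : Function.Injective (fun v : V => v ^ p) := by
    intro a b hab
    exact (powCoprime hp).injective hab
  have hpsurj : Function.Surjective (fun v : V => v ^ p) := (powCoprime hp).surjective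
  -- fixed points of nontrivial powers of `z`
  have hzfix : ∀ u ∈ zpowers z, u ≠ 1 → ∀ v : V, ρ u v = v → v = 1 := by
    intro u hu hu1 v hv
    exact eq_one_of_fx hinj hirr (zpowers_of_central ((zpowers_le.2 hzc) hu)) hu1 hv
  -- product formula
  have hprod : ∀ w : Q, ∀ u ∈ zpowers z, u ≠ 1 → ∀ v : V,
      ∏ j ∈ Finset.range p, nrm ρ p (w * u ^ j) v = v ^ p := by
    intro w u hu hu1 v
    have hup : u ^ p = 1 := by
      obtain ⟨k, rfl⟩ := mem_zpowers_iff.1 hu
      rw [← zpow_natCast, zpow_comm, zpow_natCast, hzp, one_zpow]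
    have hucomm : ∀ g, Commute u g := fun g => by
      have : u ∈ center Q := (zpowers_le.2 hzc) hu
      exact ((mem_center_iff.1 this) g).symm
    have huo : orderOf u = p := orderOf_eq_prime hup hu1
    simp only [nrm_apply]
    rw [Finset.prod_comm]
    have h1 : ∀ k ∈ Finset.range p, ∏ j ∈ Finset.range p, ρ ((w * u ^ j) ^ k) v = if k = 0 then v ^ p else 1 := by
      intro k hk
      rw [Finset.mem_range] at hk
      split_ifs with hk0
      · subst hk0
        simp
      · have h2 : ∀ j, ρ ((w * u ^ j) ^ k) v = ρ ((u ^ k) ^ j) (ρ (w ^ k) v) := by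
          intro j
          have hc : Commute w (u ^ j) := ((hucomm w).pow_left j).symm
          rw [hc.mul_pow, ← MulAut.mul_apply, ← map_mul, ← pow_mul, ← pow_mul, mul_comm k j]
          congr 2
          exact (((hucomm (w ^ k)).pow_left (j * k))).symm
        rw [Finset.prod_congr rfl fun j _ => h2 j, ← nrm_apply]
        have huk : u ^ k ≠ 1 := fun h0 => by
          have := orderOf_dvd_of_pow_eq_one h0
          rw [huo] at this
          exact absurd (Nat.le_of_dvd (Nat.pos_of_ne_zero hk0) this) (by omega)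
        refine hzfix (u ^ k) (pow_mem hu k) huk _ (nrm_fix ρ ?_ _)
        rw [← pow_mul, mul_comm, pow_mul, hup, one_pow]
    rw [Finset.prod_congr rfl h1, Finset.prod_ite_eq' (Finset.range p) 0 (fun _ => v ^ p)]
    rw [if_pos (Finset.mem_range.2 hpp.pos)]
  -- choose `w` with fixed points
  obtain ⟨w, hwp, hwz, hcon, v₁, hv₁, hv₁w⟩ : ∃ w : Q, w ^ p = 1 ∧ w ∉ zpowers z ∧
      (∀ q : Q, w⁻¹ * (q * w * q⁻¹) ∈ zpowers z) ∧ ∃ v₁ : V, v₁ ≠ 1 ∧ ρ w v₁ = v₁ := by
    obtain ⟨v, hv⟩ := exists_ne (1 : V)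
    have h1 := hprod w₀ z (mem_zpowers z) hz1 v
    have h2 : v ^ p ≠ 1 := fun h0 => hv (hpinj (by simpa using h0))
    obtain ⟨j, -, hj⟩ : ∃ j ∈ Finset.range p, nrm ρ p (w₀ * z ^ j) v ≠ 1 := by
      by_contra hcon'
      push Not at hcon'
      rw [Finset.prod_eq_one hcon'] at h1
      exact h2 h1.symm
    have hgp : (w₀ * z ^ j) ^ p = 1 := by
      have hc : Commute w₀ (z ^ j) := ((hzcomm w₀).pow_left j).symm
      rw [hc.mul_pow, hw₀p, one_mul, ← pow_mul, mul_comm, pow_mul, hzp, one_pow]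
    refine ⟨w₀ * z ^ j, hgp, ?_, ?_, _, hj, nrm_fix ρ hgp v⟩
    · intro hmem
      exact hw₀z (by simpa using mul_mem hmem (inv_mem (pow_mem (mem_zpowers z) j)))
    · intro q
      have h3 : (w₀ * z ^ j)⁻¹ * (q * (w₀ * z ^ j) * q⁻¹) = w₀⁻¹ * (q * w₀ * q⁻¹) := by
        have hc : q * (w₀ * z ^ j) * q⁻¹ = q * w₀ * q⁻¹ * z ^ j := by
          have := ((hzcomm q⁻¹).pow_left j).eq
          rw [mul_assoc, mul_assoc, this]
          group
        rw [hc, mul_inv_rev, mul_assoc, ← mul_assoc w₀⁻¹]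
        have h4 := ((hzcomm (w₀⁻¹ * (q * w₀ * q⁻¹))).pow_left j).eq
        rw [← h4]
        group
      rw [h3]
      exact hcon₀ q
  -- the homomorphism `c`
  let c : Q →* zpowers z :=
    { toFun := fun q => ⟨w⁻¹ * (q * w * q⁻¹), hcon q⟩
      map_one' := Subtype.ext (by simp)
      map_mul' := fun a b => Subtype.ext (by
        change w⁻¹ * (a * b * w * (a * b)⁻¹) = w⁻¹ * (a * w * a⁻¹) * (w⁻¹ * (b * w * b⁻¹))
        have h1 : w⁻¹ * (b * w * b⁻¹) ∈ center Q := (zpowers_le.2 hzc) (hcon b)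
        have h2 := (mem_center_iff.1 h1) (w⁻¹ * (a * w))
        have h3 := (mem_center_iff.1 h1) (w⁻¹ * (a * w * a⁻¹))
        have h4 := (mem_center_iff.1 h1) a⁻¹
        calc w⁻¹ * (a * b * w * (a * b)⁻¹) = w⁻¹ * (a * w) * (w⁻¹ * (b * w * b⁻¹)) * a⁻¹ := by group
          _ = w⁻¹ * (a * w) * ((w⁻¹ * (b * w * b⁻¹)) * a⁻¹) := by rw [mul_assoc]
          _ = w⁻¹ * (a * w) * (a⁻¹ * (w⁻¹ * (b * w * b⁻¹))) := by rw [h4]
          _ = _ := by group) }
  have hc : ∀ q, ((c q : zpowers z) : Q) = w⁻¹ * (q * w * q⁻¹) := fun q => rfl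
  have hcw : ∀ q, q * w * q⁻¹ = w * (c q : Q) := fun q => by rw [hc]; group
  refine ⟨c.ker, fx ρ w, inferInstance, ?_, ?_, ?_⟩
  · -- the index
    have h1 : c.ker.index = Nat.card c.range := Subgroup.index_ker c
    have h2 : Nat.card c.range ∣ p := by
      have h3 := Subgroup.card_subgroup_dvd_card c.range
      rwa [Nat.card_zpowers, hzo] at h3
    rcases (Nat.dvd_prime hpp).1 h2 with h3 | h3
    · exfalso
      -- `w` is central
      have h4 : ∀ q, (c q : Q) = 1 := by
        intro q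
        have h5 : c.range = ⊥ := Subgroup.eq_bot_of_card_eq _ h3
        have h6 : c q ∈ c.range := ⟨q, rfl⟩
        rw [h5, mem_bot] at h6
        rw [h6]; rfl
      have h5 : w ∈ center Q := by
        rw [mem_center_iff]
        intro g
        have := hcw g
        rw [h4 g, mul_one] at this
        exact mul_inv_eq_iff_eq_mul.1 this
      exact hv₁ (eq_one_of_fx hinj hirr (zpowers_of_central h5)
        (fun h0 => hwz (h0 ▸ one_mem _)) hv₁w)
    · rw [h1, h3]
  · intro m hm v hv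
    rw [mem_fx] at hv ⊢
    have h1 : (c m : Q) = 1 := by rw [MonoidHom.mem_ker.1 hm]; rfl
    have h2 := hcw m
    rw [h1, mul_one] at h2
    have h3 : w * m = m * w := (mul_inv_eq_iff_eq_mul.1 h2).symm
    rw [← MulAut.mul_apply, ← map_mul, h3, map_mul, MulAut.mul_apply, hv]
  · intro s hs
    set u : Q := (c s : Q) with hu
    have huz : u ∈ zpowers z := (c s).2
    have hu1 : u ≠ 1 := fun h0 => hs (MonoidHom.mem_ker.2 (Subtype.ext h0))
    have hup : u ^ p = 1 := by
      obtain ⟨k, hk⟩ := mem_zpowers_iff.1 huz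
      rw [← hk, ← zpow_natCast, zpow_comm, zpow_natCast, hzp, one_zpow]
    have huo : orderOf u = p := orderOf_eq_prime hup hu1
    have hucomm : ∀ g, Commute u g := fun g => by
      have : u ∈ center Q := (zpowers_le.2 hzc) huz
      exact ((mem_center_iff.1 this) g).symm
    have hsw : ∀ i : ℕ, s ^ i * w * (s ^ i)⁻¹ = w * u ^ i := by
      intro i
      have h1 := hcw (s ^ i)
      rw [map_pow] at h1
      exact h1
    -- `ρ (s ^ i) x` is fixed by `w * u ^ i`
    have hfixi : ∀ i : ℕ, ∀ x ∈ fx ρ w, ρ (w * u ^ i) (ρ (s ^ i) x) = ρ (s ^ i) x := by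
      intro i x hx
      rw [mem_fx] at hx
      have h1 : w * u ^ i * s ^ i = s ^ i * w := by rw [← hsw i]; group
      rw [← MulAut.mul_apply, ← map_mul, h1, map_mul, MulAut.mul_apply, hx]
    have hfixi' : ∀ i : ℕ, ∀ y : V, ρ (w * u ^ i) y = y → ρ (s ^ i)⁻¹ y ∈ fx ρ w := by
      intro i y hy
      rw [mem_fx]
      have h1 : w * (s ^ i)⁻¹ = (s ^ i)⁻¹ * (w * u ^ i) := by rw [← hsw i]; group
      rw [← MulAut.mul_apply, ← map_mul, h1, map_mul, MulAut.mul_apply, hy]
    have hwup : ∀ i : ℕ, (w * u ^ i) ^ p = 1 := by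
      intro i
      have hc : Commute w (u ^ i) := ((hucomm w).pow_left i).symm
      rw [hc.mul_pow, hwp, one_mul, ← pow_mul, mul_comm, pow_mul, hup, one_pow]
    -- norms
    have hnorm : ∀ i j : ℕ, i < p → j < p → i ≠ j → ∀ y : V, ρ (w * u ^ i) y = y →
        nrm ρ p (w * u ^ j) y = 1 := by
      intro i j hi hj hij y hy
      have h1 : w * u ^ j = w * u ^ i * u ^ (j + (p - i)) := by
        rw [mul_assoc, ← pow_add, show i + (j + (p - i)) = j + p by omega, pow_add, hup, mul_one]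
      have h2 : ∀ k : ℕ, ρ ((w * u ^ j) ^ k) y = ρ ((u ^ (j + (p - i))) ^ k) y := by
        intro k
        have hc : Commute (w * u ^ i) (u ^ (j + (p - i))) := ((hucomm (w * u ^ i)).pow_left _).symm
        rw [h1, hc.mul_pow, (hc.pow_pow k k).eq, map_mul, MulAut.mul_apply]
        congr 1
        have h3 : (w * u ^ i) ^ k ∈ stab ρ y := pow_mem (show w * u ^ i ∈ stab ρ y from hy) k
        exact h3
      have h4 : nrm ρ p (w * u ^ j) y = nrm ρ p (u ^ (j + (p - i))) y := by
        rw [nrm_apply, nrm_apply]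
        exact Finset.prod_congr rfl fun k _ => h2 k
      rw [h4]
      have h5 : u ^ (j + (p - i)) ≠ 1 := by
        intro h0
        have h6 := orderOf_dvd_of_pow_eq_one h0
        rw [huo] at h6
        obtain ⟨t, ht⟩ := h6
        rcases Nat.lt_or_ge t 1 with h7 | h7
        · interval_cases t
          omega
        · rcases Nat.lt_or_ge t 2 with h8 | h8
          · interval_cases t
            omega
          · have : p * 2 ≤ p * t := Nat.mul_le_mul_left p h8
            omega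
      refine hzfix _ (pow_mem huz _) h5 _ (nrm_fix ρ ?_ _)
      rw [← pow_mul, mul_comm, pow_mul, hup, one_pow]
    have hval : ∀ f : Fin p → fx ρ w, ∀ j : Fin p,
        nrm ρ p (w * u ^ (j : ℕ)) (∏ i : Fin p, ρ (s ^ (i : ℕ)) (f i : V)) = (ρ (s ^ (j : ℕ)) (f j : V)) ^ p := by
      intro f j
      rw [map_prod, Finset.prod_eq_single j]
      · exact nrm_of_fix ρ (hfixi j _ (f j).2)
      · intro i _ hij
        exact hnorm i j i.2 j.2 (fun h => hij (Fin.ext h)) _ (hfixi i _ (f i).2)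
      · intro h
        exact absurd (Finset.mem_univ j) h
    constructor
    · intro f g hfg
      funext j
      apply Subtype.ext
      have h1 := hval f j
      have h2 := hval g j
      have h3 : (ρ (s ^ (j : ℕ)) (f j : V)) ^ p = (ρ (s ^ (j : ℕ)) (g j : V)) ^ p := by
        rw [← h1, ← h2]
        exact congrArg _ hfg
      exact (ρ (s ^ (j : ℕ))).injective (hpinj h3)
    · intro v
      obtain ⟨t, ht⟩ := hpsurj v
      have ht : t ^ p = v := ht
      refine ⟨fun j => ⟨ρ (s ^ (j : ℕ))⁻¹ (nrm ρ p (w * u ^ (j : ℕ)) t),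
        hfixi' j _ (nrm_fix ρ (hwup j) t)⟩, ?_⟩
      have h1 : ∀ j : Fin p, ρ (s ^ (j : ℕ)) (ρ (s ^ (j : ℕ))⁻¹ (nrm ρ p (w * u ^ (j : ℕ)) t)) =
          nrm ρ p (w * u ^ (j : ℕ)) t := by
        intro j
        rw [← MulAut.mul_apply, ← map_mul, mul_inv_cancel, map_one, MulAut.one_apply]
      simp only [h1]
      rw [← ht, ← hprod w u huz hu1 t, Finset.prod_range]

/-- All abelian normal subgroups cyclic. -/
theorem cyc_case [Finite Q] {p : ℕ} [hF : Fact p.Prime] (hQ : IsPGroup p Q)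
    (hinj : Function.Injective ρ) (hirr : Irr ρ)
    (hn : ∀ A : Subgroup Q, A.Normal → IsMulCommutative A → IsCyclic A) :
    ∃ A : Subgroup Q, (A = ⊤ ∨ (p = 2 ∧ A.index = 2 ∧ IsCyclic A ∧ ¬ IsMulCommutative Q)) ∧
      ∀ x ∈ A, x ≠ 1 → ∀ v, ρ x v = v → v = 1 := by
  have key : ∀ A : Subgroup Q, A.Normal → IsCyclic A → ∀ x ∈ A, x ≠ 1 → ∀ v, ρ x v = v → v = 1 := by
    intro A hA hAc x hx hx1 v hv
    refine eq_one_of_fx hinj hirr (fun q => ?_) hx1 hv
    obtain ⟨a, ha⟩ := hAc.exists_generator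
    have h1 : q⁻¹ * (a : Q) * q ∈ A := by
      have := hA.conj_mem a a.2 q⁻¹
      rwa [inv_inv] at this
    obtain ⟨k, hk⟩ := mem_zpowers_iff.1 (ha ⟨_, h1⟩)
    obtain ⟨n, hn'⟩ := mem_zpowers_iff.1 (ha ⟨x, hx⟩)
    have hk' : (a : Q) ^ k = q⁻¹ * (a : Q) * q := by
      have := congrArg Subtype.val hk
      simpa using this
    have hn'' : (a : Q) ^ n = x := by
      have := congrArg Subtype.val hn'
      simpa using this
    refine mem_zpowers_iff.2 ⟨k, ?_⟩
    rw [← hn'']
    have h2 : q⁻¹ * (a : Q) ^ n * q = (q⁻¹ * (a : Q) * q) ^ n := by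
      have := (conj_zpow (i := n) (a := q⁻¹) (b := (a : Q))).symm
      rw [inv_inv] at this
      exact this
    rw [h2, ← hk', ← zpow_mul, ← zpow_mul, mul_comm]
  by_cases hc : IsCyclic Q
  · refine ⟨⊤, Or.inl rfl, key ⊤ inferInstance ?_⟩
    exact isCyclic_of_surjective _ (Subgroup.topEquiv (G := Q)).symm.surjective
  · by_cases h2 : p = 2
    · subst h2
      rcases Cfsg.Agent.Classification.NormalCyclic.exists_cyclic_index_two hQ hn with h | ⟨A, hA, hAi⟩
      · exact absurd h hc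
      · have hAn : A.Normal := Subgroup.normal_of_index_eq_two hAi
        refine ⟨A, Or.inr ⟨rfl, hAi, hA, ?_⟩, key A hAn hA⟩
        intro hcomm
        apply hc
        have h3 := hn ⊤ inferInstance ⟨⟨fun a b => Subtype.ext (hcomm.is_comm.comm a.1 b.1)⟩⟩
        exact isCyclic_of_surjective _ (Subgroup.topEquiv (G := Q)).surjective
    · exfalso
      obtain ⟨E, hEn, hEe, hEc⟩ := Cfsg.Agent.S0126.result h2 hQ hc
      have h4 := hn E hEn hEe.1
      obtain ⟨g, hg⟩ := h4.exists_generator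
      have h5 : orderOf g = Nat.card E := orderOf_eq_card_of_forall_mem_zpowers hg
      have h6 : orderOf g ∣ p := orderOf_dvd_of_pow_eq_one (Subtype.ext (hEe.2 g g.2))
      rw [h5, hEc] at h6
      have h7 := Nat.le_of_dvd hF.out.pos h6
      have h8 := hF.out.two_le
      nlinarith

end blocks

end Cfsg.Agent.H548.PDich
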