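import Mathlib
import Cfsg.Agent.H548.PDich

/-!
# Bounds for `p`-groups of operators of an abelian `p'`-group (helper548, for S4239)

`bounds` : `2 |Q| ≤ |V|² |ker|` and `2 |C_Q(v)| ≤ |V| |ker|` for some `v`.
-/

set_option autoImplicit false

namespace Cfsg.Agent.H548.PBound

open Subgroup Cfsg.Agent.H548.PMod Cfsg.Agent.H548.PDich

universe u v

section gen

variable {Q : Type u} {V : Type u} [Group Q] [CommGroup V] [Finite Q] [Finite V] {ρ : Q →* MulAut V}

/-- Restriction of the operators to a subgroup `K` and of the module to `N`. -/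
def resK (ρ : Q →* MulAut V) (K : Subgroup Q) (N : Subgroup V) (h : ∀ q ∈ K, ∀ v ∈ N, ρ q v ∈ N) :
    K →* MulAut N :=
  res (ρ.comp K.subtype) N (fun q v hv => h q q.2 v hv)

@[simp] theorem coe_resK (K : Subgroup Q) (N : Subgroup V) (h : ∀ q ∈ K, ∀ v ∈ N, ρ q v ∈ N) (q : K) (v : N) :
    (resK ρ K N h q v : V) = ρ (q : Q) v := rfl

/-- If `A` is semiregular on `V ∖ 1` then `|A| < |V|`. -/
theorem card_lt_of_semiregular (A : Subgroup Q) [Nontrivial V]
    (hA : ∀ x ∈ A, x ≠ 1 → ∀ v, ρ x v = v → v = 1) : Nat.card A < Nat.card V := by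
  obtain ⟨v, hv⟩ := exists_ne (1 : V)
  have h1 : Nat.card A ≤ Nat.card {w : V // w ≠ 1} := by
    refine Nat.card_le_card_of_injective (fun a : A => (⟨ρ (a : Q) v, ?_⟩ : {w : V // w ≠ 1})) ?_
    · intro h
      exact hv ((ρ (a : Q)).injective (h.trans (map_one _).symm))
    · intro a b hab
      have h2 : ρ (a : Q) v = ρ (b : Q) v := congrArg Subtype.val hab
      have h3 : ρ ((a : Q)⁻¹ * b) v = v := by
        rw [map_mul, MulAut.mul_apply, ← h2, ← MulAut.mul_apply, ← map_mul, inv_mul_cancel, map_one,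
          MulAut.one_apply]
      by_contra hne
      refine hv (hA _ (A.mul_mem (A.inv_mem a.2) b.2) ?_ v h3)
      intro h4
      exact hne (Subtype.ext (inv_mul_eq_one.1 h4))
  have h2 : Nat.card {w : V // w ≠ 1} < Nat.card V := Finite.card_subtype_lt (x := (1 : V)) (by simp)
  exact lt_of_le_of_lt h1 h2

theorem mem_resK_ker {K : Subgroup Q} {N : Subgroup V} {h : ∀ q ∈ K, ∀ v ∈ N, ρ q v ∈ N} {k : K} :
    k ∈ (resK ρ K N h).ker ↔ ∀ v ∈ N, ρ (k : Q) v = v := by
  rw [mem_ker]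
  constructor
  · intro h1 v hv
    exact congrArg Subtype.val (h1 ⟨v, hv⟩)
  · intro h1 v
    exact Subtype.ext (h1 v v.2)

/-- Faithful irreducible case, data. -/
theorem card_stab_le_index (M D : Subgroup Q) : Nat.card D ≤ M.index * Nat.card (D ⊓ M : Subgroup Q) := by
  have h1 := card_mul_card_le (D := D) (K := M) (E := ⊤) le_top le_top
  have h2 : Nat.card M * M.index = Nat.card (⊤ : Subgroup Q) := by
    rw [Subgroup.card_top, M.card_mul_index]
  rw [← h2] at h1
  have h3 : 0 < Nat.card M := Nat.card_pos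
  by_contra hcon
  push Not at hcon
  have h4 : Nat.card M * M.index * Nat.card (D ⊓ M : Subgroup Q) < Nat.card D * Nat.card M := by
    calc Nat.card M * M.index * Nat.card (D ⊓ M : Subgroup Q) = Nat.card M * (M.index * Nat.card (D ⊓ M : Subgroup Q)) := by ring
      _ < Nat.card M * Nat.card D := by gcongr
      _ = _ := mul_comm _ _
  omega

end gen

/-- The block situation. -/
structure Blk {Q V : Type u} [Group Q] [CommGroup V] (ρ : Q →* MulAut V) (p : ℕ) (M : Subgroup Q)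
    (W : Subgroup V) : Prop where
  normal : M.Normal
  index : M.index = p
  inv : ∀ m ∈ M, ∀ v ∈ W, ρ m v ∈ W
  bij : ∀ s, s ∉ M → Function.Bijective (fun f : Fin p → W => ∏ i : Fin p, ρ (s ^ (i : ℕ)) (f i : V))

namespace Blk

variable {Q V : Type u} [Group Q] [CommGroup V] {ρ : Q →* MulAut V} {p : ℕ} {M : Subgroup Q} {W : Subgroup V}

theorem conj_mem (B : Blk ρ p M W) {m : Q} (hm : m ∈ M) (s : Q) (i : ℕ) : (s ^ i)⁻¹ * m * s ^ i ∈ M := by
  have := B.normal.conj_mem m hm (s ^ i)⁻¹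
  rwa [inv_inv] at this

theorem apply_comp {m s : Q} (i : ℕ) (v : V) : ρ m (ρ (s ^ i) v) = ρ (s ^ i) (ρ ((s ^ i)⁻¹ * m * s ^ i) v) := by
  rw [← MulAut.mul_apply, ← map_mul, ← MulAut.mul_apply, ← map_mul]
  congr 2
  group

/-- An element of `M` fixing `∏ ρ (s ^ i) (f i)` fixes all components. -/
theorem fix_comp (B : Blk ρ p M W) {s : Q} (hs : s ∉ M) {m : Q} (hm : m ∈ M) (f : Fin p → W)
    (h : ρ m (∏ i : Fin p, ρ (s ^ (i : ℕ)) (f i : V)) = ∏ i : Fin p, ρ (s ^ (i : ℕ)) (f i : V)) (i : Fin p) :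
    ρ ((s ^ (i : ℕ))⁻¹ * m * s ^ (i : ℕ)) (f i : V) = f i := by
  let g : Fin p → W := fun i => ⟨ρ ((s ^ (i : ℕ))⁻¹ * m * s ^ (i : ℕ)) (f i : V), B.inv _ (B.conj_mem hm s i) _ (f i).2⟩
  have h1 : (fun f : Fin p → W => ∏ i : Fin p, ρ (s ^ (i : ℕ)) (f i : V)) g =
      (fun f : Fin p → W => ∏ i : Fin p, ρ (s ^ (i : ℕ)) (f i : V)) f := by
    change ∏ i : Fin p, ρ (s ^ (i : ℕ)) (g i : V) = ∏ i : Fin p, ρ (s ^ (i : ℕ)) (f i : V)
    rw [← h, map_prod]
    exact Finset.prod_congr rfl fun i _ => (apply_comp (i : ℕ) _).symm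
  have h2 := (B.bij s hs).1 h1
  exact congrArg Subtype.val (congrFun h2 i)

theorem card_eq (B : Blk ρ p M W) {s : Q} (hs : s ∉ M) [Finite V] : Nat.card V = Nat.card W ^ p := by
  rw [← Nat.card_congr (Equiv.ofBijective _ (B.bij s hs)), Nat.card_fun]
  simp

end Blk

/-- The bounds. -/
def Bd {Q V : Type u} [Group Q] [CommGroup V] (ρ : Q →* MulAut V) : Prop :=
  2 * Nat.card Q ≤ Nat.card V ^ 2 * Nat.card ρ.ker ∧
    ∃ v : V, 2 * Nat.card (stab ρ v) ≤ Nat.card V * Nat.card ρ.ker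

section main

variable {Q V : Type u} [Group Q] [CommGroup V] [Finite Q] [Finite V] {ρ : Q →* MulAut V} {p : ℕ} [hF : Fact p.Prime]

theorem two_mul_le_pow (p : ℕ) (hp : 2 ≤ p) : 2 * p ≤ 2 ^ p := by
  induction p, hp using Nat.le_induction with
  | base => norm_num
  | succ n hn ih =>
    rw [pow_succ]
    omega

/-- Conjugates of a subgroup. -/
def cj (L : Subgroup Q) (g : Q) : Subgroup Q := L.map (MulAut.conj g).toMonoidHom

omit [Finite Q] in
theorem mem_cj {L : Subgroup Q} {g x : Q} : x ∈ cj L g ↔ g⁻¹ * x * g ∈ L := by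
  unfold cj
  rw [Subgroup.mem_map]
  constructor
  · rintro ⟨y, hy, rfl⟩
    have : g⁻¹ * (g * y * g⁻¹) * g = y := by group
    change g⁻¹ * (g * y * g⁻¹) * g ∈ L
    rwa [this]
  · intro h
    exact ⟨_, h, by change g * (g⁻¹ * x * g) * g⁻¹ = x; group⟩

omit [Finite Q] in
theorem card_cj (L : Subgroup Q) (g : Q) : Nat.card (cj L g) = Nat.card L :=
  Subgroup.card_map_of_injective (MulAut.conj g).injective

/-- The bounds in the block situation. -/
theorem bd_blk {M : Subgroup Q} {W : Subgroup V} (B : Blk ρ p M W) (hinj : Function.Injective ρ)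
    (hW : Bd (resK ρ M W B.inv)) : Bd ρ := by
  have hpp : p.Prime := hF.out
  have hker : Nat.card ρ.ker = 1 := by
    rw [(MonoidHom.ker_eq_bot_iff ρ).2 hinj, Subgroup.card_bot]
  obtain ⟨s, hs⟩ : ∃ s, s ∉ M := by
    by_contra hcon
    push Not at hcon
    have : M = ⊤ := eq_top_iff.2 fun x _ => hcon x
    have h1 := B.index
    rw [this, Subgroup.index_top] at h1
    exact hpp.one_lt.ne h1
  have hVW := B.card_eq hs
  have hQM : Nat.card Q = Nat.card M * p := by rw [← B.index, M.card_mul_index]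
  obtain ⟨hW1, w, hW2⟩ := hW
  set k0 := Nat.card (resK ρ M W B.inv).ker with hk0
  have hk0pos : 0 < k0 := Nat.card_pos
  let K₀ : Subgroup Q := (resK ρ M W B.inv).ker.map M.subtype
  have hK₀card : Nat.card K₀ = k0 := Subgroup.card_map_of_injective M.subtype_injective
  have hK₀ : ∀ m, m ∈ K₀ ↔ m ∈ M ∧ ∀ v ∈ W, ρ m v = v := by
    intro m
    constructor
    · rintro ⟨m', hm', rfl⟩
      exact ⟨m'.2, mem_resK_ker.1 hm'⟩
    · rintro ⟨hm, h⟩
      exact ⟨⟨m, hm⟩, mem_resK_ker.2 h, rfl⟩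
  have hfaith : ∀ g ∈ M, (∀ i : Fin p, g ∈ cj K₀ (s ^ (i : ℕ))) → g = 1 := by
    intro g hg h
    apply hinj
    rw [map_one]
    refine MulEquiv.ext fun v => ?_
    obtain ⟨f, rfl⟩ := (B.bij s hs).2 v
    rw [MulAut.one_apply]
    change ρ g (∏ i : Fin p, ρ (s ^ (i : ℕ)) (f i : V)) = ∏ i : Fin p, ρ (s ^ (i : ℕ)) (f i : V)
    rw [map_prod]
    refine Finset.prod_congr rfl fun i _ => ?_
    rw [Blk.apply_comp (i : ℕ), ((hK₀ _).1 (mem_cj.1 (h i))).2 _ (f i).2]
  have hprodK : ∏ i : Fin p, Nat.card (cj K₀ (s ^ (i : ℕ))) = k0 ^ p := by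
    refine (Finset.prod_congr rfl fun (i : Fin p) _ => (card_cj K₀ (s ^ (i : ℕ))).trans hK₀card).trans ?_
    simp
  have h2p := two_mul_le_pow p hpp.two_le
  rw [Bd, hker]
  simp only [mul_one]
  constructor
  · -- the order
    have h1 := card_mul_prod_le M (fun i : Fin p => cj K₀ (s ^ (i : ℕ))) (fun _ : Fin p => M) hfaith
      (fun i m hm => by
        have h3 := ((hK₀ _).1 (mem_cj.1 hm)).1
        have h4 := B.normal.conj_mem _ h3 (s ^ (i : ℕ))
        have h5 : s ^ (i : ℕ) * ((s ^ (i : ℕ))⁻¹ * m * s ^ (i : ℕ)) * (s ^ (i : ℕ))⁻¹ = m := by group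
        rwa [h5] at h4) (fun _ => le_rfl)
    rw [hprodK] at h1
    simp only [Finset.prod_const, Finset.card_univ, Fintype.card_fin] at h1
    have h3 : (2 * Nat.card M) ^ p ≤ (Nat.card W ^ 2 * k0) ^ p := Nat.pow_le_pow_left hW1 p
    have h4 : 2 ^ p * Nat.card M * k0 ^ p ≤ Nat.card V ^ 2 * k0 ^ p := by
      calc 2 ^ p * Nat.card M * k0 ^ p = 2 ^ p * (Nat.card M * k0 ^ p) := by ring
        _ ≤ 2 ^ p * Nat.card M ^ p := by gcongr
        _ = (2 * Nat.card M) ^ p := by rw [mul_pow]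
        _ ≤ (Nat.card W ^ 2 * k0) ^ p := h3
        _ = Nat.card V ^ 2 * k0 ^ p := by rw [hVW, mul_pow]; ring
    have h5 : 2 ^ p * Nat.card M ≤ Nat.card V ^ 2 := Nat.le_of_mul_le_mul_right h4 (pow_pos hk0pos p)
    calc 2 * Nat.card Q = 2 * p * Nat.card M := by rw [hQM]; ring
      _ ≤ 2 ^ p * Nat.card M := by gcongr
      _ ≤ _ := h5
  · -- large orbits
    let E₀ : Subgroup Q := (stab (resK ρ M W B.inv) w).map M.subtype
    have hE₀card : Nat.card E₀ = Nat.card (stab (resK ρ M W B.inv) w) :=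
      Subgroup.card_map_of_injective M.subtype_injective
    have hE₀ : ∀ m, m ∈ E₀ ↔ m ∈ M ∧ ρ m (w : V) = w := by
      intro m
      constructor
      · rintro ⟨m', hm', rfl⟩
        exact ⟨m'.2, congrArg Subtype.val hm'⟩
      · rintro ⟨hm, h⟩
        exact ⟨⟨m, hm⟩, Subtype.ext h, rfl⟩
    refine ⟨∏ i : Fin p, ρ (s ^ (i : ℕ)) (w : V), ?_⟩
    set v : V := ∏ i : Fin p, ρ (s ^ (i : ℕ)) (w : V) with hv
    have h1 := card_mul_prod_le (stab ρ v ⊓ M) (fun i : Fin p => cj K₀ (s ^ (i : ℕ)))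
      (fun i : Fin p => cj E₀ (s ^ (i : ℕ))) (fun g hg => hfaith g hg.2)
      (fun i m hm => by
        rw [mem_cj] at hm ⊢
        have h3 := (hK₀ _).1 hm
        exact (hE₀ _).2 ⟨h3.1, h3.2 _ w.2⟩)
      (fun i m hm => by
        rw [mem_cj]
        exact (hE₀ _).2 ⟨B.conj_mem hm.2 s i, B.fix_comp hs hm.2 (fun _ => w) hm.1 i⟩)
    have hprodE : ∏ i : Fin p, Nat.card (cj E₀ (s ^ (i : ℕ))) = Nat.card (stab (resK ρ M W B.inv) w) ^ p := by
      refine (Finset.prod_congr rfl fun (i : Fin p) _ => (card_cj E₀ (s ^ (i : ℕ))).trans hE₀card).trans ?_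
      simp
    rw [hprodK, hprodE] at h1
    have h3 : (2 * Nat.card (stab (resK ρ M W B.inv) w)) ^ p ≤ (Nat.card W * k0) ^ p := Nat.pow_le_pow_left hW2 p
    have h4 : 2 ^ p * Nat.card (stab ρ v ⊓ M : Subgroup Q) * k0 ^ p ≤ Nat.card V * k0 ^ p := by
      calc 2 ^ p * Nat.card (stab ρ v ⊓ M : Subgroup Q) * k0 ^ p
          = 2 ^ p * (Nat.card (stab ρ v ⊓ M : Subgroup Q) * k0 ^ p) := by ring
        _ ≤ 2 ^ p * Nat.card (stab (resK ρ M W B.inv) w) ^ p := by gcongr
        _ = (2 * Nat.card (stab (resK ρ M W B.inv) w)) ^ p := by rw [mul_pow]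
        _ ≤ (Nat.card W * k0) ^ p := h3
        _ = Nat.card V * k0 ^ p := by rw [hVW, mul_pow]
    have h5 : 2 ^ p * Nat.card (stab ρ v ⊓ M : Subgroup Q) ≤ Nat.card V :=
      Nat.le_of_mul_le_mul_right h4 (pow_pos hk0pos p)
    have h6 := card_stab_le_index M (stab ρ v)
    rw [B.index] at h6
    calc 2 * Nat.card (stab ρ v) ≤ 2 * (p * Nat.card (stab ρ v ⊓ M : Subgroup Q)) := by gcongr
      _ = 2 * p * Nat.card (stab ρ v ⊓ M : Subgroup Q) := by ring
      _ ≤ 2 ^ p * Nat.card (stab ρ v ⊓ M : Subgroup Q) := by gcongr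
      _ ≤ _ := h5

theorem bd_cyc [Nontrivial V] (hQ : IsPGroup p Q) (hp : (Nat.card V).Coprime p) (hinj : Function.Injective ρ)
    (A : Subgroup Q) (hA : A = ⊤ ∨ (p = 2 ∧ A.index = 2 ∧ IsCyclic A ∧ ¬ IsMulCommutative Q))
    (hfix : ∀ x ∈ A, x ≠ 1 → ∀ v, ρ x v = v → v = 1) : Bd ρ := by
  have hker : Nat.card ρ.ker = 1 := by
    rw [(MonoidHom.ker_eq_bot_iff ρ).2 hinj, Subgroup.card_bot]
  have hAV := card_lt_of_semiregular A hfix
  obtain ⟨v, hv⟩ := exists_ne (1 : V)
  have hV1 : 1 < Nat.card V := Finite.one_lt_card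
  have hsq : 4 * (Nat.card V - 1) ≤ Nat.card V ^ 2 := by
    obtain ⟨n, hn⟩ : ∃ n, Nat.card V = n + 1 := ⟨Nat.card V - 1, by omega⟩
    rw [hn, Nat.add_sub_cancel]
    rcases Nat.lt_or_ge n 1 with h | h
    · interval_cases n
      norm_num
    · obtain ⟨k, rfl⟩ := Nat.exists_eq_add_of_le h
      nlinarith [sq_nonneg (k : ℤ)]
  have hstabA : (stab ρ v) ⊓ A = ⊥ := by
    rw [eq_bot_iff]
    rintro x ⟨hx1, hx2⟩
    rw [mem_bot]
    by_contra hx
    exact hv (hfix x hx2 hx v hx1)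
  rw [Bd, hker]
  simp only [mul_one]
  rcases hA with rfl | ⟨rfl, hidx, -, hnc⟩
  · rw [Subgroup.card_top] at hAV
    refine ⟨by omega, v, ?_⟩
    rw [inf_top_eq] at hstabA
    rw [hstabA, Subgroup.card_bot]
    omega
  · have hcQ : Nat.card Q = Nat.card A * 2 := by rw [← hidx, A.card_mul_index]
    refine ⟨by omega, v, ?_⟩
    have h1 := card_stab_le_index A (stab ρ v)
    rw [hstabA, Subgroup.card_bot, hidx] at h1
    have h3 : 3 ≤ Nat.card A := by
      by_contra hlt
      push Not at hlt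
      apply hnc
      have hApos : 0 < Nat.card A := Nat.card_pos
      have : Nat.card A = 1 ∨ Nat.card A = 2 := by omega
      rcases this with h | h
      · rw [h] at hcQ
        have : IsCyclic Q := isCyclic_of_prime_card (p := 2) hcQ
        infer_instance
      · rw [h] at hcQ
        exact IsPGroup.isMulCommutative_of_card_eq_prime_sq (p := 2) hcQ
    omega

/-- Passage to the faithful quotient. -/
theorem bd_of_range (h : Bd (Q := ρ.range) (V := V) ρ.range.subtype) : Bd ρ := by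
  have hk1 : Nat.card (ρ.range.subtype).ker = 1 := by
    rw [(MonoidHom.ker_eq_bot_iff _).2 ρ.range.subtype_injective, Subgroup.card_bot]
  have hQ : Nat.card Q = Nat.card ρ.range * Nat.card ρ.ker := by
    rw [mul_comm, ← ρ.ker.card_mul_index, Subgroup.index_ker]
  obtain ⟨h1, v, h2⟩ := h
  rw [hk1, mul_one] at h1 h2
  refine ⟨?_, v, ?_⟩
  · rw [hQ, ← mul_assoc]
    gcongr
  · have h3 : stab ρ v = (stab (Q := ρ.range) (V := V) ρ.range.subtype v).comap ρ.rangeRestrict := by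
      ext q; rfl
    have h4 : Nat.card (stab ρ v) = Nat.card (stab (Q := ρ.range) (V := V) ρ.range.subtype v) * Nat.card ρ.ker := by
      have h5 : (stab ρ v).map ρ.rangeRestrict = stab (Q := ρ.range) (V := V) ρ.range.subtype v := by
        rw [h3, Subgroup.map_comap_eq_self_of_surjective ρ.rangeRestrict_surjective]
      have h6 := Subgroup.relIndex_ker (K := stab ρ v) ρ.rangeRestrict
      rw [h5, MonoidHom.ker_rangeRestrict] at h6
      rw [← h6, mul_comm]
      exact (card_mul_relIndex (ker_le_stab ρ v)).symm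
    rw [h4, ← mul_assoc]
    gcongr

/-- The kernel on `V / N`, acting on `N`. -/
theorem quo_ker_mem {N : Subgroup V} {hN : Inv ρ N} {q : Q} : q ∈ (quo ρ N hN).ker ↔ ∀ v, ρ q v / v ∈ N := by
  rw [mem_ker]
  constructor
  · intro h v
    have h1 := h (v : V ⧸ N)
    rw [quo_mk, QuotientGroup.eq] at h1
    rw [div_eq_mul_inv, mul_comm]
    have h2 := N.inv_mem h1
    rwa [mul_inv_rev, inv_inv] at h2
  · intro h v
    induction v using QuotientGroup.induction_on with
    | H v =>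
      rw [quo_mk, QuotientGroup.eq]
      have h2 := N.inv_mem (h v)
      rwa [div_eq_mul_inv, mul_inv_rev, inv_inv, mul_comm] at h2

theorem card_ker_resK_le (hQ : IsPGroup p Q) (hp : (Nat.card V).Coprime p) {N : Subgroup V} (hN : Inv ρ N)
    (K : Subgroup Q) (hK : K ≤ (quo ρ N hN).ker) :
    Nat.card (resK ρ K N (fun q _ => hN q)).ker ≤ Nat.card (K ⊓ ρ.ker : Subgroup Q) := by
  refine Nat.card_le_card_of_injective
    (fun k : (resK ρ K N (fun q _ => hN q)).ker => (⟨((k : K) : Q), (k : K).2, ?_⟩ : (K ⊓ ρ.ker : Subgroup Q))) ?_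
  · change ((k : K) : Q) ∈ ρ.ker
    rw [mem_ker]
    obtain ⟨n, hn⟩ := hQ ((k : K) : Q)
    exact eq_of_trivial hp hn (mem_resK_ker.1 k.2) (quo_ker_mem.1 (hK (k : K).2))
  · intro a b hab
    exact Subtype.ext (Subtype.ext (congrArg (fun t : (K ⊓ ρ.ker : Subgroup Q) => (t : Q)) hab))

theorem not_dvd_of_coprime (hp : (Nat.card V).Coprime p) (N : Subgroup V) : ¬ p ∣ Nat.card N := by
  intro h
  have h1 := h.trans (Subgroup.card_subgroup_dvd_card N)
  have h2 : p ∣ 1 := hp ▸ Nat.dvd_gcd h1 dvd_rfl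
  exact hF.out.one_lt.ne' (Nat.dvd_one.1 h2)

theorem bd_red (hQ : IsPGroup p Q) (hp : (Nat.card V).Coprime p) {N : Subgroup V} (hN : Inv ρ N)
    (h1 : Bd (quo ρ N hN)) (h2 : Bd (resK ρ (quo ρ N hN).ker N (fun q _ => hN q))) : Bd ρ := by
  set K := (quo ρ N hN).ker with hK
  have hVN : Nat.card V = Nat.card (V ⧸ N) * Nat.card N := N.card_eq_card_quotient_mul_card_subgroup
  have hkk := card_ker_resK_le hQ hp hN K le_rfl
  have hkle : Nat.card (K ⊓ ρ.ker : Subgroup Q) ≤ Nat.card ρ.ker :=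
    Nat.le_of_dvd Nat.card_pos (Subgroup.card_dvd_of_le inf_le_right)
  have hkk' := hkk.trans hkle
  obtain ⟨h1a, v', h1b⟩ := h1
  obtain ⟨h2a, n, h2b⟩ := h2
  obtain ⟨v, rfl⟩ := QuotientGroup.mk_surjective v'
  have hKpos : 0 < Nat.card K := Nat.card_pos
  constructor
  · have h3 : 2 * Nat.card Q * 2 ≤ Nat.card V ^ 2 * Nat.card ρ.ker := by
      calc 2 * Nat.card Q * 2 ≤ Nat.card (V ⧸ N) ^ 2 * Nat.card K * 2 := by gcongr
        _ = Nat.card (V ⧸ N) ^ 2 * (2 * Nat.card K) := by ring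
        _ ≤ Nat.card (V ⧸ N) ^ 2 * (Nat.card N ^ 2 * Nat.card ρ.ker) :=
          Nat.mul_le_mul_left _ (h2a.trans (Nat.mul_le_mul_left _ hkk'))
        _ = _ := by rw [hVN]; ring
    omega
  · obtain ⟨v₀, hv₀, hfix⟩ := exists_fix_lift hQ hN (not_dvd_of_coprime hp N) K (v := v)
      (fun q hq => quo_ker_mem.1 hq v)
    have hv₀' : (v₀ : V ⧸ N) = v := by
      rw [QuotientGroup.eq]
      have h2 := N.inv_mem hv₀
      rwa [div_eq_mul_inv, mul_inv_rev, inv_inv, mul_comm] at h2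
    refine ⟨v₀ * n, ?_⟩
    have hle : stab ρ (v₀ * n) ≤ stab (quo ρ N hN) (v : V ⧸ N) := by
      intro q hq
      rw [mem_stab] at hq ⊢
      have h3 : ((v₀ * n : V) : V ⧸ N) = v := by
        rw [QuotientGroup.mk_mul, hv₀', (QuotientGroup.eq_one_iff (n : V)).2 n.2, mul_one]
      rw [← h3, quo_mk, hq]
    have hinf : Nat.card (stab ρ (v₀ * n) ⊓ K : Subgroup Q) ≤
        Nat.card (stab (resK ρ K N (fun q _ => hN q)) n) := by
      refine Nat.card_le_card_of_injective
        (fun k : (stab ρ (v₀ * n) ⊓ K : Subgroup Q) =>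
          (⟨⟨k.1, k.2.2⟩, ?_⟩ : stab (resK ρ K N (fun q _ => hN q)) n)) ?_
      · rw [mem_stab]
        apply Subtype.ext
        rw [coe_resK]
        have h3 : ρ k.1 (v₀ * n) = v₀ * n := k.2.1
        rw [map_mul, hfix k.1 k.2.2] at h3
        exact mul_left_cancel h3
      · intro a b hab
        exact Subtype.ext (congrArg (fun t : stab (resK ρ K N (fun q _ => hN q)) n => ((t : K) : Q)) hab)
    have hKle : K ≤ stab (quo ρ N hN) (v : V ⧸ N) := ker_le_stab _ _
    have h4 := card_mul_card_le hle hKle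
    have h5 : 2 * Nat.card (stab ρ (v₀ * n)) * Nat.card K * 2 ≤ Nat.card V * Nat.card ρ.ker * Nat.card K := by
      calc 2 * Nat.card (stab ρ (v₀ * n)) * Nat.card K * 2
          = (Nat.card (stab ρ (v₀ * n)) * Nat.card K) * (2 * 2) := by ring
        _ ≤ (Nat.card (stab (quo ρ N hN) (v : V ⧸ N)) * Nat.card (stab ρ (v₀ * n) ⊓ K : Subgroup Q)) * (2 * 2) := by
          gcongr
        _ = (2 * Nat.card (stab (quo ρ N hN) (v : V ⧸ N))) * (2 * Nat.card (stab ρ (v₀ * n) ⊓ K : Subgroup Q)) := by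
          ring
        _ ≤ (Nat.card (V ⧸ N) * Nat.card K) * (2 * Nat.card (stab (resK ρ K N (fun q _ => hN q)) n)) := by
          gcongr
        _ ≤ (Nat.card (V ⧸ N) * Nat.card K) * (Nat.card N * Nat.card (resK ρ K N (fun q _ => hN q)).ker) := by
          gcongr
        _ ≤ (Nat.card (V ⧸ N) * Nat.card K) * (Nat.card N * Nat.card ρ.ker) := by gcongr
        _ = _ := by rw [hVN]; ring
    have h6 : 2 * Nat.card (stab ρ (v₀ * n)) * 2 ≤ Nat.card V * Nat.card ρ.ker := by
      refine Nat.le_of_mul_le_mul_right ?_ hKpos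
      calc 2 * Nat.card (stab ρ (v₀ * n)) * 2 * Nat.card K = 2 * Nat.card (stab ρ (v₀ * n)) * Nat.card K * 2 := by ring
        _ ≤ _ := h5
    omega

end main

/-- **Bounds**: `2 |Q| ≤ |V|² |ker|`, and `2 |C_Q(v)| ≤ |V| |ker|` for some `v`. -/
theorem bounds {p : ℕ} [hF : Fact p.Prime] : ∀ (n : ℕ) (Q V : Type u) [Group Q] [CommGroup V] [Finite Q] [Finite V]
    (ρ : Q →* MulAut V), Nat.card V ≤ n → IsPGroup p Q → (Nat.card V).Coprime p → Nontrivial V → Bd ρ := by
  intro n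
  induction n with
  | zero =>
    intro Q V _ _ _ _ ρ hn _ _ _
    exact absurd hn (by have := Nat.card_pos (α := V); omega)
  | succ n ih =>
    intro Q V _ _ _ _ ρ hn hQ hp hnt
    have hV1 : 1 < Nat.card V := Finite.one_lt_card
    by_cases hred : ∃ N : Subgroup V, Inv ρ N ∧ N ≠ ⊥ ∧ N ≠ ⊤
    · obtain ⟨N, hN, hb, ht⟩ := hred
      have hVN : Nat.card V = Nat.card (V ⧸ N) * Nat.card N := N.card_eq_card_quotient_mul_card_subgroup
      have hNnt : Nontrivial N := (Subgroup.nontrivial_iff_ne_bot N).2 hb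
      have hN1 : 1 < Nat.card N := Finite.one_lt_card
      have hq1 : 1 < Nat.card (V ⧸ N) := by
        by_contra hle
        have h0 : 0 < Nat.card (V ⧸ N) := Nat.card_pos
        have h1 : Nat.card (V ⧸ N) = 1 := by omega
        exact ht (Subgroup.index_eq_one.1 h1)
      have hqnt : Nontrivial (V ⧸ N) := Finite.one_lt_card_iff_nontrivial.1 hq1
      have hlt1 : Nat.card (V ⧸ N) < Nat.card V := by nlinarith
      have hlt2 : Nat.card N < Nat.card V := by nlinarith
      have hpN : (Nat.card N).Coprime p := Nat.Coprime.coprime_dvd_left (Subgroup.card_subgroup_dvd_card N) hp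
      have hpq : (Nat.card (V ⧸ N)).Coprime p := Nat.Coprime.coprime_dvd_left ⟨_, hVN⟩ hp
      refine bd_red hQ hp hN (ih _ _ _ (by omega) hQ hpq hqnt) (ih _ _ _ (by omega) (hQ.to_subgroup _) hpN hNnt)
    · push Not at hred
      apply bd_of_range
      have hQ' : IsPGroup p ρ.range := hQ.of_surjective ρ.rangeRestrict ρ.rangeRestrict_surjective
      have hinj : Function.Injective (ρ.range.subtype) := ρ.range.subtype_injective
      have hirr : Irr (Q := ρ.range) (V := V) ρ.range.subtype := by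
        intro N hN
        by_contra hcon
        push Not at hcon
        exact hcon.2 (hred N (fun q v hv => hN ⟨ρ q, ⟨q, rfl⟩⟩ v hv) hcon.1)
      have hfin : Finite ρ.range := Finite.of_surjective _ ρ.rangeRestrict_surjective
      by_cases hab : ∀ A : Subgroup ρ.range, A.Normal → IsMulCommutative A → IsCyclic A
      · obtain ⟨A, hA, hfix⟩ := cyc_case hQ' hinj hirr hab
        exact bd_cyc (p := p) hQ' hp hinj A hA hfix
      · push Not at hab
        obtain ⟨A, hAn, hAc, hAnc⟩ := hab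
        obtain ⟨M, W, hM1, hM2, hM3, hM4⟩ := blocks hQ' hinj hirr hp A hAc hAnc
        have B : Blk ρ.range.subtype p M W := ⟨hM1, hM2, hM3, hM4⟩
        obtain ⟨s, hs⟩ : ∃ s, s ∉ M := by
          by_contra hcon
          push Not at hcon
          have : M = ⊤ := eq_top_iff.2 fun x _ => hcon x
          rw [this, Subgroup.index_top] at hM2
          exact hF.out.one_lt.ne hM2
        have hVW := B.card_eq hs
        have hW1 : 1 < Nat.card W := by
          by_contra hle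
          have h0 : 0 < Nat.card W := Nat.card_pos
          have h1 : Nat.card W = 1 := by omega
          rw [h1, one_pow] at hVW
          omega
        have hWlt : Nat.card W < Nat.card V := by
          rw [hVW]
          exact lt_self_pow₀ hW1 hF.out.one_lt
        refine bd_blk (p := p) B hinj (ih _ _ _ (by omega) (hQ'.to_subgroup _)
          (Nat.Coprime.coprime_dvd_left (Subgroup.card_subgroup_dvd_card W) hp)
          (Finite.one_lt_card_iff_nontrivial.1 hW1))

end Cfsg.Agent.H548.PBound
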