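import Mathlib
import Cfsg.Agent.H548.PBound

/-!
# The coset claim for `p`-groups of operators of an abelian `p'`-group (helper548, for S4239)

`cl_main` : if a `p`-group `Q` acts on a finite abelian `p'`-group `V`, `P ≤ Q` and `a ∈ Q`, then there are `s ∈ P a` and
`v ∈ C_V(s)` such that `|{c ∈ P : c v = v, [c, s] acts trivially}| |C_V(s)| ≤ |V| |C_P(V)|`.
-/

set_option autoImplicit false

namespace Cfsg.Agent.H548.PCoset

open Subgroup Cfsg.Agent.H548.PMod Cfsg.Agent.H548.PDich Cfsg.Agent.H548.PBound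

universe u

section basics

theorem card_eq_map_mul {G H : Type*} [Group G] [Group H] (f : G →* H) (T : Subgroup G) :
    Nat.card T = Nat.card (T.map f) * Nat.card (T ⊓ f.ker : Subgroup G) := by
  have h1 := card_mul_relIndex (inf_le_left : T ⊓ f.ker ≤ T)
  rw [Subgroup.inf_relIndex_left, Subgroup.relIndex_ker] at h1
  rw [← h1, mul_comm]

theorem card_le_of_le {G : Type*} [Group G] {H K : Subgroup G} [Finite K] (h : H ≤ K) : Nat.card H ≤ Nat.card K :=
  Nat.le_of_dvd Nat.card_pos (Subgroup.card_dvd_of_le h)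

variable {Q V : Type u} [Group Q] [CommGroup V]

/-- Elements of `P` that fix `v` and commute with `s` modulo the kernel. -/
def T (ρ : Q →* MulAut V) (P : Subgroup Q) (s : Q) (v : V) : Subgroup Q :=
  P ⊓ stab ρ v ⊓ (Subgroup.centralizer {ρ s}).comap ρ

theorem mem_T {ρ : Q →* MulAut V} {P : Subgroup Q} {s : Q} {v : V} {c : Q} :
    c ∈ T ρ P s v ↔ c ∈ P ∧ ρ c v = v ∧ ρ c * ρ s = ρ s * ρ c := by
  unfold T
  rw [mem_inf, mem_inf, mem_stab, mem_comap, mem_centralizer_singleton_iff, and_assoc]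

/-- The claim. -/
def Cl (ρ : Q →* MulAut V) (P : Subgroup Q) (a : Q) : Prop :=
  ∃ s, (∃ c ∈ P, s = c * a) ∧ ∃ v, ρ s v = v ∧
    Nat.card (T ρ P s v) * Nat.card (fx ρ s) ≤ Nat.card V * Nat.card (P ⊓ ρ.ker : Subgroup Q)

/-- Passage to the faithful quotient. -/
theorem cl_of_range [Finite Q] {ρ : Q →* MulAut V} {P : Subgroup Q} {a : Q}
    (h : Cl (Q := ρ.range) (V := V) ρ.range.subtype (P.map ρ.rangeRestrict) (ρ.rangeRestrict a)) : Cl ρ P a := by
  obtain ⟨s', ⟨c', ⟨c, hc, rfl⟩, rfl⟩, v, hv, hle⟩ := h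
  have hs : (ρ.range.subtype (ρ.rangeRestrict c * ρ.rangeRestrict a)) = ρ (c * a) := by
    rw [map_mul, map_mul]; rfl
  refine ⟨c * a, ⟨c, hc, rfl⟩, v, ?_, ?_⟩
  · rw [← hs]; exact hv
  · have hk1 : Nat.card ((P.map ρ.rangeRestrict) ⊓ (ρ.range.subtype).ker : Subgroup ρ.range) = 1 := by
      rw [(MonoidHom.ker_eq_bot_iff _).2 ρ.range.subtype_injective, inf_bot_eq, Subgroup.card_bot]
    rw [hk1, mul_one] at hle
    have hfx : Nat.card (fx (Q := ρ.range) (V := V) ρ.range.subtype (ρ.rangeRestrict c * ρ.rangeRestrict a)) =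
        Nat.card (fx ρ (c * a)) := by
      refine Nat.card_congr (Equiv.subtypeEquivRight fun x => ?_)
      rw [mem_fx, mem_fx, hs]
    rw [hfx] at hle
    have hT := card_eq_map_mul ρ.rangeRestrict (T ρ P (c * a) v)
    rw [MonoidHom.ker_rangeRestrict] at hT
    have h1 : Nat.card (T ρ P (c * a) v ⊓ ρ.ker : Subgroup Q) ≤ Nat.card (P ⊓ ρ.ker : Subgroup Q) := by
      apply card_le_of_le
      intro x hx
      exact ⟨(mem_T.1 hx.1).1, hx.2⟩
    have h2 : (T ρ P (c * a) v).map ρ.rangeRestrict ≤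
        T (Q := ρ.range) (V := V) ρ.range.subtype (P.map ρ.rangeRestrict) (ρ.rangeRestrict c * ρ.rangeRestrict a) v := by
      rintro _ ⟨x, hx, rfl⟩
      rw [SetLike.mem_coe, mem_T] at hx
      rw [mem_T]
      refine ⟨⟨x, hx.1, rfl⟩, hx.2.1, ?_⟩
      rw [hs]
      exact hx.2.2
    have hfin : Finite ρ.range := Finite.of_surjective _ ρ.rangeRestrict_surjective
    have h3 := card_le_of_le h2
    rw [hT]
    calc Nat.card ((T ρ P (c * a) v).map ρ.rangeRestrict) * Nat.card (T ρ P (c * a) v ⊓ ρ.ker : Subgroup Q) *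
          Nat.card (fx ρ (c * a)) = Nat.card ((T ρ P (c * a) v).map ρ.rangeRestrict) * Nat.card (fx ρ (c * a)) *
            Nat.card (T ρ P (c * a) v ⊓ ρ.ker : Subgroup Q) := by ring
      _ ≤ Nat.card V * Nat.card (P ⊓ ρ.ker : Subgroup Q) :=
        Nat.mul_le_mul ((Nat.mul_le_mul_right _ h3).trans hle) h1

/-- Passage to a subgroup. -/
theorem cl_of_sub [Finite Q] {ρ : Q →* MulAut V} {P : Subgroup Q} {a : Q} (Q₀ : Subgroup Q) (hP : P ≤ Q₀) (ha : a ∈ Q₀)
    (h : Cl (ρ.comp Q₀.subtype) (P.subgroupOf Q₀) ⟨a, ha⟩) : Cl ρ P a := by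
  obtain ⟨s, ⟨c, hc, hs⟩, v, hv, hle⟩ := h
  have hsv : (s : Q) = c * a := congrArg Subtype.val hs
  refine ⟨s, ⟨c, hc, hsv⟩, v, hv, ?_⟩
  have h1 : Nat.card (T ρ P s v) ≤ Nat.card (T (ρ.comp Q₀.subtype) (P.subgroupOf Q₀) s v) := by
    refine Nat.card_le_card_of_injective (fun x : T ρ P s v => (⟨⟨x.1, hP (mem_T.1 x.2).1⟩, ?_⟩ :
      T (ρ.comp Q₀.subtype) (P.subgroupOf Q₀) s v)) ?_
    · have hx := mem_T.1 x.2
      exact mem_T.2 ⟨hx.1, hx.2.1, hx.2.2⟩
    · intro x y hxy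
      exact Subtype.ext (congrArg (fun t : T (ρ.comp Q₀.subtype) (P.subgroupOf Q₀) s v => ((t : Q₀) : Q)) hxy)
  have h2 : Nat.card (P.subgroupOf Q₀ ⊓ (ρ.comp Q₀.subtype).ker : Subgroup Q₀) ≤ Nat.card (P ⊓ ρ.ker : Subgroup Q) := by
    refine Nat.card_le_card_of_injective (fun x : (P.subgroupOf Q₀ ⊓ (ρ.comp Q₀.subtype).ker : Subgroup Q₀) =>
      (⟨((x : Q₀) : Q), x.2.1, x.2.2⟩ : (P ⊓ ρ.ker : Subgroup Q))) ?_
    intro x y hxy
    exact Subtype.ext (Subtype.ext (congrArg (fun t : (P ⊓ ρ.ker : Subgroup Q) => (t : Q)) hxy))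
  exact (Nat.mul_le_mul_right _ h1).trans (hle.trans (Nat.mul_le_mul_left _ h2))

theorem exists_coset_not_mem {P M : Subgroup Q} {a : Q} (h : P ⊔ zpowers a = ⊤) (hM : M ≠ ⊤) :
    ∃ c ∈ P, c * a ∉ M := by
  by_contra hcon
  push Not at hcon
  have h1 : a ∈ M := by simpa using hcon 1 P.one_mem
  have h2 : P ≤ M := by
    intro c hc
    have h3 := M.mul_mem (hcon c hc) (M.inv_mem h1)
    rwa [mul_inv_cancel_right] at h3
  exact hM (eq_top_iff.2 (h ▸ sup_le h2 ((zpowers_le).2 h1)))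

/-- Trivial module. -/
theorem cl_triv [Finite Q] {ρ : Q →* MulAut V} {P : Subgroup Q} {a : Q} [Subsingleton V] : Cl ρ P a := by
  refine ⟨a, ⟨1, P.one_mem, (one_mul a).symm⟩, 1, Subsingleton.elim _ _, ?_⟩
  have h1 : Nat.card (fx ρ a) = 1 := by
    rw [Nat.card_eq_one_iff_unique]
    exact ⟨inferInstance, ⟨1⟩⟩
  have h2 : Nat.card V = 1 := by
    rw [Nat.card_eq_one_iff_unique]
    exact ⟨inferInstance, ⟨1⟩⟩
  rw [h1, h2, mul_one, one_mul]
  apply card_le_of_le
  intro x hx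
  exact ⟨(mem_T.1 hx).1, mem_ker.2 fun v => Subsingleton.elim _ _⟩

end basics

section b4

variable {Q V : Type u} [Group Q] [CommGroup V] [Finite Q] [Finite V] {ρ : Q →* MulAut V} {p : ℕ} [hF : Fact p.Prime]

theorem b4 (hQ : IsPGroup p Q) (hp : (Nat.card V).Coprime p) [Nontrivial V] {N : Subgroup V} (hN : Inv ρ N) :
    ∃ w ∈ N, 2 * Nat.card (stab ρ w) * Nat.card N ≤ Nat.card V ^ 2 * Nat.card ρ.ker := by
  have hbd := bounds (p := p) _ Q V ρ le_rfl hQ hp inferInstance
  by_cases hb : N = ⊥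
  · refine ⟨1, N.one_mem, ?_⟩
    rw [hb, Subgroup.card_bot, mul_one]
    have h1 : Nat.card (stab ρ 1) ≤ Nat.card Q := Subgroup.card_le_card_group _
    exact (Nat.mul_le_mul_left _ h1).trans hbd.1
  · have hVN : Nat.card V = Nat.card (V ⧸ N) * Nat.card N := N.card_eq_card_quotient_mul_card_subgroup
    have hNnt : Nontrivial N := (Subgroup.nontrivial_iff_ne_bot N).2 hb
    have hpN : (Nat.card N).Coprime p := Nat.Coprime.coprime_dvd_left (Subgroup.card_subgroup_dvd_card N) hp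
    obtain ⟨-, w, hw⟩ := bounds (p := p) _ Q N (res ρ N hN) le_rfl hQ hpN hNnt
    refine ⟨w, w.2, ?_⟩
    have h1 : Nat.card (stab ρ (w : V)) ≤ Nat.card (stab (res ρ N hN) w) := by
      apply card_le_of_le
      intro q hq
      exact Subtype.ext hq
    set K := (res ρ N hN).ker with hK
    have hKmem : ∀ k ∈ K, ∀ v ∈ N, ρ k v = v := by
      intro k hk v hv
      exact congrArg Subtype.val (mem_ker.1 hk ⟨v, hv⟩)
    have h2 : Nat.card K * Nat.card N ^ 2 ≤ Nat.card V ^ 2 * Nat.card ρ.ker := by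
      by_cases ht : N = ⊤
      · have h3 : Nat.card K ≤ Nat.card ρ.ker := by
          apply card_le_of_le
          intro q hq
          exact mem_ker.2 fun v => hKmem q hq v (ht ▸ mem_top v)
        rw [ht, Subgroup.card_top, mul_comm]
        gcongr
      · have hq1 : 1 < Nat.card (V ⧸ N) := by
          by_contra hle
          have h0 : 0 < Nat.card (V ⧸ N) := Nat.card_pos
          have h1 : Nat.card (V ⧸ N) = 1 := by omega
          exact ht (Subgroup.index_eq_one.1 h1)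
        have hqnt : Nontrivial (V ⧸ N) := Finite.one_lt_card_iff_nontrivial.1 hq1
        have hpq : (Nat.card (V ⧸ N)).Coprime p := Nat.Coprime.coprime_dvd_left ⟨_, hVN⟩ hp
        obtain ⟨h3, -⟩ := bounds (p := p) _ K (V ⧸ N) ((quo ρ N hN).comp K.subtype) le_rfl (hQ.to_subgroup _) hpq hqnt
        have h4 : Nat.card ((quo ρ N hN).comp K.subtype).ker ≤ Nat.card ρ.ker := by
          refine Nat.card_le_card_of_injective
            (fun k : ((quo ρ N hN).comp K.subtype).ker => (⟨((k : K) : Q), ?_⟩ : ρ.ker)) ?_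
          · rw [mem_ker]
            obtain ⟨n, hn⟩ := hQ ((k : K) : Q)
            have hk2 : ((k : K) : Q) ∈ (quo ρ N hN).ker := k.2
            exact eq_of_trivial hp hn (hKmem _ (k : K).2) ((quo_ker_mem (hN := hN)).1 hk2)
          · intro a b hab
            exact Subtype.ext (Subtype.ext (congrArg (fun t : ρ.ker => (t : Q)) hab))
        calc Nat.card K * Nat.card N ^ 2 ≤ 2 * Nat.card K * Nat.card N ^ 2 := by
              gcongr
              omega
          _ ≤ Nat.card (V ⧸ N) ^ 2 * Nat.card ρ.ker * Nat.card N ^ 2 :=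
              Nat.mul_le_mul_right _ (h3.trans (Nat.mul_le_mul_left _ h4))
          _ = _ := by rw [hVN]; ring
    calc 2 * Nat.card (stab ρ (w : V)) * Nat.card N ≤ 2 * Nat.card (stab (res ρ N hN) w) * Nat.card N := by gcongr
      _ ≤ Nat.card N * Nat.card K * Nat.card N := by gcongr
      _ = Nat.card K * Nat.card N ^ 2 := by ring
      _ ≤ _ := h2

end b4

section blk

theorem mul_sq_le (x p : ℕ) (hx : 2 ≤ x) (hp : 2 ≤ p) : p * x ^ 2 ≤ 2 * x ^ p := by
  induction p, hp using Nat.le_induction with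
  | base => rfl
  | succ n hn ih =>
    calc (n + 1) * x ^ 2 ≤ (x * n) * x ^ 2 := by
          gcongr
          nlinarith
      _ = x * (n * x ^ 2) := by ring
      _ ≤ x * (2 * x ^ n) := by gcongr
      _ = _ := by ring

variable {Q V : Type u} [Group Q] [CommGroup V] {ρ : Q →* MulAut V}

/-- Fixed vectors of `s` in the block situation. -/
theorem blk_fix {m : ℕ} {M : Subgroup Q} {W : Subgroup V} (B : Blk ρ (m + 1) M W) {s : Q} (hs : s ∉ M)
    (f : Fin (m + 1) → W)
    (h : ρ s (∏ i : Fin (m + 1), ρ (s ^ (i : ℕ)) (f i : V)) = ∏ i : Fin (m + 1), ρ (s ^ (i : ℕ)) (f i : V)) :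
    ρ (s ^ (m + 1)) (f 0 : V) = f 0 ∧ ∀ i, f i = f 0 := by
  have hsp : s ^ (m + 1) ∈ M := by
    have := B.normal
    have h1 := Subgroup.pow_index_mem M s
    rwa [B.index] at h1
  let g : Fin (m + 1) → W := Fin.cons ⟨ρ (s ^ (m + 1)) (f (Fin.last m) : V), B.inv _ hsp _ (f (Fin.last m)).2⟩
    (fun i : Fin m => f i.castSucc)
  have h1 : ∏ i : Fin (m + 1), ρ (s ^ (i : ℕ)) (g i : V) = ρ s (∏ i : Fin (m + 1), ρ (s ^ (i : ℕ)) (f i : V)) := by
    rw [map_prod, Fin.prod_univ_succ, Fin.prod_univ_castSucc, mul_comm]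
    congr 1
    · refine Finset.prod_congr rfl fun i _ => ?_
      rw [← MulAut.mul_apply, ← map_mul, ← pow_succ']
      simp [g]
    · rw [← MulAut.mul_apply, ← map_mul, ← pow_succ']
      simp [g]
  rw [h] at h1
  have h2 : g = f := (B.bij s hs).1 h1
  have h3 : ∀ i : Fin m, f i.succ = f i.castSucc := by
    intro i
    have := congrFun h2 i.succ
    rw [← this]
    simp [g]
  have h4 : ∀ i, f i = f 0 := by
    intro i
    induction i using Fin.induction with
    | zero => rfl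
    | succ i ih => rw [h3, ih]
  refine ⟨?_, h4⟩
  have h5 := congrArg Subtype.val (congrFun h2 0)
  have h6 : (g 0 : V) = ρ (s ^ (m + 1)) (f (Fin.last m) : V) := by simp [g]
  rw [← h4 (Fin.last m)] 
  rw [← h6, h5, h4 (Fin.last m)]

theorem blk_sum_fix {m : ℕ} {s : Q} {w : V} (hw : ρ (s ^ (m + 1)) w = w) :
    ρ s (∏ i : Fin (m + 1), ρ (s ^ (i : ℕ)) w) = ∏ i : Fin (m + 1), ρ (s ^ (i : ℕ)) w := by
  rw [map_prod, Fin.prod_univ_succ (f := fun i : Fin (m + 1) => ρ (s ^ (i : ℕ)) w), Fin.prod_univ_castSucc, mul_comm]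
  congr 1
  · rw [← MulAut.mul_apply, ← map_mul, ← pow_succ', Fin.val_last, hw]
    simp
  · refine Finset.prod_congr rfl fun i _ => ?_
    rw [← MulAut.mul_apply, ← map_mul, ← pow_succ']
    simp

variable [Finite Q] [Finite V] {p : ℕ} [hF : Fact p.Prime]

theorem cl_blk (hQ : IsPGroup p Q) (hp : (Nat.card V).Coprime p) [Nontrivial V] {M : Subgroup Q} {W : Subgroup V}
    (B : Blk ρ p M W) (hinj : Function.Injective ρ) (P : Subgroup Q) (a : Q) (hgen : P ⊔ zpowers a = ⊤) :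
    Cl ρ P a := by
  have hpp : p.Prime := hF.out
  have hMt : M ≠ ⊤ := by
    intro h
    have h1 := B.index
    rw [h, Subgroup.index_top] at h1
    exact hpp.one_lt.ne h1
  obtain ⟨c, hc, hs⟩ := exists_coset_not_mem hgen hMt
  set s := c * a with hsdef
  have hVW := B.card_eq hs
  have hW1 : 1 < Nat.card W := by
    by_contra hle
    have h0 : 0 < Nat.card W := Nat.card_pos
    have h1 : Nat.card W = 1 := by omega
    rw [h1, one_pow] at hVW
    have : 1 < Nat.card V := Finite.one_lt_card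
    omega
  have hWnt : Nontrivial W := Finite.one_lt_card_iff_nontrivial.1 hW1
  have hpW : (Nat.card W).Coprime p := Nat.Coprime.coprime_dvd_left (Subgroup.card_subgroup_dvd_card W) hp
  let R : Subgroup Q := P ⊓ M ⊓ centralizer {s}
  have hR : ∀ q, q ∈ R ↔ q ∈ P ∧ q ∈ M ∧ q * s = s * q := by
    intro q
    change q ∈ P ⊓ M ⊓ centralizer {s} ↔ _
    rw [mem_inf, mem_inf, mem_centralizer_singleton_iff, and_assoc]
  have hRW : ∀ q ∈ R, ∀ v ∈ W, ρ q v ∈ W := fun q hq v hv => B.inv q ((hR q).1 hq).2.1 v hv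
  have hcomm : ∀ q ∈ R, ∀ i : ℕ, q * s ^ i = s ^ i * q := by
    intro q hq i
    exact (Commute.pow_right ((hR q).1 hq).2.2 i)
  let N : Subgroup W := (fx ρ (s ^ p)).subgroupOf W
  have hN : Inv (resK ρ R W hRW) N := by
    intro q w hw
    change ρ (s ^ p) (ρ (q : Q) (w : V)) = ρ (q : Q) (w : V)
    rw [← MulAut.mul_apply, ← map_mul, ← hcomm q q.2, map_mul, MulAut.mul_apply]
    congr 1
  obtain ⟨w, hwN, hw⟩ := b4 (p := p) (hQ.to_subgroup R) hpW hN
  have hker : Nat.card (resK ρ R W hRW).ker = 1 := by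
    rw [Subgroup.card_eq_one, eq_bot_iff]
    intro q hq
    rw [mem_resK_ker] at hq
    rw [mem_bot]
    apply Subtype.ext
    apply hinj
    rw [coe_one, map_one]
    refine MulEquiv.ext fun v => ?_
    obtain ⟨f, rfl⟩ := (B.bij s hs).2 v
    rw [MulAut.one_apply]
    change ρ (q : Q) (∏ i : Fin p, ρ (s ^ (i : ℕ)) (f i : V)) = ∏ i : Fin p, ρ (s ^ (i : ℕ)) (f i : V)
    rw [map_prod]
    refine Finset.prod_congr rfl fun i _ => ?_
    rw [← MulAut.mul_apply, ← map_mul, hcomm q q.2, map_mul, MulAut.mul_apply, hq _ (f i).2]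
  rw [hker, mul_one] at hw
  have hw1 : ρ (s ^ p) (w : V) = w := hwN
  have hkerρ : Nat.card ρ.ker = 1 := by
    rw [(MonoidHom.ker_eq_bot_iff ρ).2 hinj, Subgroup.card_bot]
  obtain ⟨m, rfl⟩ : ∃ m, p = m + 1 := ⟨p - 1, by have := hpp.pos; omega⟩
  refine ⟨s, ⟨c, hc, rfl⟩, ∏ i : Fin (m + 1), ρ (s ^ (i : ℕ)) (w : V), blk_sum_fix hw1, ?_⟩
  set v : V := ∏ i : Fin (m + 1), ρ (s ^ (i : ℕ)) (w : V) with hv
  have hfx : Nat.card (fx ρ s) ≤ Nat.card N := by
    have hex : ∀ x : fx ρ s, ∃ n : N, (x : V) = ∏ i : Fin (m + 1), ρ (s ^ (i : ℕ)) ((n : W) : V) := by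
      intro x
      obtain ⟨f, hf⟩ := (B.bij s hs).2 (x : V)
      have hf' : ∏ i : Fin (m + 1), ρ (s ^ (i : ℕ)) (f i : V) = x := hf
      have h1 := blk_fix B hs f (by rw [hf']; exact x.2)
      refine ⟨⟨f 0, h1.1⟩, ?_⟩
      rw [← hf']
      exact Finset.prod_congr rfl fun i _ => by rw [h1.2 i]
    choose g hg using hex
    refine Nat.card_le_card_of_injective g ?_
    intro x y hxy
    apply Subtype.ext
    rw [hg x, hg y, hxy]
  have hT : Nat.card (T ρ P s v) ≤ (m + 1) * Nat.card (stab (resK ρ R W hRW) w) := by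
    have h1 := card_stab_le_index M (T ρ P s v)
    rw [B.index] at h1
    refine h1.trans (Nat.mul_le_mul_left _ ?_)
    have hmem : ∀ x : (T ρ P s v ⊓ M : Subgroup Q), (x : Q) ∈ R := by
      intro x
      have hx := mem_T.1 x.2.1
      refine (hR _).2 ⟨hx.1, x.2.2, hinj ?_⟩
      rw [map_mul ρ (x : Q) s, map_mul ρ s (x : Q)]
      exact hx.2.2
    refine Nat.card_le_card_of_injective (fun x : (T ρ P s v ⊓ M : Subgroup Q) =>
      (⟨⟨x.1, hmem x⟩, ?_⟩ : stab (resK ρ R W hRW) w)) ?_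
    · rw [mem_stab]
      apply Subtype.ext
      rw [coe_resK]
      have hx := mem_T.1 x.2.1
      have h2 := B.fix_comp hs x.2.2 (fun _ => w) hx.2.1 0
      simpa using h2
    · intro x y hxy
      exact Subtype.ext (congrArg (fun t : stab (resK ρ R W hRW) w => ((t : R) : Q)) hxy)
  have hPk : Nat.card (P ⊓ ρ.ker : Subgroup Q) = 1 := by
    have h1 := card_le_of_le (inf_le_right : P ⊓ ρ.ker ≤ ρ.ker)
    have h2 : 0 < Nat.card (P ⊓ ρ.ker : Subgroup Q) := Nat.card_pos
    omega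
  rw [hPk, mul_one, hVW]
  have h5 := mul_sq_le (Nat.card W) (m + 1) hW1 hpp.two_le
  have h6 : 2 * (Nat.card (T ρ P s v) * Nat.card (fx ρ s)) ≤ 2 * Nat.card W ^ (m + 1) := by
    calc 2 * (Nat.card (T ρ P s v) * Nat.card (fx ρ s))
        ≤ 2 * ((m + 1) * Nat.card (stab (resK ρ R W hRW) w) * Nat.card N) := by gcongr
      _ = (m + 1) * (2 * Nat.card (stab (resK ρ R W hRW) w) * Nat.card N) := by ring
      _ ≤ (m + 1) * Nat.card W ^ 2 := by gcongr
      _ ≤ _ := h5
  omega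

end blk

section cyc

variable {Q V : Type u} [Group Q] [CommGroup V] {ρ : Q →* MulAut V} [Finite Q] [Finite V] {p : ℕ} [hF : Fact p.Prime]

theorem cl_cyc [Nontrivial V] (hp : (Nat.card V).Coprime p) (hinj : Function.Injective ρ)
    (A : Subgroup Q) (hA : A = ⊤ ∨ (p = 2 ∧ A.index = 2 ∧ IsCyclic A ∧ ¬ IsMulCommutative Q))
    (hfix : ∀ x ∈ A, x ≠ 1 → ∀ v, ρ x v = v → v = 1) (P : Subgroup Q) (a : Q) (hgen : P ⊔ zpowers a = ⊤) :
    Cl ρ P a := by
  have hker : Nat.card ρ.ker = 1 := by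
    rw [(MonoidHom.ker_eq_bot_iff ρ).2 hinj, Subgroup.card_bot]
  have hPk : Nat.card (P ⊓ ρ.ker : Subgroup Q) = 1 := by
    have h1 := card_le_of_le (inf_le_right : P ⊓ ρ.ker ≤ ρ.ker)
    have h2 : 0 < Nat.card (P ⊓ ρ.ker : Subgroup Q) := Nat.card_pos
    omega
  have hAV := card_lt_of_semiregular A hfix
  rcases hA with rfl | ⟨rfl, hidx, hcyc, hnc⟩
  · -- regular case
    rw [Subgroup.card_top] at hAV
    by_cases ha : a = 1
    · obtain ⟨v, hv⟩ := exists_ne (1 : V)
      refine ⟨a, ⟨1, P.one_mem, (one_mul a).symm⟩, v, by rw [ha, map_one, MulAut.one_apply], ?_⟩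
      rw [hPk, mul_one]
      have h1 : Nat.card (T ρ P a v) = 1 := by
        rw [Subgroup.card_eq_one, eq_bot_iff]
        intro x hx
        rw [mem_bot]
        by_contra hx1
        exact hv (hfix x (mem_top x) hx1 v (mem_T.1 hx).2.1)
      rw [h1, one_mul]
      exact Subgroup.card_le_card_group _
    · refine ⟨a, ⟨1, P.one_mem, (one_mul a).symm⟩, 1, map_one _, ?_⟩
      rw [hPk, mul_one]
      have h1 : Nat.card (fx ρ a) = 1 := by
        rw [Subgroup.card_eq_one, eq_bot_iff]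
        intro x hx
        rw [mem_bot]
        exact hfix a (mem_top a) ha x hx
      rw [h1, mul_one]
      exact (Subgroup.card_le_card_group _).trans hAV.le
  · have hAt : A ≠ ⊤ := by
      intro h
      rw [h, Subgroup.index_top] at hidx
      omega
    have hAn : A.Normal := Subgroup.normal_of_index_eq_two hidx
    obtain ⟨c, hc, hs⟩ := exists_coset_not_mem hgen hAt
    set s := c * a with hsdef
    have hs2 : s ^ 2 ∈ A := by
      have h1 := Subgroup.pow_index_mem A s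
      rwa [hidx] at h1
    by_cases hex : ∃ v, v ≠ 1 ∧ ρ s v = v
    · obtain ⟨v, hv, hsv⟩ := hex
      refine ⟨s, ⟨c, hc, rfl⟩, v, hsv, ?_⟩
      rw [hPk, mul_one]
      have h1 := card_stab_le_index A (T ρ P s v)
      have h2 : Nat.card (T ρ P s v ⊓ A : Subgroup Q) = 1 := by
        rw [Subgroup.card_eq_one, eq_bot_iff]
        rintro x ⟨hx, hxA⟩
        rw [mem_bot]
        by_contra hx1
        exact hv (hfix x hxA hx1 v (mem_T.1 hx).2.1)
      rw [h2, hidx] at h1
      have h3 : fx ρ s ≠ ⊤ := by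
        intro h
        apply hs
        have : s = 1 := by
          apply hinj
          rw [map_one]
          exact MulEquiv.ext fun w => (h ▸ mem_top w : w ∈ fx ρ s)
        rw [this]
        exact A.one_mem
      have h4 : Nat.card (fx ρ s) * (fx ρ s).index = Nat.card V := (fx ρ s).card_mul_index
      have h5 : 2 ≤ (fx ρ s).index := by
        have h6 : (fx ρ s).index ≠ 1 := fun h => h3 (Subgroup.index_eq_one.1 h)
        have h7 : (fx ρ s).index ≠ 0 := (fx ρ s).index_ne_zero_of_finite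
        omega
      calc Nat.card (T ρ P s v) * Nat.card (fx ρ s) ≤ 2 * Nat.card (fx ρ s) := Nat.mul_le_mul_right _ (by omega)
        _ = Nat.card (fx ρ s) * 2 := mul_comm _ _
        _ ≤ Nat.card (fx ρ s) * (fx ρ s).index := by gcongr
        _ = _ := h4
    · push Not at hex
      refine ⟨s, ⟨c, hc, rfl⟩, 1, map_one _, ?_⟩
      rw [hPk, mul_one]
      have h1 : Nat.card (fx ρ s) = 1 := by
        rw [Subgroup.card_eq_one, eq_bot_iff]
        intro x hx
        rw [mem_bot]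
        by_contra hx1
        exact hex x hx1 hx
      rw [h1, mul_one]
      have h2 := card_stab_le_index A (T ρ P s 1)
      rw [hidx] at h2
      have hcA : IsMulCommutative A := hcyc.isMulCommutative
      have h3 : Nat.card (T ρ P s 1 ⊓ A : Subgroup Q) * 2 ≤ Nat.card A := by
        have h4 : (T ρ P s 1 ⊓ A : Subgroup Q) ≤ A := inf_le_right
        have h5 := card_mul_relIndex h4
        have h6 : (T ρ P s 1 ⊓ A : Subgroup Q).relIndex A ≠ 1 := by
          intro h
          rw [Subgroup.relIndex_eq_one] at h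
          -- `s` centralizes `A`
          apply hnc
          have hcs : ∀ x ∈ A, x * s = s * x := by
            intro x hx
            apply hinj
            rw [map_mul ρ x s, map_mul ρ s x]
            exact (mem_T.1 (h hx).1).2.2
          have hdec : ∀ x : Q, x ∈ A ∨ ∃ y ∈ A, x = y * s := by
            intro x
            by_cases hx : x ∈ A
            · exact Or.inl hx
            · right
              refine ⟨x * s⁻¹, ?_, by group⟩
              rw [Subgroup.mul_mem_iff_of_index_two hidx]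
              constructor
              · intro h; exact absurd h hx
              · intro h; exact absurd (A.inv_mem_iff.1 h) hs
          refine ⟨⟨fun x y => ?_⟩⟩
          have hAA : ∀ x ∈ A, ∀ y ∈ A, Commute x y := fun x hx y hy =>
            congrArg Subtype.val (hcA.is_comm.comm ⟨x, hx⟩ ⟨y, hy⟩)
          have hcs' : ∀ x ∈ A, Commute x s := hcs
          rcases hdec x with hx | ⟨x', hx, rfl⟩ <;> rcases hdec y with hy | ⟨y', hy, rfl⟩
          · exact hAA x hx y hy
          · exact (hAA x hx y' hy).mul_right (hcs' x hx)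
          · exact (hAA x' hx y hy).mul_left (hcs' y hy).symm
          · exact ((hAA x' hx y' hy).mul_right (hcs' x' hx)).mul_left
              ((hcs' y' hy).symm.mul_right (Commute.refl s))
        have h7 : (T ρ P s 1 ⊓ A : Subgroup Q).relIndex A ≠ 0 := by
          intro h
          rw [h, mul_zero] at h5
          exact Nat.card_pos.ne h5
        calc Nat.card (T ρ P s 1 ⊓ A : Subgroup Q) * 2 ≤
            Nat.card (T ρ P s 1 ⊓ A : Subgroup Q) * (T ρ P s 1 ⊓ A : Subgroup Q).relIndex A := by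
              gcongr
              omega
          _ = _ := h5
      omega

end cyc

section red

variable {Q V : Type u} [Group Q] [CommGroup V] {ρ : Q →* MulAut V} [Finite Q] [Finite V] {p : ℕ} [hF : Fact p.Prime]

theorem card_fx_le {N : Subgroup V} (hN : Inv ρ N) (s : Q) :
    Nat.card (fx ρ s) ≤ Nat.card (fx (quo ρ N hN) s) * Nat.card (fx (res ρ N hN) s) := by
  have h1 := card_eq_map_mul (QuotientGroup.mk' N) (fx ρ s)
  rw [h1, QuotientGroup.ker_mk']
  have h2 : (fx ρ s).map (QuotientGroup.mk' N) ≤ fx (quo ρ N hN) s := by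
    rintro _ ⟨v, hv, rfl⟩
    rw [SetLike.mem_coe, mem_fx] at hv
    rw [mem_fx, QuotientGroup.mk'_apply, quo_mk, hv]
  have h3 : Nat.card (fx ρ s ⊓ N : Subgroup V) ≤ Nat.card (fx (res ρ N hN) s) := by
    refine Nat.card_le_card_of_injective (fun x : (fx ρ s ⊓ N : Subgroup V) =>
      (⟨⟨x.1, x.2.2⟩, Subtype.ext x.2.1⟩ : fx (res ρ N hN) s)) ?_
    intro x y hxy
    exact Subtype.ext (congrArg (fun t : fx (res ρ N hN) s => ((t : N) : V)) hxy)
  exact Nat.mul_le_mul (card_le_of_le h2) h3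

theorem cl_red (hQ : IsPGroup p Q) (hp : (Nat.card V).Coprime p) {N : Subgroup V} (hN : Inv ρ N) (P : Subgroup Q)
    (a : Q) (h1 : Cl (quo ρ N hN) P a)
    (h2 : ∀ s₁, Cl (res ρ N hN) (P ⊓ (quo ρ N hN).ker) s₁) : Cl ρ P a := by
  obtain ⟨s₁, ⟨c₁, hc₁, hs₁⟩, v', hv', hle₁⟩ := h1
  obtain ⟨s₂, ⟨k, hk, hs₂⟩, n, hn, hle₂⟩ := h2 s₁
  obtain ⟨v, rfl⟩ := QuotientGroup.mk_surjective v'
  set K₁ := P ⊓ (quo ρ N hN).ker with hK₁
  have hVN : Nat.card V = Nat.card (V ⧸ N) * Nat.card N := N.card_eq_card_quotient_mul_card_subgroup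
  have hρs : quo ρ N hN s₂ = quo ρ N hN s₁ := by
    rw [hs₂, map_mul, MonoidHom.mem_ker.1 hk.2, one_mul]
  -- the group fixing the coset
  let K₂ : Subgroup Q := stab (quo ρ N hN) (v : V ⧸ N)
  have hs₂K : s₂ ∈ K₂ := by
    change quo ρ N hN s₂ (v : V ⧸ N) = v
    rw [hρs]; exact hv'
  obtain ⟨v₀, hv₀, hfix⟩ := exists_fix_lift hQ hN (not_dvd_of_coprime hp N) (K₁ ⊔ zpowers s₂) (v := v)
      (fun q hq => by
        have h3 : q ∈ K₂ := by
          have h4 : K₁ ⊔ zpowers s₂ ≤ K₂ :=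
            sup_le (inf_le_right.trans (ker_le_stab _ _)) (zpowers_le.2 hs₂K)
          exact h4 hq
        have h5 : ((ρ q v : V) : V ⧸ N) = v := h3
        rw [QuotientGroup.eq] at h5
        have h6 := N.inv_mem h5
        rwa [mul_inv_rev, inv_inv, mul_comm, ← div_eq_mul_inv] at h6)
  have hv₀' : (v₀ : V ⧸ N) = v := by
    rw [QuotientGroup.eq]
    have h2 := N.inv_mem hv₀
    rwa [div_eq_mul_inv, mul_inv_rev, inv_inv, mul_comm] at h2
  have hvn : ((v₀ * n : V) : V ⧸ N) = v := by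
    rw [QuotientGroup.mk_mul, hv₀', (QuotientGroup.eq_one_iff (n : V)).2 n.2, mul_one]
  have hfs : ρ s₂ v₀ = v₀ := hfix s₂ (mem_sup_right (mem_zpowers s₂))
  have hfk : ∀ q ∈ K₁, ρ q v₀ = v₀ := fun q hq => hfix q (mem_sup_left hq)
  refine ⟨s₂, ⟨k * c₁, P.mul_mem hk.1 hc₁, by rw [hs₂, hs₁, mul_assoc]⟩, v₀ * n, ?_, ?_⟩
  · rw [map_mul, hfs]
    congr 1
    exact congrArg Subtype.val hn
  set D := T ρ P s₂ (v₀ * n) with hD
  set E := T (quo ρ N hN) P s₂ (v : V ⧸ N) with hE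
  have hDE : D ≤ E := by
    intro x hx
    rw [hD, mem_T] at hx
    rw [hE, mem_T]
    refine ⟨hx.1, ?_, ?_⟩
    · rw [← hvn, quo_mk, hx.2.1]
    · refine MulEquiv.ext fun w => ?_
      induction w using QuotientGroup.induction_on with
      | H w =>
        rw [MulAut.mul_apply, MulAut.mul_apply, quo_mk, quo_mk, quo_mk, quo_mk, ← MulAut.mul_apply, ← MulAut.mul_apply,
          hx.2.2]
  have hKE : K₁ ≤ E := by
    intro x hx
    rw [hE, mem_T]
    refine ⟨hx.1, ker_le_stab _ _ hx.2, ?_⟩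
    rw [MonoidHom.mem_ker.1 hx.2, one_mul, mul_one]
  have hE' : Nat.card E = Nat.card (T (quo ρ N hN) P s₁ (v : V ⧸ N)) := by
    rw [hE]
    unfold T
    rw [hρs]
  have hfx' : Nat.card (fx (quo ρ N hN) s₂) = Nat.card (fx (quo ρ N hN) s₁) := by
    refine Nat.card_congr (Equiv.subtypeEquivRight fun x => ?_)
    rw [mem_fx, mem_fx, hρs]
  have h4 := card_mul_card_le hDE hKE
  have hinf : Nat.card (D ⊓ K₁ : Subgroup Q) ≤ Nat.card (T (res ρ N hN) K₁ s₂ n) := by
    apply card_le_of_le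
    rintro x ⟨hx0, hxK⟩
    have hx1 : x ∈ T ρ P s₂ (v₀ * n) := hx0
    have hx := mem_T.1 hx1
    rw [mem_T]
    refine ⟨hxK, Subtype.ext ?_, ?_⟩
    · have h5 := hx.2.1
      rw [map_mul, hfk x hxK] at h5
      exact mul_left_cancel h5
    · refine MulEquiv.ext fun w => Subtype.ext ?_
      have h6 := congrArg (fun t : MulAut V => t w) hx.2.2
      exact h6
  have hker : Nat.card (K₁ ⊓ (res ρ N hN).ker : Subgroup Q) ≤ Nat.card (P ⊓ ρ.ker : Subgroup Q) := by
    apply card_le_of_le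
    rintro x ⟨⟨hxP, hx1⟩, hx2⟩
    refine ⟨hxP, mem_ker.2 ?_⟩
    obtain ⟨m, hm⟩ := hQ x
    exact eq_of_trivial hp hm (fun v hv => congrArg Subtype.val (mem_ker.1 hx2 ⟨v, hv⟩)) (quo_ker_mem.1 hx1)
  have hfx := card_fx_le hN s₂
  have hK₁pos : 0 < Nat.card K₁ := Nat.card_pos
  rw [hE'] at h4
  have h5 : Nat.card D * Nat.card (fx ρ s₂) * Nat.card K₁ ≤
      Nat.card V * Nat.card (P ⊓ ρ.ker : Subgroup Q) * Nat.card K₁ := by
    calc Nat.card D * Nat.card (fx ρ s₂) * Nat.card K₁ = (Nat.card D * Nat.card K₁) * Nat.card (fx ρ s₂) := by ring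
      _ ≤ (Nat.card (T (quo ρ N hN) P s₁ (v : V ⧸ N)) * Nat.card (T (res ρ N hN) K₁ s₂ n)) *
          (Nat.card (fx (quo ρ N hN) s₁) * Nat.card (fx (res ρ N hN) s₂)) := by
        rw [← hfx']
        exact Nat.mul_le_mul (h4.trans (Nat.mul_le_mul_left _ hinf)) hfx
      _ = (Nat.card (T (quo ρ N hN) P s₁ (v : V ⧸ N)) * Nat.card (fx (quo ρ N hN) s₁)) *
          (Nat.card (T (res ρ N hN) K₁ s₂ n) * Nat.card (fx (res ρ N hN) s₂)) := by ring
      _ ≤ (Nat.card (V ⧸ N) * Nat.card K₁) * (Nat.card N * Nat.card (P ⊓ ρ.ker : Subgroup Q)) :=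
        Nat.mul_le_mul hle₁ (hle₂.trans (Nat.mul_le_mul_left _ hker))
      _ = _ := by rw [hVN]; ring
  exact Nat.le_of_mul_le_mul_right h5 hK₁pos

end red

/-- **The coset claim for modules.** -/
theorem cl_main {p : ℕ} [hF : Fact p.Prime] : ∀ (n : ℕ) (Q V : Type u) [Group Q] [CommGroup V] [Finite Q] [Finite V]
    (ρ : Q →* MulAut V) (P : Subgroup Q) (a : Q), Nat.card V ≤ n → IsPGroup p Q → (Nat.card V).Coprime p →
      Cl ρ P a := by
  intro n
  induction n with
  | zero =>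
    intro Q V _ _ _ _ ρ P a hn _ _
    exact absurd hn (by have := Nat.card_pos (α := V); omega)
  | succ n ih =>
    intro Q V _ _ _ _ ρ P a hn hQ hp
    rcases subsingleton_or_nontrivial V with hss | hnt
    · exact cl_triv
    have hV1 : 1 < Nat.card V := Finite.one_lt_card
    have hPQ : P ≤ P ⊔ zpowers a := le_sup_left
    have haQ : a ∈ P ⊔ zpowers a := mem_sup_right (mem_zpowers a)
    apply cl_of_sub (P ⊔ zpowers a) hPQ haQ
    set Q₀ := P ⊔ zpowers a with hQ₀
    have hQ₀p : IsPGroup p Q₀ := hQ.to_subgroup _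
    have hgen₀ : P.subgroupOf Q₀ ⊔ zpowers (⟨a, haQ⟩ : Q₀) = ⊤ := by
      apply Subgroup.map_injective Q₀.subtype_injective
      rw [Subgroup.map_sup, Subgroup.map_subgroupOf_eq_of_le hPQ, MonoidHom.map_zpowers, ← MonoidHom.range_eq_map,
        Subgroup.range_subtype]
      rfl
    generalize hρ₀ : ρ.comp Q₀.subtype = ρ₀
    generalize P.subgroupOf Q₀ = P₀ at hgen₀ ⊢
    generalize (⟨a, haQ⟩ : Q₀) = a₀ at hgen₀ ⊢
    by_cases hred : ∃ N : Subgroup V, Inv ρ₀ N ∧ N ≠ ⊥ ∧ N ≠ ⊤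
    · obtain ⟨N, hN, hb, ht⟩ := hred
      have hVN : Nat.card V = Nat.card (V ⧸ N) * Nat.card N := N.card_eq_card_quotient_mul_card_subgroup
      have hNnt : Nontrivial N := (Subgroup.nontrivial_iff_ne_bot N).2 hb
      have hN1 : 1 < Nat.card N := Finite.one_lt_card
      have hq1 : 1 < Nat.card (V ⧸ N) := by
        by_contra hle
        have h0 : 0 < Nat.card (V ⧸ N) := Nat.card_pos
        have h1 : Nat.card (V ⧸ N) = 1 := by omega
        exact ht (Subgroup.index_eq_one.1 h1)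
      have hlt1 : Nat.card (V ⧸ N) < Nat.card V := by nlinarith
      have hlt2 : Nat.card N < Nat.card V := by nlinarith
      have hpN : (Nat.card N).Coprime p := Nat.Coprime.coprime_dvd_left (Subgroup.card_subgroup_dvd_card N) hp
      have hpq : (Nat.card (V ⧸ N)).Coprime p := Nat.Coprime.coprime_dvd_left ⟨_, hVN⟩ hp
      exact cl_red hQ₀p hp hN P₀ a₀ (ih _ _ _ _ _ (by omega) hQ₀p hpq)
        (fun s₁ => ih _ _ _ _ _ (by omega) hQ₀p hpN)
    · push Not at hred
      apply cl_of_range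
      have hQ' : IsPGroup p ρ₀.range := hQ₀p.of_surjective ρ₀.rangeRestrict ρ₀.rangeRestrict_surjective
      have hinj : Function.Injective (ρ₀.range.subtype) := ρ₀.range.subtype_injective
      have hirr : Irr (Q := ρ₀.range) (V := V) ρ₀.range.subtype := by
        intro N hN
        by_contra hcon
        push Not at hcon
        exact hcon.2 (hred N (fun q v hv => hN ⟨ρ₀ q, ⟨q, rfl⟩⟩ v hv) hcon.1)
      have hfin : Finite ρ₀.range := Finite.of_surjective _ ρ₀.rangeRestrict_surjective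
      have hgen : P₀.map ρ₀.rangeRestrict ⊔ zpowers (ρ₀.rangeRestrict a₀) = ⊤ := by
        rw [← MonoidHom.map_zpowers, ← Subgroup.map_sup, hgen₀, ← MonoidHom.range_eq_map,
          MonoidHom.range_eq_top.2 ρ₀.rangeRestrict_surjective]
      by_cases hab : ∀ A : Subgroup ρ₀.range, A.Normal → IsMulCommutative A → IsCyclic A
      · obtain ⟨A, hA, hfix⟩ := cyc_case hQ' hinj hirr hab
        exact cl_cyc (p := p) hp hinj A hA hfix _ _ hgen
      · push Not at hab
        obtain ⟨A, hAn, hAc, hAnc⟩ := hab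
        obtain ⟨M, W, hM1, hM2, hM3, hM4⟩ := blocks hQ' hinj hirr hp A hAc hAnc
        have B : Blk ρ₀.range.subtype p M W := ⟨hM1, hM2, hM3, hM4⟩
        exact cl_blk hQ' hp B hinj _ _ hgen

end Cfsg.Agent.H548.PCoset
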