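import Mathlib
import Cfsg.Agent.H548.PCoset

/-!
# The coset claim for an element normalizing a `p`-group of operators (helper548, for S4239)
-/

set_option autoImplicit false

namespace Cfsg.Agent.H548.CosetMod

open Subgroup Cfsg.Agent.H548.PMod Cfsg.Agent.H548.PBound Cfsg.Agent.H548.PCoset

universe u

section dl

variable {Q V : Type u} [Group Q] [CommGroup V]

/-- `v ↦ ρ q v / v`. -/
def dl (ρ : Q →* MulAut V) (q : Q) : V →* V where
  toFun v := ρ q v / v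
  map_one' := by simp
  map_mul' a b := by rw [map_mul, mul_div_mul_comm]

theorem dl_apply (ρ : Q →* MulAut V) (q : Q) (v : V) : dl ρ q v = ρ q v / v := rfl

theorem dl_ker (ρ : Q →* MulAut V) (q : Q) : (dl ρ q).ker = fx ρ q := by
  ext v
  rw [MonoidHom.mem_ker, mem_fx, dl_apply, div_eq_one]

theorem card_dl (ρ : Q →* MulAut V) (q : Q) : Nat.card (dl ρ q).range * Nat.card (fx ρ q) = Nat.card V := by
  rw [← dl_ker, mul_comm, ← Subgroup.index_ker, Subgroup.card_mul_index]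

theorem dl_range_pow (ρ : Q →* MulAut V) (q : Q) (n : ℕ) : (dl ρ (q ^ n)).range ≤ (dl ρ q).range := by
  rintro _ ⟨v, rfl⟩
  induction n with
  | zero => simp [dl_apply]
  | succ n ih =>
    have h1 : dl ρ (q ^ (n + 1)) v = dl ρ q (ρ (q ^ n) v) * dl ρ (q ^ n) v := by
      rw [dl_apply, dl_apply, dl_apply, pow_succ', map_mul, MulAut.mul_apply]
      simp [div_eq_mul_inv, mul_assoc]
    rw [h1]
    exact mul_mem ⟨_, rfl⟩ ih

/-- `C(q)` preserves `[V, q]`. -/
theorem dl_range_inv (ρ : Q →* MulAut V) {q c : Q} (h : c * q = q * c) {v : V} (hv : v ∈ (dl ρ q).range) :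
    ρ c v ∈ (dl ρ q).range := by
  obtain ⟨u, rfl⟩ := hv
  refine ⟨ρ c u, ?_⟩
  rw [dl_apply, dl_apply, map_div, ← MulAut.mul_apply, ← MulAut.mul_apply, ← map_mul, ← map_mul, h]

end dl

theorem exists_crt {p : ℕ} (k m : ℕ) (hm : (p ^ k).Coprime m) :
    ∃ i j : ℕ, i ≡ 1 [MOD p ^ k] ∧ i ≡ 0 [MOD m] ∧ j ≡ 0 [MOD p ^ k] ∧ j ≡ 1 [MOD m] :=
  ⟨Nat.chineseRemainder hm 1 0, Nat.chineseRemainder hm 0 1, (Nat.chineseRemainder hm 1 0).2.1,
    (Nat.chineseRemainder hm 1 0).2.2, (Nat.chineseRemainder hm 0 1).2.1, (Nat.chineseRemainder hm 0 1).2.2⟩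

theorem exists_parts {X : Type*} [Group X] [Finite X] (p : ℕ) [hF : Fact p.Prime] (g : X) :
    ∃ i j k m : ℕ, g = g ^ i * g ^ j ∧ (g ^ i) ^ p ^ k = 1 ∧ (g ^ j) ^ m = 1 ∧ p.Coprime m := by
  obtain ⟨k, m, hm, hn⟩ := Nat.exists_eq_pow_mul_and_not_dvd (n := orderOf g) (orderOf_pos g).ne' p hF.out.ne_one
  have hc0 : p.Coprime m := (Nat.Prime.coprime_iff_not_dvd hF.out).2 hm
  have hc : (p ^ k).Coprime m := Nat.Coprime.pow_left k hc0
  obtain ⟨i, j, h1, h2, h3, h4⟩ := exists_crt (p := p) k m hc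
  refine ⟨i, j, k, m, ?_, ?_, ?_, hc0⟩
  · rw [← pow_add]
    have h5 : i + j ≡ 1 [MOD orderOf g] := by
      rw [hn]
      exact (Nat.modEq_and_modEq_iff_modEq_mul hc).1 ⟨by simpa using h1.add h3, by simpa using h2.add h4⟩
    have := (pow_eq_pow_iff_modEq (x := g)).2 h5
    rw [this, pow_one]
  · rw [← pow_mul]
    apply orderOf_dvd_iff_pow_eq_one.1
    rw [hn, mul_comm]
    exact Nat.mul_dvd_mul (Nat.modEq_zero_iff_dvd.1 h2) dvd_rfl
  · rw [← pow_mul]
    apply orderOf_dvd_iff_pow_eq_one.1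
    rw [hn]
    exact Nat.mul_dvd_mul (Nat.modEq_zero_iff_dvd.1 h3) dvd_rfl

theorem parts_pow {X : Type*} [Group X] {p : ℕ} {a b : X} (hab : a * b = b * a) {k m : ℕ} (ha : a ^ p ^ k = 1)
    (hb : b ^ m = 1) (hm : (p ^ k).Coprime m) : ∃ i j : ℕ, (a * b) ^ i = a ∧ (a * b) ^ j = b := by
  obtain ⟨i, j, h1, h2, h3, h4⟩ := exists_crt (p := p) k m hm
  have hc : Commute a b := hab
  have e : ∀ {x : X} {n i j : ℕ}, x ^ n = 1 → i ≡ j [MOD n] → x ^ i = x ^ j := by
    intro x n i j hx hij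
    exact (pow_eq_pow_iff_modEq).2 (hij.of_dvd (orderOf_dvd_of_pow_eq_one hx))
  refine ⟨i, j, ?_, ?_⟩
  · rw [hc.mul_pow, e ha h1, e hb h2, pow_one, pow_zero, mul_one]
  · rw [hc.mul_pow, e ha h3, e hb h4, pow_one, pow_zero, one_mul]

/-- Orbit bound. -/
theorem card_le_orbit {H V : Type*} [Group H] [Finite H] [CommGroup V] [Finite V] (ρ : H →* MulAut V) (v : V)
    (S : Subgroup V) (hS : ∀ h, ρ h v ∈ S) (E : Subgroup H) (hE : ∀ h, ρ h v = v → h ∈ E) :
    Nat.card H ≤ Nat.card S * Nat.card E := by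
  have h1 : (stab ρ v).index ≤ Nat.card S := by
    rw [Subgroup.index]
    refine Nat.card_le_card_of_injective (fun q : H ⧸ stab ρ v => (⟨ρ q.out v, hS _⟩ : S)) ?_
    intro x y hxy
    have h2 : ρ x.out v = ρ y.out v := congrArg Subtype.val hxy
    rw [← QuotientGroup.out_eq' x, ← QuotientGroup.out_eq' y, QuotientGroup.eq, mem_stab, map_mul,
      MulAut.mul_apply, ← h2, map_inv, MulAut.inv_apply_self]
  have h2 : Nat.card (stab ρ v) ≤ Nat.card E := PCoset.card_le_of_le hE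
  rw [← (stab ρ v).card_mul_index, mul_comm]
  exact Nat.mul_le_mul h1 h2

variable {X V : Type u} [Group X] [CommGroup V] [Finite X] [Finite V] {p : ℕ} [hF : Fact p.Prime]

/-- The coset claim, module form. -/
theorem mod_claim (ρ : X →* MulAut V) (P : Subgroup X) (hP : IsPGroup p P) (hp : (Nat.card V).Coprime p)
    (hfaith : ∀ c ∈ P, ρ c = 1 → c = 1) (g : X) (hg : g ∈ normalizer (P : Set X)) :
    ∃ s ∈ P, ∃ w : V, ∃ E : Subgroup X,
      (∀ c ∈ P, c * (s * g) = (s * g) * c → ρ c w / w ∈ (dl ρ (s * g)).range → c ∈ E) ∧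
      Nat.card E * Nat.card (fx ρ (s * g)) ≤ Nat.card V := by
  obtain ⟨i, j, k, m, hgab, hak, hbm, hkm⟩ := exists_parts p g
  have haP : g ^ i ∈ normalizer (P : Set X) := pow_mem hg i
  set a := g ^ i with ha
  set b := g ^ j with hb
  have hab : a * b = b * a := by rw [ha, hb, ← pow_add, ← pow_add, add_comm]
  let Pb : Subgroup X := P ⊓ centralizer {b}
  have hPb : ∀ x, x ∈ Pb ↔ x ∈ P ∧ x * b = b * x := by
    intro x
    change x ∈ P ⊓ centralizer {b} ↔ _
    rw [mem_inf, mem_centralizer_singleton_iff]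
  have haPb : a ∈ normalizer (Pb : Set X) := by
    rw [mem_normalizer_iff]
    intro h
    rw [hPb, hPb]
    refine and_congr (mem_normalizer_iff.1 haP h) ?_
    constructor
    · intro h1
      calc a * h * a⁻¹ * b = a * h * a⁻¹ * (b * a) * a⁻¹ := by group
        _ = a * h * a⁻¹ * (a * b) * a⁻¹ := by rw [hab]
        _ = a * (h * b) * a⁻¹ := by group
        _ = a * (b * h) * a⁻¹ := by rw [h1]
        _ = (a * b) * h * a⁻¹ := by group
        _ = (b * a) * h * a⁻¹ := by rw [hab]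
        _ = _ := by group
    · intro h1
      calc h * b = a⁻¹ * (a * h * a⁻¹ * (a * b)) := by group
        _ = a⁻¹ * (a * h * a⁻¹ * (b * a)) := by rw [hab]
        _ = a⁻¹ * (a * h * a⁻¹ * b) * a := by group
        _ = a⁻¹ * (b * (a * h * a⁻¹)) * a := by rw [h1]
        _ = a⁻¹ * (b * a) * h := by group
        _ = a⁻¹ * (a * b) * h := by rw [hab]
        _ = _ := by group
  have hPbp : IsPGroup p Pb := hP.to_le inf_le_left
  have hap : IsPGroup p (zpowers a) := by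
    rintro ⟨x, hx⟩
    obtain ⟨n, rfl⟩ := mem_zpowers_iff.1 hx
    refine ⟨k, Subtype.ext ?_⟩
    change (a ^ n) ^ p ^ k = 1
    rw [← zpow_natCast, ← zpow_mul, mul_comm, zpow_mul, zpow_natCast, hak, one_zpow]
  let Q : Subgroup X := Pb ⊔ zpowers a
  have hQp : IsPGroup p Q := IsPGroup.to_sup_of_normal_left' hPbp hap (zpowers_le.2 haPb)
  have hQb : ∀ q ∈ Q, q * b = b * q := by
    have h1 : Q ≤ centralizer {b} :=
      sup_le inf_le_right (zpowers_le.2 (mem_centralizer_singleton_iff.2 hab))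
    intro q hq
    exact mem_centralizer_singleton_iff.1 (h1 hq)
  let ρQ : Q →* MulAut V := ρ.comp Q.subtype
  let U : Subgroup V := (dl ρ b).range
  have hU : Inv ρQ U := fun q v hv => dl_range_inv ρ (hQb q q.2) hv
  have haQ : a ∈ Q := mem_sup_right (mem_zpowers a)
  have hPbQ : Pb ≤ Q := le_sup_left
  have hVU : Nat.card V = Nat.card (V ⧸ U) * Nat.card U := U.card_eq_card_quotient_mul_card_subgroup
  have hpU : (Nat.card U).Coprime p := Nat.Coprime.coprime_dvd_left (Subgroup.card_subgroup_dvd_card U) hp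
  have hpq : (Nat.card (V ⧸ U)).Coprime p := Nat.Coprime.coprime_dvd_left ⟨_, hVU⟩ hp
  obtain ⟨α₁, ⟨c₁, hc₁, hα₁⟩, v', hv', hle₁⟩ :=
    cl_main (p := p) _ Q (V ⧸ U) (quo ρQ U hU) (Pb.subgroupOf Q) ⟨a, haQ⟩ le_rfl hQp hpq
  set D : Subgroup Q := Pb.subgroupOf Q ⊓ (quo ρQ U hU).ker with hD
  obtain ⟨α₂, ⟨d, hd, hα₂⟩, u, hu, hle₂⟩ :=
    cl_main (p := p) _ Q U (res ρQ U hU) D α₁ le_rfl hQp hpU
  have hDker : Nat.card (D ⊓ (res ρQ U hU).ker : Subgroup Q) = 1 := by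
    rw [Subgroup.card_eq_one, eq_bot_iff]
    rintro x ⟨⟨hx0, hx1⟩, hx2⟩
    rw [mem_bot]
    obtain ⟨n, hn⟩ := hQp x
    have h1 : ∀ v, ρQ x v = v := eq_of_trivial hp hn
      (fun v hv => congrArg Subtype.val (mem_ker.1 hx2 ⟨v, hv⟩)) (quo_ker_mem.1 hx1)
    exact Subtype.ext (hfaith x ((hPb _).1 hx0).1 (MulEquiv.ext h1))
  rw [hDker, mul_one] at hle₂
  have hCD : Nat.card (D ⊓ centralizer {α₂} : Subgroup Q) ≤ Nat.card U := by
    refine le_trans ?_ hle₂
    rw [mul_comm]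
    set H : Subgroup Q := D ⊓ centralizer {α₂} with hH
    have hHc : ∀ h ∈ H, h * α₂ = α₂ * h := fun h hh => mem_centralizer_singleton_iff.1 hh.2
    have h1 := card_le_orbit ((res ρQ U hU).comp H.subtype) u (fx (res ρQ U hU) α₂)
      (fun h => by
        change res ρQ U hU α₂ (res ρQ U hU (h : Q) u) = res ρQ U hU (h : Q) u
        rw [← MulAut.mul_apply, ← map_mul, ← hHc h h.2, map_mul, MulAut.mul_apply, hu])
      ((T (res ρQ U hU) D α₂ u).subgroupOf H)
      (fun h hh => mem_T.2 ⟨h.2.1, hh, by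
        rw [← map_mul, ← map_mul]
        exact congrArg _ (hHc h h.2)⟩)
    refine h1.trans (Nat.mul_le_mul_left _ ?_)
    refine Nat.card_le_card_of_injective (fun x : (T (res ρQ U hU) D α₂ u).subgroupOf H =>
      (⟨((x : H) : Q), x.2⟩ : T (res ρQ U hU) D α₂ u)) ?_
    intro x y hxy
    exact Subtype.ext (Subtype.ext (congrArg (fun t : T (res ρQ U hU) D α₂ u => (t : Q)) hxy))
  -- the group `E`
  let Eq' : Subgroup Q := Pb.subgroupOf Q ⊓ centralizer {α₂} ⊓ stab (quo ρQ U hU) v'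
  have hα12 : quo ρQ U hU α₂ = quo ρQ U hU α₁ := by
    rw [hα₂, map_mul, MonoidHom.mem_ker.1 hd.2, one_mul]
  have hET : Eq' ≤ T (quo ρQ U hU) (Pb.subgroupOf Q) α₁ v' := by
    rintro x ⟨⟨hx1, hx2⟩, hx3⟩
    refine mem_T.2 ⟨hx1, hx3, ?_⟩
    rw [← hα12, ← map_mul, ← map_mul, mem_centralizer_singleton_iff.1 hx2]
  have hDT : D ≤ T (quo ρQ U hU) (Pb.subgroupOf Q) α₁ v' := by
    rintro x ⟨hx1, hx2⟩
    refine mem_T.2 ⟨hx1, ker_le_stab _ _ hx2, ?_⟩
    rw [MonoidHom.mem_ker.1 hx2, one_mul, mul_one]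
  have h4 := card_mul_card_le hET hDT
  have h5 : Nat.card (Eq' ⊓ D : Subgroup Q) ≤ Nat.card U := by
    refine le_trans (PCoset.card_le_of_le ?_) hCD
    rintro x ⟨⟨⟨-, hx2⟩, -⟩, hx4⟩
    exact ⟨hx4, hx2⟩
  -- the element `γ`
  have hγ : (α₂ : X) * b = (((d * c₁ : Q)) : X) * g := by
    rw [hα₂, hα₁]
    change (d : X) * ((c₁ : X) * a) * b = (d : X) * (c₁ : X) * g
    rw [hgab]
    group
  have hα2b : (α₂ : X) * b = b * (α₂ : X) := hQb _ α₂.2
  obtain ⟨n, hn⟩ := hQp α₂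
  have hn' : (α₂ : X) ^ p ^ n = 1 := congrArg Subtype.val hn
  obtain ⟨i', j', hi', hj'⟩ := parts_pow hα2b hn' hbm (Nat.Coprime.pow_left n hkm)
  have hdP : ((d : Q) : X) ∈ Pb := hd.1
  have hcP : ((c₁ : Q) : X) ∈ Pb := hc₁
  obtain ⟨w, rfl⟩ := QuotientGroup.mk_surjective v'
  refine ⟨((d * c₁ : Q) : X), ?_, w, Eq'.map Q.subtype, ?_, ?_⟩
  · exact P.mul_mem ((hPb _).1 hdP).1 ((hPb _).1 hcP).1
  · -- the condition
    rw [← hγ]
    intro c hc hcγ hcw
    set γ : X := (α₂ : X) * b with hγdef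
    have hcc : Commute c γ := hcγ
    have hcb : c * b = b * c := by
      have := hcc.pow_right j'
      rwa [hj'] at this
    have hcα : c * α₂ = α₂ * c := by
      have := hcc.pow_right i'
      rwa [hi'] at this
    have hcPb : c ∈ Pb := (hPb _).2 ⟨hc, hcb⟩
    refine ⟨⟨c, hPbQ hcPb⟩, ⟨⟨hcPb, mem_centralizer_singleton_iff.2 (Subtype.ext hcα)⟩, ?_⟩, rfl⟩
    -- `c` fixes `w` modulo `U`
    obtain ⟨v, hv⟩ := hcw
    rw [dl_apply] at hv
    set c' : Q := ⟨c, hPbQ hcPb⟩ with hc'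
    have hb1 : ∀ v : V, ((ρ b v : V) : V ⧸ U) = v := by
      intro v
      rw [QuotientGroup.eq]
      have h6 : ρ b v / v ∈ U := ⟨v, rfl⟩
      have h7 := U.inv_mem h6
      rwa [inv_div, div_eq_mul_inv, mul_comm] at h7
    set δ : V ⧸ U := quo ρQ U hU c' (w : V ⧸ U) / (w : V ⧸ U) with hδ
    have h8 : quo ρQ U hU α₂ (v : V ⧸ U) = δ * (v : V ⧸ U) := by
      have h9 : ((ρ γ v / v : V) : V ⧸ U) = ((ρ c w / w : V) : V ⧸ U) := by rw [hv]
      have h10 : ((ρ γ v : V) : V ⧸ U) = quo ρQ U hU α₂ (v : V ⧸ U) := by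
        rw [hγdef, map_mul, MulAut.mul_apply]
        have : ((ρ (α₂ : X) (ρ b v) : V) : V ⧸ U) = quo ρQ U hU α₂ ((ρ b v : V) : V ⧸ U) := rfl
        rw [this, hb1]
      rw [← h10]
      have h11 : ((ρ γ v / v : V) : V ⧸ U) = ((ρ γ v : V) : V ⧸ U) / (v : V ⧸ U) := rfl
      have h12 : ((ρ c w / w : V) : V ⧸ U) = δ := rfl
      rw [h11, h12] at h9
      exact div_eq_iff_eq_mul.1 h9
    have h13 : quo ρQ U hU α₂ δ = δ := by
      have h14 : quo ρQ U hU α₂ (w : V ⧸ U) = (w : V ⧸ U) := by rw [hα12]; exact hv'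
      have h15 : quo ρQ U hU α₂ (quo ρQ U hU c' (w : V ⧸ U)) = quo ρQ U hU c' (w : V ⧸ U) := by
        rw [← MulAut.mul_apply, ← map_mul]
        have h16 : α₂ * c' = c' * α₂ := Subtype.ext hcα.symm
        rw [h16, map_mul, MulAut.mul_apply, h14]
      rw [hδ, map_div, h14, h15]
    have h17 := pow_apply_of_div_mem h8 h13 (p ^ n)
    rw [hn, map_one, MulAut.one_apply] at h17
    have h18 : δ ^ p ^ n = 1 := right_eq_mul₀' h17
    have h19 : δ = 1 := by
      have h7 : orderOf δ ∣ p ^ n := orderOf_dvd_of_pow_eq_one h18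
      have h8 : orderOf δ ∣ Nat.card (V ⧸ U) := orderOf_dvd_natCard δ
      have h9 : orderOf δ = 1 := Nat.dvd_one.1 ((hpq.pow_right n) ▸ Nat.dvd_gcd h8 h7)
      exact orderOf_eq_one_iff.1 h9
    rw [hδ, div_eq_one] at h19
    exact h19
  · rw [← hγ]
    set γ : X := (α₂ : X) * b with hγdef
    have hcardE : Nat.card (Eq'.map Q.subtype) = Nat.card Eq' := Subgroup.card_map_of_injective Q.subtype_injective
    have hR1 : U ≤ (dl ρ γ).range := by
      have := dl_range_pow ρ γ j'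
      rwa [hj'] at this
    have hR2 : (dl ρ (α₂ : X)).range ≤ (dl ρ γ).range := by
      have := dl_range_pow ρ γ i'
      rwa [hi'] at this
    have hR3 : (dl (quo ρQ U hU) α₂).range ≤ ((dl ρ γ).range).map (QuotientGroup.mk' U) := by
      rintro _ ⟨v, rfl⟩
      obtain ⟨v, rfl⟩ := QuotientGroup.mk_surjective v
      exact ⟨dl ρ (α₂ : X) v, hR2 ⟨v, rfl⟩, rfl⟩
    have hR4 := card_eq_map_mul (QuotientGroup.mk' U) (dl ρ γ).range
    rw [QuotientGroup.ker_mk', inf_eq_right.2 hR1] at hR4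
    have hR5 := PCoset.card_le_of_le hR3
    have hR6 := card_dl ρ γ
    have hR7 := card_dl (quo ρQ U hU) α₂
    have hRpos : 0 < Nat.card (dl (quo ρQ U hU) α₂).range := Nat.card_pos
    have hUpos : 0 < Nat.card U := Nat.card_pos
    have hDpos : 0 < Nat.card D := Nat.card_pos
    have hfx : Nat.card (fx ρ γ) ≤ Nat.card (fx (quo ρQ U hU) α₂) := by
      have h20 : Nat.card (dl (quo ρQ U hU) α₂).range * Nat.card U * Nat.card (fx ρ γ) ≤
          Nat.card (dl (quo ρQ U hU) α₂).range * Nat.card U * Nat.card (fx (quo ρQ U hU) α₂) := by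
        calc Nat.card (dl (quo ρQ U hU) α₂).range * Nat.card U * Nat.card (fx ρ γ)
            ≤ Nat.card ((dl ρ γ).range.map (QuotientGroup.mk' U)) * Nat.card U * Nat.card (fx ρ γ) := by gcongr
          _ = Nat.card V := by rw [← hR4, hR6]
          _ = Nat.card (V ⧸ U) * Nat.card U := hVU
          _ = _ := by rw [← hR7]; ring
      exact Nat.le_of_mul_le_mul_left h20 (Nat.mul_pos hRpos hUpos)
    have hfx2 : Nat.card (fx (quo ρQ U hU) α₂) = Nat.card (fx (quo ρQ U hU) α₁) := by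
      refine Nat.card_congr (Equiv.subtypeEquivRight fun x => ?_)
      rw [mem_fx, mem_fx, hα12]
    rw [hcardE]
    have h21 : Nat.card Eq' * Nat.card (fx ρ γ) * Nat.card D ≤ Nat.card V * Nat.card D := by
      calc Nat.card Eq' * Nat.card (fx ρ γ) * Nat.card D
          = (Nat.card Eq' * Nat.card D) * Nat.card (fx ρ γ) := by ring
        _ ≤ (Nat.card (T (quo ρQ U hU) (Pb.subgroupOf Q) α₁ (w : V ⧸ U)) * Nat.card U) *
            Nat.card (fx (quo ρQ U hU) α₁) := by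
          rw [← hfx2]
          exact Nat.mul_le_mul (h4.trans (Nat.mul_le_mul_left _ h5)) hfx
        _ = (Nat.card (T (quo ρQ U hU) (Pb.subgroupOf Q) α₁ (w : V ⧸ U)) * Nat.card (fx (quo ρQ U hU) α₁)) *
            Nat.card U := by ring
        _ ≤ (Nat.card (V ⧸ U) * Nat.card D) * Nat.card U := by gcongr
        _ = _ := by rw [hVU]; ring
    exact Nat.le_of_mul_le_mul_right h21 hDpos

end Cfsg.Agent.H548.CosetMod
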