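import Mathlib
import Cfsg.Agent.H548.CosetMod
import Cfsg.Agent.S0029
import Cfsg.Agent.SolvableStructure.AbelianSocle

/-!
# The coset claim for groups (helper548, for S4239)

`coset_nilp` : if `F ≤ K` are normal in `G`, `F` nilpotent of order prime to `p`, `K / F` a `p`-group, and no nontrivial
`p`-element of `K` centralizes `F`, then every coset `K g` contains an element `x` with `|C_K(x)| ≤ |F|`.
-/

set_option autoImplicit false

namespace Cfsg.Agent.H548.CosetGrp

open Subgroup Cfsg.Agent.H548.PMod Cfsg.Agent.H548.PBound Cfsg.Agent.H548.PCoset Cfsg.Agent.H548.CosetMod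
open scoped commutatorElement

universe u

variable {G : Type u} [Group G] [Finite G] {p : ℕ} [hF : Fact p.Prime]

theorem card_sup_le (E V : Subgroup G) [V.Normal] : Nat.card (E ⊔ V : Subgroup G) ≤ Nat.card E * Nat.card V := by
  have h1 := card_eq_map_mul (QuotientGroup.mk' V) (E ⊔ V)
  rw [QuotientGroup.ker_mk', inf_eq_right.2 le_sup_right, Subgroup.map_sup, QuotientGroup.map_mk'_self, sup_bot_eq] at h1
  rw [h1]
  exact Nat.mul_le_mul_right _ (Nat.le_of_dvd Nat.card_pos (Subgroup.card_map_dvd _ _))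

open scoped IsMulCommutative in
/-- The coset claim over an abelian normal subgroup. -/
theorem coset_abel (V K : Subgroup G) [V.Normal] [K.Normal] (hVc : IsMulCommutative V) (hVK : V ≤ K)
    (hp : (Nat.card V).Coprime p) (hK : ∃ n, V.relIndex K = p ^ n)
    (hC : ∀ x ∈ K, (∃ n, x ^ p ^ n = 1) → (∀ v ∈ V, x * v = v * x) → x = 1) (g : G) :
    ∃ k ∈ K, Nat.card (K ⊓ centralizer {k * g} : Subgroup G) ≤ Nat.card V := by
  let P₀ : Sylow p K := default
  set P : Subgroup G := (P₀ : Subgroup K).map K.subtype with hPdef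
  have hPp : IsPGroup p P := P₀.isPGroup'.map K.subtype
  have hPK : P ≤ K := Subgroup.map_subtype_le _
  have hPV : P ⊓ V = ⊥ := by
    rw [eq_bot_iff]
    rintro x ⟨hx1, hx2⟩
    rw [mem_bot]
    obtain ⟨n, hn⟩ := hPp ⟨x, hx1⟩
    have hn' : x ^ p ^ n = 1 := congrArg Subtype.val hn
    have h1 : orderOf x ∣ p ^ n := orderOf_dvd_of_pow_eq_one hn'
    have h2 : orderOf x ∣ Nat.card V := Subgroup.orderOf_dvd_natCard V hx2
    have h3 : orderOf x = 1 := Nat.dvd_one.1 ((hp.pow_right n) ▸ Nat.dvd_gcd h2 h1)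
    exact orderOf_eq_one_iff.1 h3
  have hPVK : P ⊔ V = K := by
    apply le_antisymm (sup_le hPK hVK)
    have h1 : (P₀ : Subgroup K) ⊔ V.subgroupOf K = ⊤ := by
      rw [← Subgroup.index_eq_one]
      obtain ⟨n, hn⟩ := hK
      have h2 : ((P₀ : Subgroup K) ⊔ V.subgroupOf K).index ∣ p ^ n := by
        rw [← hn]
        exact Subgroup.index_dvd_of_le le_sup_right
      have h3 : ((P₀ : Subgroup K) ⊔ V.subgroupOf K).index ∣ (P₀ : Subgroup K).index :=
        Subgroup.index_dvd_of_le le_sup_left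
      have h4 : ((P₀ : Subgroup K).index).Coprime (p ^ n) := by
        apply Nat.Coprime.pow_right
        rw [Nat.coprime_comm]
        exact (Nat.Prime.coprime_iff_not_dvd hF.out).2 P₀.not_dvd_index
      exact Nat.dvd_one.1 (h4 ▸ Nat.dvd_gcd h3 h2)
    have h5 := congrArg (Subgroup.map K.subtype) h1
    rw [Subgroup.map_sup, Subgroup.map_subgroupOf_eq_of_le hVK, ← MonoidHom.range_eq_map, Subgroup.range_subtype] at h5
    exact h5.ge
  -- the Frattini argument
  have hfr := Sylow.normalizer_sup_eq_top P₀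
  obtain ⟨y, hy, z, hz, hyz⟩ := (mem_sup_of_normal_right).1 (hfr ▸ mem_top g : g ∈ normalizer (P : Set G) ⊔ K)
  let ρ : G →* MulAut V := MulAut.conjNormal
  have hρ : ∀ (q : G) (v : V), ((ρ q v : V) : G) = q * v * q⁻¹ := fun q v => MulAut.conjNormal_apply q v
  obtain ⟨s, hs, w, E, hE, hcard⟩ := mod_claim ρ P hPp hp (fun c hc h => by
    obtain ⟨n, hn⟩ := hPp ⟨c, hc⟩
    refine hC c (hPK hc) ⟨n, congrArg Subtype.val hn⟩ (fun v hv => ?_)
    have h1 := hρ c ⟨v, hv⟩
    rw [h] at h1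
    have h2 : v = c * v * c⁻¹ := h1
    exact (eq_mul_inv_iff_mul_eq.1 h2).symm) y hy
  set γ : G := s * y with hγ
  have hγP : ∀ c ∈ P, γ * c * γ⁻¹ ∈ P := by
    intro c hc
    have h1 : γ ∈ normalizer (P : Set G) := mul_mem (le_normalizer hs) hy
    exact (mem_normalizer_iff.1 h1 c).1 hc
  refine ⟨s * (y * (w : G) * y⁻¹) * (y * z⁻¹ * y⁻¹), ?_, ?_⟩
  · refine K.mul_mem (K.mul_mem (hPK hs) (hVK (Subgroup.Normal.conj_mem inferInstance _ w.2 _))) ?_
    exact Subgroup.Normal.conj_mem inferInstance _ (K.inv_mem hz) _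
  have hx : s * (y * (w : G) * y⁻¹) * (y * z⁻¹ * y⁻¹) * g = γ * w := by
    rw [← hyz, hγ]
    group
  rw [hx]
  set D : Subgroup G := K ⊓ centralizer {γ * w} with hD
  have hVcomm : ∀ a ∈ V, ∀ b ∈ V, a * b = b * a := fun a ha b hb =>
    congrArg Subtype.val (hVc.is_comm.comm ⟨a, ha⟩ ⟨b, hb⟩)
  have hDE : D ≤ E ⊔ V := by
    rintro t ⟨htK, htc0⟩
    have htc := mem_centralizer_singleton_iff.1 htc0
    obtain ⟨c, hc, u, hu, rfl⟩ := (mem_sup_of_normal_right).1 (hPVK.ge htK : t ∈ P ⊔ V)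
    refine mul_mem (mem_sup_left ?_) (mem_sup_right hu)
    -- `c` commutes with `γ`
    have hcγ : c * γ = γ * c := by
      have h1 : γ * c * γ⁻¹ * c⁻¹ ∈ P := P.mul_mem (hγP c hc) (P.inv_mem hc)
      have h2 : γ * c * γ⁻¹ * c⁻¹ ∈ V := by
        rw [← QuotientGroup.eq_one_iff, QuotientGroup.mk_mul, QuotientGroup.mk_mul, QuotientGroup.mk_mul,
          QuotientGroup.mk_inv, QuotientGroup.mk_inv]
        have h4 := congrArg (QuotientGroup.mk (s := V)) htc
        simp only [QuotientGroup.mk_mul, (QuotientGroup.eq_one_iff u).2 hu,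
          (QuotientGroup.eq_one_iff (w : G)).2 w.2, mul_one] at h4
        rw [← h4]
        group
      have h3 : γ * c * γ⁻¹ * c⁻¹ ∈ P ⊓ V := ⟨h1, h2⟩
      rw [hPV, mem_bot] at h3
      have h4 : γ * c * γ⁻¹ = c := mul_inv_eq_one.1 h3
      exact (mul_inv_eq_iff_eq_mul.1 h4).symm
    apply hE c hc hcγ
    have hVn : V.Normal := inferInstance
    have hBmem : c * u * c⁻¹ ∈ V := hVn.conj_mem _ hu _
    have hCmem : c * γ⁻¹ * u * (c * γ⁻¹)⁻¹ ∈ V := hVn.conj_mem _ hu _
    refine ⟨⟨_, hCmem⟩, ?_⟩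
    have hBC : ρ γ ⟨_, hCmem⟩ = (⟨_, hBmem⟩ : V) := by
      apply Subtype.ext
      rw [hρ]
      change γ * (c * γ⁻¹ * u * (c * γ⁻¹)⁻¹) * γ⁻¹ = c * u * c⁻¹
      calc γ * (c * γ⁻¹ * u * (c * γ⁻¹)⁻¹) * γ⁻¹ = (γ * c) * γ⁻¹ * u * γ * (γ * c)⁻¹ := by group
        _ = (c * γ) * γ⁻¹ * u * γ * (c * γ)⁻¹ := by rw [hcγ]
        _ = _ := by group
    rw [dl_apply, hBC, div_eq_div_iff_mul_eq_mul]
    apply Subtype.ext
    rw [coe_mul, coe_mul, hρ]
    change c * u * c⁻¹ * w = c * w * c⁻¹ * (c * γ⁻¹ * u * (c * γ⁻¹)⁻¹)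
    rw [hVcomm _ hBmem _ w.2, hVcomm _ (hVn.conj_mem _ w.2 _) _ hCmem]
    calc (w : G) * (c * u * c⁻¹) = c * γ⁻¹ * ((c⁻¹ * γ) * w * c * u) * c⁻¹ := by
          have : c * γ⁻¹ * ((c⁻¹ * γ) * w * c * u) * c⁻¹ = (c * γ⁻¹ * c⁻¹ * γ) * w * c * u * c⁻¹ := by group
          rw [this]
          have h5 : c * γ⁻¹ * c⁻¹ * γ = 1 := by
            calc c * γ⁻¹ * c⁻¹ * γ = c * (c * γ)⁻¹ * γ := by group
              _ = c * (γ * c)⁻¹ * γ := by rw [hcγ]
              _ = 1 := by group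
          rw [h5, one_mul]
          group
      _ = c * γ⁻¹ * (c⁻¹ * (γ * w * (c * u))) * c⁻¹ := by group
      _ = c * γ⁻¹ * (c⁻¹ * (c * u * (γ * w))) * c⁻¹ := by rw [htc]
      _ = _ := by group
  have h1 := card_mul_card_le hDE (le_sup_right : V ≤ E ⊔ V)
  have h2 := card_sup_le E V
  have h3 : Nat.card (D ⊓ V : Subgroup G) ≤ Nat.card (fx ρ γ) := by
    refine Nat.card_le_card_of_injective (fun x : (D ⊓ V : Subgroup G) => (⟨⟨x.1, x.2.2⟩, ?_⟩ : fx ρ γ)) ?_
    · rw [mem_fx]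
      apply Subtype.ext
      rw [hρ]
      have h4 : (x : G) * (γ * w) = (γ * w) * x := mem_centralizer_singleton_iff.1 x.2.1.2
      change γ * (x : G) * γ⁻¹ = x
      have h5 : (γ * w : G) * x = γ * x * w := by
        rw [mul_assoc, hVcomm _ w.2 _ x.2.2]
        exact (mul_assoc _ _ _).symm
      rw [h5, ← mul_assoc] at h4
      rw [← mul_right_cancel h4]
      group
    · intro x y hxy
      exact Subtype.ext (congrArg (fun t : fx ρ γ => ((t : V) : G)) hxy)
  have hVpos : 0 < Nat.card V := Nat.card_pos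
  refine Nat.le_of_mul_le_mul_right (h1.trans ?_) hVpos
  calc Nat.card (E ⊔ V : Subgroup G) * Nat.card (D ⊓ V : Subgroup G) ≤
      (Nat.card E * Nat.card V) * Nat.card (fx ρ γ) := Nat.mul_le_mul h2 h3
    _ = (Nat.card E * Nat.card (fx ρ γ)) * Nat.card V := by ring
    _ ≤ _ := Nat.mul_le_mul_right _ hcard

/-- The coset claim over a nilpotent normal subgroup. -/
theorem coset_nilp (F K : Subgroup G) [F.Normal] [K.Normal] [Group.IsNilpotent F] (hFK : F ≤ K)
    (hp : (Nat.card F).Coprime p) (hK : ∃ n, F.relIndex K = p ^ n)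
    (hC : ∀ x ∈ K, (∃ n, x ^ p ^ n = 1) → (∀ v ∈ F, x * v = v * x) → x = 1) (g : G) :
    ∃ k ∈ K, Nat.card (K ⊓ centralizer {k * g} : Subgroup G) ≤ Nat.card F := by
  let Φ : Subgroup G := (frattini F).map F.subtype
  have hΦn : Φ.Normal := by
    change ((frattini F).map F.subtype).Normal
    infer_instance
  have hΦF : Φ ≤ F := Subgroup.map_subtype_le _
  have hΦp : (Nat.card Φ).Coprime p := Nat.Coprime.coprime_dvd_left (Subgroup.card_dvd_of_le hΦF) hp
  let π := QuotientGroup.mk' Φ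
  have hπ : Function.Surjective π := QuotientGroup.mk'_surjective Φ
  have hker : π.ker = Φ := QuotientGroup.ker_mk' Φ
  have hcardF := card_eq_map_mul π F
  have hcardK := card_eq_map_mul π K
  rw [hker, inf_eq_right.2 hΦF] at hcardF
  rw [hker, inf_eq_right.2 (hΦF.trans hFK)] at hcardK
  have hVn : (F.map π).Normal := Subgroup.Normal.map inferInstance π hπ
  have hKn : (K.map π).Normal := Subgroup.Normal.map inferInstance π hπ
  have hVc : IsMulCommutative (F.map π) := by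
    have h1 : commutator F ≤ frattini F := by
      have h0 := Cfsg.Agent.SolvableStructure.AbelianSocle.commutator_le_frattini (G := F) ⊤
      exact h0
    refine ⟨⟨?_⟩⟩
    rintro ⟨_, a, ha, rfl⟩ ⟨_, b, hb, rfl⟩
    apply Subtype.ext
    change π a * π b = π b * π a
    rw [← map_mul, ← map_mul]
    change ((a * b : G) : G ⧸ Φ) = ((b * a : G) : G ⧸ Φ)
    rw [QuotientGroup.eq]
    have h2 : ⁅(⟨b, hb⟩ : F)⁻¹, (⟨a, ha⟩ : F)⁻¹⁆ ∈ frattini F :=
      h1 (Subgroup.commutator_mem_commutator (mem_top _) (mem_top _))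
    have h3 : (a * b)⁻¹ * (b * a) = ((⁅(⟨b, hb⟩ : F)⁻¹, (⟨a, ha⟩ : F)⁻¹⁆ : F) : G) := by
      rw [commutatorElement_def]
      simp [mul_assoc]
    rw [h3]
    exact ⟨_, h2, rfl⟩
  have hVK : F.map π ≤ K.map π := Subgroup.map_mono hFK
  have hpV : (Nat.card (F.map π)).Coprime p := Nat.Coprime.coprime_dvd_left ⟨_, hcardF⟩ hp
  have hrel : (F.map π).relIndex (K.map π) = F.relIndex K := by
    have h1 := card_mul_relIndex hVK
    have h2 := card_mul_relIndex hFK
    have h3 : 0 < Nat.card Φ := Nat.card_pos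
    have h4 : 0 < Nat.card (F.map π) := Nat.card_pos
    apply Nat.eq_of_mul_eq_mul_left (Nat.mul_pos h4 h3)
    calc Nat.card (F.map π) * Nat.card Φ * (F.map π).relIndex (K.map π) =
        (Nat.card (F.map π) * (F.map π).relIndex (K.map π)) * Nat.card Φ := by ring
      _ = Nat.card K := by rw [h1, hcardK]
      _ = _ := by rw [← h2, hcardF]
  have hKV : ∃ n, (F.map π).relIndex (K.map π) = p ^ n := by rw [hrel]; exact hK
  have hC' : ∀ x ∈ K.map π, (∃ n, x ^ p ^ n = 1) → (∀ v ∈ F.map π, x * v = v * x) → x = 1 := by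
    rintro _ ⟨y, hy, rfl⟩ ⟨n, hn⟩ hcen
    -- replace `y` by its `p`-part
    obtain ⟨i, j, k, m, hij, hik, hjm, hpm⟩ := exists_parts p y
    have hyj : π (y ^ j) = 1 := by
      have h1 : π (y ^ j) ^ m = 1 := by rw [← map_pow, hjm, map_one]
      have h2 : π (y ^ j) ^ p ^ n = 1 := by
        rw [map_pow, ← pow_mul, mul_comm, pow_mul, hn, one_pow]
      have h3 : orderOf (π (y ^ j)) = 1 := by
        have h4 := Nat.dvd_gcd (orderOf_dvd_of_pow_eq_one h2) (orderOf_dvd_of_pow_eq_one h1)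
        rw [(Nat.Coprime.pow_left n hpm).gcd_eq_one] at h4
        exact Nat.dvd_one.1 h4
      exact orderOf_eq_one_iff.1 h3
    have hyi : π y = π (y ^ i) := by
      conv_lhs => rw [hij, map_mul, hyj, mul_one]
    have hyiK : y ^ i ∈ K := K.pow_mem hy i
    -- `y ^ i` acts trivially on `F / Φ(F)`
    have h5 : zpowers (y ^ i) ≤ centralizer (F : Set G) := by
      have hpz : IsPGroup p (zpowers (y ^ i)) := by
        rintro ⟨x, hx⟩
        obtain ⟨n, rfl⟩ := mem_zpowers_iff.1 hx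
        refine ⟨k, Subtype.ext ?_⟩
        change ((y ^ i) ^ n) ^ p ^ k = 1
        rw [← zpow_natCast, ← zpow_mul, mul_comm, zpow_mul, zpow_natCast, hik, one_zpow]
      apply Cfsg.Agent.S0029.result
      · have : normalizer (F : Set G) = ⊤ := Subgroup.normalizer_eq_top_iff.2 inferInstance
        rw [this]
        exact le_top
      · obtain ⟨r, hr⟩ := hpz.exists_card_eq
        rw [hr]
        apply Nat.Coprime.pow_left
        rw [Nat.coprime_comm]
        have : Nat.card (frattini F) = Nat.card Φ :=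
          (Subgroup.card_map_of_injective F.subtype_injective).symm
        rw [this]
        exact hΦp
      · intro a ha v hv
        have h6 : π a * π v = π v * π a := by
          have h7 : π a ∈ zpowers (π y) := by
            rw [hyi, ← MonoidHom.map_zpowers]
            exact ⟨a, ha, rfl⟩
          have h8 : Commute (π y) (π v) := hcen _ ⟨v, hv, rfl⟩
          obtain ⟨n, hn⟩ := mem_zpowers_iff.1 h7
          rw [← hn]
          exact h8.zpow_left n
        change a * v * a⁻¹ * v⁻¹ ∈ Φ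
        rw [← hker, MonoidHom.mem_ker, map_mul, map_mul, map_mul, h6, map_inv, map_inv]
        group
    have h6 : y ^ i = 1 := by
      refine hC _ hyiK ⟨k, hik⟩ (fun v hv => ?_)
      exact ((mem_centralizer_iff.1 (h5 (mem_zpowers _))) v hv).symm
    change π y = 1
    rw [hyi, h6, map_one]
  obtain ⟨_, ⟨k, hk, rfl⟩, hle⟩ := coset_abel (p := p) (F.map π) (K.map π) hVc hVK hpV hKV hC' (π g)
  refine ⟨k, hk, ?_⟩
  have h1 := card_eq_map_mul π (K ⊓ centralizer {k * g})
  rw [h1, hcardF]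
  refine Nat.mul_le_mul (le_trans (PCoset.card_le_of_le ?_) hle) (PCoset.card_le_of_le ?_)
  · rintro _ ⟨x, ⟨hx1, hx2⟩, rfl⟩
    refine ⟨⟨x, hx1, rfl⟩, mem_centralizer_singleton_iff.2 ?_⟩
    rw [← map_mul, ← map_mul, ← map_mul, mem_centralizer_singleton_iff.1 hx2]
  · rw [hker]
    exact inf_le_right

end Cfsg.Agent.H548.CosetGrp
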