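import Mathlib
import Cfsg.Agent.OddOrderLocal.CNBasic

/-!
Elementary facts on nilpotent subgroups of finite groups containing Sylow subgroups.
-/

set_option autoImplicit false

namespace Cfsg.Agent.H548.NilMax

open Subgroup

variable {G : Type*} [Group G]

/-- A subgroup of a nilpotent subgroup is nilpotent. -/
theorem nilp_of_le {H K : Subgroup G} (h : H ≤ K) (hK : Group.IsNilpotent K) :
    Group.IsNilpotent H := by
  have := hK
  exact Group.nilpotent_of_mulEquiv (Subgroup.subgroupOfEquivOfLe h)

/-- A nilpotent subgroup containing a Sylow subgroup normalizes it. -/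
theorem le_normalizer_of_nilp [Finite G] {p : ℕ} [Fact p.Prime] (P : Sylow p G) {H : Subgroup G}
    (hH : Group.IsNilpotent H) (hPH : (P : Subgroup G) ≤ H) :
    H ≤ normalizer ((P : Subgroup G) : Set G) := by
  have := hH
  have hN : ((P.subtype hPH : Sylow p H) : Subgroup H).Normal := inferInstance
  rw [Sylow.coe_subtype] at hN
  rw [← Subgroup.normal_subgroupOf_iff_le_normalizer hPH]
  exact hN

/-- Elements of coprime orders in a nilpotent subgroup commute. -/
theorem commute_of_mem [Finite G] {H : Subgroup G} (hH : Group.IsNilpotent H) {a b : G}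
    (ha : a ∈ H) (hb : b ∈ H) (h : (orderOf a).Coprime (orderOf b)) : Commute a b :=
  OddOrderLocal.CNBasic.commute_of_mem_of_coprime hH ha hb h

/-- A subgroup whose index is divisible by no prime is the whole group. -/
theorem eq_top_of_forall_not_dvd_index [Finite G] (K : Subgroup G)
    (h : ∀ q : ℕ, q.Prime → ¬ q ∣ K.index) : K = ⊤ := by
  rw [← Subgroup.index_eq_one]
  by_contra h1
  obtain ⟨q, hq, hqd⟩ := Nat.exists_prime_and_dvd h1
  exact h q hq hqd

/-- If `K` contains a Sylow `q`-subgroup, `q` does not divide its index. -/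
theorem not_dvd_index_of_le [Finite G] {q : ℕ} [Fact q.Prime] (Q : Sylow q G) {K : Subgroup G}
    (h : (Q : Subgroup G) ≤ K) : ¬ q ∣ K.index := fun hd =>
  Q.not_dvd_index (hd.trans (Subgroup.index_dvd_of_le h))

/-- Indices of normalizers of Sylow `p`-subgroups agree. -/
theorem index_normalizer_sylow_eq [Finite G] {p : ℕ} [Fact p.Prime] (P P' : Sylow p G) :
    (normalizer ((P : Subgroup G) : Set G)).index =
      (normalizer ((P' : Subgroup G) : Set G)).index := by
  exact (P.card_eq_index_normalizer).symm.trans P'.card_eq_index_normalizer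

end Cfsg.Agent.H548.NilMax
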