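import Mathlib
import Cfsg.Agent.H548.RowPSL
import Cfsg.Agent.S0280
import Cfsg.Agent.S0815

/-!
# `Crit` for `PSU_n(q)`, `n ≥ 3` (helper548, for S4239)
-/

set_option autoImplicit false

namespace Cfsg.Agent.H548.RowPSU

open Cfsg Cfsg.Agent.H548.Crit Cfsg.Agent.H548.LieNum Cfsg.Agent.H548.LieArith Cfsg.Agent.H548.RowPSp
  Cfsg.Agent.H548.RowPSL

universe u

theorem prod_un (q k : ℕ) : ∏ i ∈ Finset.range (k + 1), (if Even i then q ^ (i + 1) + 1 else q ^ (i + 1) - 1) =
    (q + 1) * up q k := by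
  have h1 : ∏ i ∈ Finset.range (k + 1), (if Even i then q ^ (i + 1) + 1 else q ^ (i + 1) - 1) =
      ∏ i ∈ Finset.range (k + 1), un q (i + 1) := by
    refine Finset.prod_congr rfl fun i _ => ?_
    unfold un
    by_cases h : Even i
    · rw [if_pos h, if_neg (by rw [Nat.even_add_one]; exact not_not.2 h)]
    · rw [if_neg h, if_pos (by rw [Nat.even_add_one]; exact h)]
  rw [h1, Finset.prod_range_succ']
  have h2 : un q (0 + 1) = q + 1 := by simp [un]
  rw [h2, mul_comm]
  rfl

theorem up_two (q : ℕ) : up q 2 = (q ^ 2 - 1) * (q ^ 3 + 1) := by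
  rw [up_succ, up_succ, un_even (by decide), un_odd (by decide)]
  simp [up]

theorem up_three (q : ℕ) : up q 3 = (q ^ 2 - 1) * (q ^ 3 + 1) * (q ^ 4 - 1) := by
  rw [up_succ, up_two, un_even (by decide)]

theorem up_five (q : ℕ) : up q 5 = (q ^ 2 - 1) * (q ^ 3 + 1) * (q ^ 4 - 1) * (q ^ 5 + 1) * (q ^ 6 - 1) := by
  rw [up_succ, up_succ, up_three, un_odd (by decide), un_even (by decide)]

theorem hs_upper {q : ℕ} (hq : 2 ≤ q) (k : ℕ) : 3 * hs q k ≤ q ^ k + 1 := by
  have h1 := hs_mul (q := q) (by omega) k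
  have h2 : un q k ≤ q ^ k + 1 := by
    unfold un
    split_ifs <;> omega
  have h3 : 3 * hs q k ≤ (q + 1) * hs q k := Nat.mul_le_mul_right _ (by omega)
  omega

theorem hs_lower {q : ℕ} (hq : 2 ≤ q) (k : ℕ) : 2 * q ^ k ≤ 3 * hs q (k + 1) + 1 := by
  have h1 := hs_add (q := q) (by omega) k
  have h2 := hs_upper hq k
  omega

theorem hs_mono {q : ℕ} (hq : 2 ≤ q) (k : ℕ) : hs q k ≤ hs q (k + 1) := by
  have h1 := hs_upper hq k
  have h2 := hs_lower hq k
  have h3 : 1 ≤ q ^ k := Nat.one_le_pow _ _ (by omega)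
  omega

/-- `n = k + 3 ≥ 4` -/
theorem psu_aux {G : Type u} [Group G] [Finite G] (hs' : IsSimpleGroup G) {p f q k D : ℕ} (hL : IsLieTypeChar p G)
    (hq : q = p ^ f) (hf : 1 ≤ f) (hq2 : 2 ≤ q) (hD : D ∣ q + 1)
    (hS : D * Nat.card G = q ^ (∑ i ∈ Finset.range (k + 2 + 1), i) * up q (k + 2))
    (ho : Nat.card (Out G) = D * (2 * f)) (h1 : 2 * (D * (2 * f)) ≤ hs q (k + 2))
    (h2 : 2 * (D * (2 * f)) * q ^ (∑ i ∈ Finset.range (k + 2 + 1), i) * D ≤ up q (k + 2)) : Crit G := by
  refine crit_num (N := ∑ i ∈ Finset.range (k + 2 + 1), i) (D := D) (M' := up q (k + 2)) (o := D * (2 * f))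
    (a := hs q (k + 2)) (b := hs q (k + 3)) hs' hL hq hf hS (up_cop (by omega) _) ho.le (hs_cop (by omega) _) ?_ h1
    (h1.trans (hs_mono hq2 _)) h2 (up_pos hq2 _)
  exact (mul_dvd_mul_left _ hD).trans (up_dvd (by omega) k)

theorem h2_of {q k D f : ℕ} (hq2 : 2 ≤ q) (h : 16 * f * D ^ 2 ≤ 3 * q ^ (k + 2)) :
    2 * (D * (2 * f)) * q ^ (∑ i ∈ Finset.range (k + 2 + 1), i) * D ≤ up q (k + 2) := by
  have h1 := up_bound hq2 (k + 1)
  rw [show k + 1 + 1 = k + 2 by ring, pow_lnE (by omega)] at h1
  generalize ∑ i ∈ Finset.range (k + 2 + 1), i = N at *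
  have h4 : 4 ≤ q ^ 2 := by nlinarith
  obtain ⟨s, hs'⟩ : ∃ s, q ^ 2 = s + 1 := ⟨q ^ 2 - 1, by omega⟩
  rw [hs', Nat.add_sub_cancel] at h1
  have h5 : 3 * (s + 1) ≤ 4 * s := by omega
  have h6 : (s + 1) * (3 * (q ^ N * q ^ (k + 2))) ≤ (s + 1) * (4 * up q (k + 2)) := by
    calc (s + 1) * (3 * (q ^ N * q ^ (k + 2))) = (3 * (s + 1)) * (q ^ N * q ^ (k + 2)) := by ring
      _ ≤ (4 * s) * (q ^ N * q ^ (k + 2)) := by gcongr
      _ = 4 * (s * (q ^ N * q ^ (k + 2))) := by ring
      _ ≤ 4 * ((s + 1) * up q (k + 2)) := by gcongr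
      _ = _ := by ring
  have h7 := Nat.le_of_mul_le_mul_left h6 (by omega)
  have h8 : 4 * (2 * (D * (2 * f)) * q ^ N * D) ≤ 4 * up q (k + 2) := by
    refine le_trans ?_ h7
    calc 4 * (2 * (D * (2 * f)) * q ^ N * D) = q ^ N * (16 * f * D ^ 2) := by ring
      _ ≤ q ^ N * (3 * q ^ (k + 2)) := by gcongr
      _ = _ := by ring
  omega

/-- the better bound for `q ≥ 4` -/
theorem h2_of' {q k D f : ℕ} (hq2 : 4 ≤ q) (h : 64 * f * D ^ 2 ≤ 15 * q ^ (k + 2)) :
    2 * (D * (2 * f)) * q ^ (∑ i ∈ Finset.range (k + 2 + 1), i) * D ≤ up q (k + 2) := by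
  have h1 := up_bound (q := q) (by omega) (k + 1)
  rw [show k + 1 + 1 = k + 2 by ring, pow_lnE (by omega)] at h1
  generalize ∑ i ∈ Finset.range (k + 2 + 1), i = N at *
  have h4 : 16 ≤ q ^ 2 := by nlinarith
  obtain ⟨s, hs'⟩ : ∃ s, q ^ 2 = s + 1 := ⟨q ^ 2 - 1, by omega⟩
  rw [hs', Nat.add_sub_cancel] at h1
  have h5 : 15 * (s + 1) ≤ 16 * s := by omega
  have h6 : (s + 1) * (15 * (q ^ N * q ^ (k + 2))) ≤ (s + 1) * (16 * up q (k + 2)) := by
    calc (s + 1) * (15 * (q ^ N * q ^ (k + 2))) = (15 * (s + 1)) * (q ^ N * q ^ (k + 2)) := by ring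
      _ ≤ (16 * s) * (q ^ N * q ^ (k + 2)) := by gcongr
      _ = 16 * (s * (q ^ N * q ^ (k + 2))) := by ring
      _ ≤ 16 * ((s + 1) * up q (k + 2)) := by gcongr
      _ = _ := by ring
  have h7 := Nat.le_of_mul_le_mul_left h6 (by omega)
  have h8 : 16 * (2 * (D * (2 * f)) * q ^ N * D) ≤ 16 * up q (k + 2) := by
    refine le_trans ?_ h7
    calc 16 * (2 * (D * (2 * f)) * q ^ N * D) = q ^ N * (64 * f * D ^ 2) := by ring
      _ ≤ q ^ N * (15 * q ^ (k + 2)) := by gcongr
      _ = _ := by ring
  omega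

theorem hs_three (q : ℕ) (hq : 1 ≤ q) : hs q 3 = q ^ 2 - q + 1 := by
  have h1 := hs_add hq 0
  have h2 := hs_add hq 1
  have h3 := hs_add hq 2
  have h0 : hs q 0 = 0 := rfl
  have h4 : q ≤ q ^ 2 := by nlinarith
  simp only [pow_zero, pow_one, zero_add, h0] at h1 h2 h3
  norm_num at h1 h2 h3
  omega

theorem psu_four_le {G : Type u} [Group G] [Finite G] (hs' : IsSimpleGroup G) {p f q k D : ℕ} (hp : p.Prime)
    (hL : IsLieTypeChar p G) (hq : q = p ^ f) (hf : 1 ≤ f) (hk : 1 ≤ k) (hD : D = Nat.gcd (k + 3) (q + 1))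
    (hS : D * Nat.card G = q ^ (∑ i ∈ Finset.range (k + 2 + 1), i) * up q (k + 2))
    (ho : Nat.card (Out G) = D * (2 * f)) : Crit G := by
  have hq2 : 2 ≤ q := by
    rw [hq]
    calc 2 ≤ p := hp.two_le
      _ = p ^ 1 := (pow_one p).symm
      _ ≤ p ^ f := Nat.pow_le_pow_right hp.pos hf
  have hf2 : 2 * f ≤ q := two_mul_f_le hp.two_le hf hq
  have hDn : D ∣ k + 3 := hD ▸ Nat.gcd_dvd_left _ _
  have hDq : D ∣ q + 1 := hD ▸ Nat.gcd_dvd_right _ _
  have hDle : D ≤ q + 1 := Nat.le_of_dvd (by omega) hDq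
  have hD1 : 1 ≤ D := Nat.pos_of_dvd_of_pos hDn (by omega)
  have hDk : D ≤ k + 3 := Nat.le_of_dvd (by omega) hDn
  rcases Nat.lt_or_ge 3 k with hk4 | hk3
  · -- `n ≥ 7`
    refine psu_aux hs' hL hq hf hq2 hDq hS ho ?_ (h2_of hq2 ?_)
    · have h1 := hs_lower hq2 (k + 1)
      have h2 : q ^ 5 ≤ q ^ (k + 1) := Nat.pow_le_pow_right (by omega) (by omega)
      have h3 : 2 * (D * (2 * f)) ≤ 2 * ((q + 1) * q) := by gcongr
      have h4 : 8 * q ^ 2 ≤ q ^ 5 := by
        have : 2 ^ 3 ≤ q ^ 3 := Nat.pow_le_pow_left hq2 3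
        calc 8 * q ^ 2 ≤ q ^ 3 * q ^ 2 := by gcongr; omega
          _ = q ^ 5 := by ring
      have h5 : 2 * q ≤ q ^ 2 := by nlinarith
      have h6 : (q + 1) * q = q ^ 2 + q := by ring
      rw [show k + 1 + 1 = k + 2 by ring] at h1
      omega
    · have h1 : 16 * f * D ^ 2 ≤ 8 * q * (q + 1) ^ 2 := by
        calc 16 * f * D ^ 2 = 8 * (2 * f) * D ^ 2 := by ring
          _ ≤ 8 * q * (q + 1) ^ 2 := by gcongr
      have h2 : 4 * (q + 1) ^ 2 ≤ 9 * q ^ 2 := by nlinarith
      have h3 : 8 * q * (q + 1) ^ 2 ≤ 18 * q ^ 3 := by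
        calc 8 * q * (q + 1) ^ 2 = 2 * q * (4 * (q + 1) ^ 2) := by ring
          _ ≤ 2 * q * (9 * q ^ 2) := by gcongr
          _ = _ := by ring
      have h4 : 8 * q ^ 3 ≤ q ^ 6 := by
        have : 2 ^ 3 ≤ q ^ 3 := Nat.pow_le_pow_left hq2 3
        calc 8 * q ^ 3 ≤ q ^ 3 * q ^ 3 := by gcongr; omega
          _ = q ^ 6 := by ring
      have h5 : q ^ 6 ≤ q ^ (k + 2) := Nat.pow_le_pow_right (by omega) (by omega)
      omega
  · have hk' : k = 1 ∨ k = 2 ∨ k = 3 := by omega
    rcases hk' with rfl | rfl | rfl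
    · -- `n = 4`
      rcases Nat.even_or_odd q with hev | hod
      · have hDodd : D = 1 := by
          have h1 : Odd (q + 1) := hev.add_one
          have h2 : Odd D := h1.of_dvd_nat hDq
          have h3 : Nat.Coprime (2 ^ 2) D := Nat.Coprime.pow_left 2 (Nat.coprime_two_left.2 h2)
          have h4 : D ∣ 2 ^ 2 := hDn
          exact h3.symm.eq_one_of_dvd h4
        by_cases hq22 : q = 2
        · -- `U_4(2)`
          have hf1 : f = 1 := by omega
          have hp2 : p = 2 := by rw [hf1, pow_one] at hq; omega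
          change D * Nat.card G = q ^ 6 * up q 3 at hS
          rw [hDodd, one_mul, up_three, hq22] at hS
          rw [hDodd, hf1] at ho
          norm_num at hS ho
          obtain ⟨x, hx⟩ := exists_reg (N := 6) (M := 405) hs' hL (by rw [hS, hp2]; norm_num) (by rw [hp2]; norm_num)
          rw [hp2] at hx
          refine crit_expl x hS (by norm_num) ho hx [(2, 6, 1), (3, 4, 0), (5, 1, 0)] (by norm_num) ?_ (by norm_num)
          intro t ht
          simp only [List.mem_cons, List.not_mem_nil, or_false] at ht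
          rcases ht with rfl | rfl | rfl <;> norm_num
        · have hq4 : 4 ≤ q := by
            obtain ⟨l, hl⟩ := hev
            omega
          refine psu_aux hs' hL hq hf hq2 hDq hS ho ?_ (h2_of hq2 ?_)
          · change _ ≤ hs q 3
            rw [hs_three q (by omega), hDodd]
            have h1 : 4 * q ≤ q ^ 2 := by nlinarith
            omega
          · change _ ≤ 3 * q ^ 3
            rw [hDodd]
            have h1 : 16 * q ≤ q ^ 3 := by
              have : 4 ^ 2 ≤ q ^ 2 := Nat.pow_le_pow_left hq4 2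
              calc 16 * q ≤ q ^ 2 * q := by gcongr; omega
                _ = q ^ 3 := by ring
            omega
      · have hp3 : 3 ≤ p := by
          have := hp.two_le
          rcases hp.eq_two_or_odd' with h | h
          · exfalso
            rw [hq, h] at hod
            exact (Nat.not_odd_iff_even.2 ((by decide : Even 2).pow_of_ne_zero (by omega : f ≠ 0))) hod
          · obtain ⟨l, hl⟩ := h
            omega
        have hf3 : 3 * f ≤ q := three_mul_f_le hp3 hf hq
        rcases Nat.lt_or_ge q 6 with hq6 | hq6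
        · have hf1 : f = 1 := by omega
          have hq35 : q = 3 ∨ q = 5 := by
            obtain ⟨l, hl⟩ := hod
            omega
          rcases hq35 with hq3 | hq5
          · -- `U_4(3)`
            have hp3' : p = 3 := by rw [hf1, pow_one] at hq; omega
            have hD4 : D = 4 := by rw [hD, hq3]; norm_num
            change D * Nat.card G = q ^ 6 * up q 3 at hS
            rw [hD4, up_three, hq3] at hS
            rw [hD4, hf1] at ho
            have hcard : Nat.card G = 3265920 := by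
              norm_num at hS
              omega
            norm_num at ho
            obtain ⟨x, hx⟩ := exists_reg (N := 6) (M := 4480) hs' hL (by rw [hcard, hp3']; norm_num)
              (by rw [hp3']; norm_num)
            rw [hp3'] at hx
            refine crit_expl x hcard (by norm_num) ho hx [(2, 7, 3), (3, 6, 0), (5, 1, 0), (7, 1, 0)] (by norm_num) ?_
              (by norm_num)
            intro t ht
            simp only [List.mem_cons, List.not_mem_nil, or_false] at ht
            rcases ht with rfl | rfl | rfl | rfl <;> norm_num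
          · have hD2 : D = 2 := by rw [hD, hq5]; norm_num
            refine psu_aux hs' hL hq hf hq2 hDq hS ho ?_ (h2_of hq2 ?_)
            · change _ ≤ hs q 3
              rw [hs_three q (by omega), hD2, hq5, hf1]
              norm_num
            · rw [hD2, hq5, hf1]
              norm_num
        · have hq7 : 7 ≤ q := by
            obtain ⟨l, hl⟩ := hod
            omega
          have h7 : 7 * q ≤ q ^ 2 := by nlinarith
          refine psu_aux hs' hL hq hf hq2 hDq hS ho ?_ (h2_of hq2 ?_)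
          · change _ ≤ hs q 3
            rw [hs_three q (by omega)]
            have h1 : 2 * (D * (2 * f)) ≤ 2 * (4 * (2 * f)) := by gcongr
            omega
          · change _ ≤ 3 * q ^ 3
            have h1 : 16 * f * D ^ 2 ≤ 16 * f * 4 ^ 2 := by gcongr
            have h2 : 49 * q ≤ q ^ 3 := by
              have : 7 ^ 2 ≤ q ^ 2 := Nat.pow_le_pow_left hq7 2
              calc 49 * q ≤ q ^ 2 * q := by gcongr; omega
                _ = q ^ 3 := by ring
            omega
    · -- `n = 5`
      have h5 : Nat.Prime 5 := by norm_num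
      have hl := hs_lower hq2 3
      rcases (Nat.dvd_prime h5).1 hDn with hD5 | hD5
      · have h8 : 8 * q ≤ q ^ 4 := by
          have : 2 ^ 3 ≤ q ^ 3 := Nat.pow_le_pow_left hq2 3
          calc 8 * q ≤ q ^ 3 * q := by gcongr; omega
            _ = q ^ 4 := by ring
        have h4 : 4 * q ≤ q ^ 3 := by
          have : 2 ^ 2 ≤ q ^ 2 := Nat.pow_le_pow_left hq2 2
          calc 4 * q ≤ q ^ 2 * q := by gcongr; omega
            _ = q ^ 3 := by ring
        refine psu_aux hs' hL hq hf hq2 hDq hS ho ?_ (h2_of hq2 ?_)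
        · change _ ≤ hs q 4
          rw [show 3 + 1 = 4 by norm_num] at hl
          rw [hD5]
          omega
        · change _ ≤ 3 * q ^ 4
          rw [hD5]
          omega
      · have hq4 : 4 ≤ q := by omega
        have h64 : 64 * q ≤ q ^ 4 := by
          have : 4 ^ 3 ≤ q ^ 3 := Nat.pow_le_pow_left hq4 3
          calc 64 * q ≤ q ^ 3 * q := by gcongr; omega
            _ = q ^ 4 := by ring
        have h16 : 16 * q ≤ q ^ 3 := by
          have : 4 ^ 2 ≤ q ^ 2 := Nat.pow_le_pow_left hq4 2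
          calc 16 * q ≤ q ^ 2 * q := by gcongr; omega
            _ = q ^ 3 := by ring
        refine psu_aux hs' hL hq hf hq2 hDq hS ho ?_ (h2_of' hq4 ?_)
        · change _ ≤ hs q 4
          rw [show 3 + 1 = 4 by norm_num] at hl
          rw [hD5]
          omega
        · change _ ≤ 15 * q ^ 4
          rw [hD5]
          omega
    · -- `n = 6`
      by_cases hq22 : q = 2
      · -- `U_6(2)`
        have hf1 : f = 1 := by omega
        have hp2 : p = 2 := by rw [hf1, pow_one] at hq; omega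
        have hD3 : D = 3 := by rw [hD, hq22]; norm_num
        change D * Nat.card G = q ^ 15 * up q 5 at hS
        rw [hD3, up_five, hq22] at hS
        rw [hD3, hf1] at ho
        have hcard : Nat.card G = 9196830720 := by
          norm_num at hS
          omega
        norm_num at ho
        obtain ⟨x, hx⟩ := exists_reg (N := 15) (M := 280665) hs' hL (by rw [hcard, hp2]; norm_num)
          (by rw [hp2]; norm_num)
        rw [hp2] at hx
        refine crit_expl x hcard (by norm_num) ho hx [(2, 15, 1), (3, 6, 1), (5, 1, 0), (7, 1, 0), (11, 1, 0)]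
          (by norm_num) ?_ (by norm_num)
        intro t ht
        simp only [List.mem_cons, List.not_mem_nil, or_false] at ht
        rcases ht with rfl | rfl | rfl | rfl | rfl <;> norm_num
      · have hq3 : 3 ≤ q := by omega
        have hl := hs_lower hq2 4
        have h27 : 27 * q ≤ q ^ 4 := by
          have : 3 ^ 3 ≤ q ^ 3 := Nat.pow_le_pow_left hq3 3
          calc 27 * q ≤ q ^ 3 * q := by gcongr; omega
            _ = q ^ 4 := by ring
        refine psu_aux hs' hL hq hf hq2 hDq hS ho ?_ (h2_of hq2 ?_)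
        · change _ ≤ hs q 5
          rw [show 4 + 1 = 5 by norm_num] at hl
          have h1 : 2 * (D * (2 * f)) ≤ 2 * (6 * (2 * f)) := by gcongr
          omega
        · change _ ≤ 3 * q ^ 5
          rcases Nat.lt_or_ge q 4 with hq4 | hq4
          · have hq3' : q = 3 := by omega
            have hf1 : f = 1 := by omega
            have hD4 : D ≤ 4 := by omega
            have h1 : 16 * f * D ^ 2 ≤ 16 * f * 4 ^ 2 := by gcongr
            refine h1.trans ?_
            rw [hq3', hf1]
            norm_num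
          · have h1 : 16 * f * D ^ 2 ≤ 16 * f * 6 ^ 2 := by gcongr
            have h2 : 256 * q ≤ q ^ 5 := by
              have : 4 ^ 4 ≤ q ^ 4 := Nat.pow_le_pow_left hq4 4
              calc 256 * q ≤ q ^ 4 * q := by gcongr; omega
                _ = q ^ 5 := by ring
            omega

/-! ### `PSU_3(q)` -/

theorem psu_three {G : Type u} [Group G] [Finite G] (hs' : IsSimpleGroup G) {p f q D : ℕ} (hp : p.Prime)
    (hL : IsLieTypeChar p G) (hq : q = p ^ f) (hf : 1 ≤ f) (hD : D = Nat.gcd 3 (q + 1)) (hq3 : 3 ≤ q)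
    (hS : D * Nat.card G = q ^ 3 * ((q ^ 2 - 1) * (q ^ 3 + 1)))
    (ho : Nat.card (Out G) = D * (2 * f)) : Crit G := by
  have hf2 : 2 * f ≤ q := two_mul_f_le hp.two_le hf hq
  have hDn : D ∣ 3 := hD ▸ Nat.gcd_dvd_left _ _
  have hDq : D ∣ q + 1 := hD ▸ Nat.gcd_dvd_right _ _
  have hlpos := up_pos (q := q) (by omega) 2
  have hlcop := up_cop (q := q) (by omega) 2
  rw [up_two] at hlpos hlcop
  have h3q : 3 * q ≤ q ^ 2 := by nlinarith
  have e3 : q ^ 3 + 1 = (q + 1) * (q ^ 2 - q + 1) := by
    have h1 : q ≤ q ^ 2 := by nlinarith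
    zify [h1]
    ring
  have hc1 : ∀ b, b ∣ q ^ 2 - q + 1 → ¬ 3 ∣ b → Nat.Coprime (q ^ 2 - 1) b := by
    intro b hb hb3
    have e2 : q ^ 2 - 1 = (q - 1) * (q + 1) := by
      have h1 : 1 ≤ q := by omega
      have h2' : 1 ≤ q ^ 2 := by nlinarith
      zify [h1, h2']
      ring
    rw [e2]
    apply Nat.Coprime.mul_left
    · have h4 : Nat.Coprime (q - 1) (q ^ 2 - q + 1) := by
        have h6 : q ^ 2 - q + 1 = 1 + (q - 1) * q := by
          have h1 : 1 ≤ q := by omega
          have h2' : q ≤ q ^ 2 := by nlinarith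
          zify [h1, h2']
          ring
        rw [h6, Nat.coprime_add_mul_left_right]
        exact Nat.coprime_one_right _
      exact Nat.Coprime.coprime_dvd_right hb h4
    · -- `gcd (q + 1) b ∣ 3`
      have h1 : Nat.gcd (q + 1) b ∣ 3 := by
        have h4 : Nat.gcd (q + 1) b ∣ q ^ 2 - q + 1 := (Nat.gcd_dvd_right _ _).trans hb
        have h5 : Nat.gcd (q + 1) b ∣ (q + 1) * (q - 2) := (Nat.gcd_dvd_left _ _).mul_right _
        have h6 : q ^ 2 - q + 1 = (q + 1) * (q - 2) + 3 := by
          have h1 : 2 ≤ q := by omega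
          have h2' : q ≤ q ^ 2 := by nlinarith
          zify [h1, h2']
          ring
        rw [h6] at h4
        exact (Nat.dvd_add_right h5).1 h4
      rcases (Nat.dvd_prime Nat.prime_three).1 h1 with h4 | h4
      · exact h4
      · exfalso
        apply hb3
        rw [← h4]
        exact Nat.gcd_dvd_right _ _
  rcases (Nat.dvd_prime Nat.prime_three).1 hDn with hD1 | hD1
  · rw [hD1] at hS ho
    have hn3 : ¬ 3 ∣ q ^ 2 - q + 1 := by
      intro hd
      have h1 : ¬ 3 ∣ q + 1 := by
        intro h4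
        have h5 : 3 ∣ Nat.gcd 3 (q + 1) := Nat.dvd_gcd dvd_rfl h4
        rw [← hD, hD1] at h5
        omega
      have h6 : q ^ 2 - q + 1 = (q + 1) * (q - 2) + 3 := by
        have h1 : 2 ≤ q := by omega
        have h2' : q ≤ q ^ 2 := by nlinarith
        zify [h1, h2']
        ring
      rw [h6] at hd
      have h7 : 3 ∣ (q + 1) * (q - 2) := (Nat.dvd_add_left (dvd_refl 3)).1 hd
      rcases (Nat.Prime.dvd_mul Nat.prime_three).1 h7 with h8 | h8
      · exact h1 h8
      · exact h1 (by omega)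
    refine crit_num (N := 3) (D := 1) (M' := (q ^ 2 - 1) * (q ^ 3 + 1)) (o := 1 * (2 * f)) (a := q ^ 2 - 1)
      (b := q ^ 2 - q + 1) hs' hL hq hf hS hlcop ho.le (hc1 _ dvd_rfl hn3) ?_ ?_ ?_ ?_ hlpos
    · rw [e3]
      exact ⟨q + 1, by ring⟩
    · omega
    · omega
    · have h4 : 2 * (1 * (2 * f)) * q ^ 3 * 1 ≤ (2 * q) * q ^ 3 := by
        have : 2 * (1 * (2 * f)) ≤ 2 * q := by omega
        calc 2 * (1 * (2 * f)) * q ^ 3 * 1 = 2 * (1 * (2 * f)) * q ^ 3 := by ring
          _ ≤ (2 * q) * q ^ 3 := by gcongr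
      refine h4.trans ?_
      have h5 : 2 * q ≤ q ^ 2 - 1 := by omega
      exact Nat.mul_le_mul h5 (by omega)
  · rw [hD1] at hS ho hDq
    obtain ⟨t, ht⟩ := hDq
    obtain ⟨t, rfl⟩ : ∃ s, t = s + 1 := ⟨t - 1, by omega⟩
    have hqt : q = 3 * t + 2 := by omega
    have hb : q ^ 2 - q + 1 = 3 * (3 * t ^ 2 + 3 * t + 1) := by
      rw [hqt]
      have : 3 * t + 2 ≤ (3 * t + 2) ^ 2 := by nlinarith
      zify [this]
      ring
    by_cases hex : q = 5 ∨ q = 8
    · rcases hex with hq5 | hq8
      · -- `U_3(5)`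
        have hf1 : f = 1 := by
          by_contra hne
          have h2 : f = 2 := by omega
          rw [h2, hq5] at hq
          have h4 : p = 2 ∨ 3 ≤ p := by have := hp.two_le; omega
          rcases h4 with h4 | h4
          · rw [h4] at hq; omega
          · have : 3 ^ 2 ≤ p ^ 2 := Nat.pow_le_pow_left h4 2
            omega
        have hp5 : p = 5 := by rw [hf1, pow_one] at hq; omega
        rw [hq5] at hS
        rw [hf1] at ho
        have hcard : Nat.card G = 126000 := by
          norm_num at hS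
          omega
        norm_num at ho
        obtain ⟨x, hx⟩ := exists_reg (N := 3) (M := 1008) hs' hL (by rw [hcard, hp5]; norm_num) (by rw [hp5]; norm_num)
        rw [hp5] at hx
        refine crit_expl x hcard (by norm_num) ho hx [(2, 4, 1), (3, 2, 1), (5, 3, 0), (7, 1, 0)] (by norm_num) ?_
          (by norm_num)
        intro t ht
        simp only [List.mem_cons, List.not_mem_nil, or_false] at ht
        rcases ht with rfl | rfl | rfl | rfl <;> norm_num
      · -- `U_3(8)`
        have hp2 : p = 2 := by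
          have h1 : p ∣ 2 ^ 3 := by
            have : p ∣ q := by rw [hq]; exact dvd_pow_self p (by omega)
            rw [hq8] at this
            exact this
          exact (Nat.prime_dvd_prime_iff_eq hp Nat.prime_two).1 (hp.dvd_of_dvd_pow h1)
        have hf3 : f = 3 := by
          rw [hp2, hq8] at hq
          have h1 : (2 : ℕ) ^ 3 = 2 ^ f := by rw [← hq]; norm_num
          exact (Nat.pow_right_injective le_rfl h1).symm
        rw [hq8] at hS
        rw [hf3] at ho
        have hcard : Nat.card G = 5515776 := by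
          norm_num at hS
          omega
        norm_num at ho
        obtain ⟨x, hx⟩ := exists_reg (N := 9) (M := 10773) hs' hL (by rw [hcard, hp2]; norm_num) (by rw [hp2]; norm_num)
        rw [hp2] at hx
        refine crit_expl x hcard (by norm_num) ho hx [(2, 9, 1), (3, 4, 2), (7, 1, 0), (19, 1, 0)] (by norm_num) ?_
          (by norm_num)
        intro t ht
        simp only [List.mem_cons, List.not_mem_nil, or_false] at ht
        rcases ht with rfl | rfl | rfl | rfl <;> norm_num
    · have hkey : 36 * f ≤ q ^ 2 - q + 1 := by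
        rcases Nat.lt_or_ge q 19 with h19 | h19
        · have h2f : 2 ^ f ≤ q := by rw [hq]; exact Nat.pow_le_pow_left hp.two_le f
          have hf5 : f < 5 := by
            by_contra hcon
            have : 2 ^ 5 ≤ 2 ^ f := Nat.pow_le_pow_right (by norm_num) (by omega)
            omega
          have ht' : t = 3 ∨ t = 4 ∨ t = 5 := by omega
          have hf4 : q < 16 → f ≤ 3 := by
            intro h16
            by_contra hcon
            have : 2 ^ 4 ≤ 2 ^ f := Nat.pow_le_pow_right (by norm_num) (by omega)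
            omega
          rcases ht' with rfl | rfl | rfl
          · have hq7 : q = 11 := hqt
            have := hf4 (by omega)
            rw [hq7]
            omega
          · have hq7 : q = 14 := hqt
            have := hf4 (by omega)
            rw [hq7]
            omega
          · have hq7 : q = 17 := hqt
            rw [hq7]
            omega
        · have : 19 * q ≤ q ^ 2 := by nlinarith
          omega
      refine crit_num (N := 3) (D := 3) (M' := (q ^ 2 - 1) * (q ^ 3 + 1)) (o := 3 * (2 * f)) (a := q ^ 2 - 1)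
        (b := 3 * t ^ 2 + 3 * t + 1) hs' hL hq hf hS hlcop ho.le (hc1 _ ?_ ?_) ?_ ?_ ?_ ?_ hlpos
      · rw [hb]
        exact Dvd.intro_left 3 rfl
      · omega
      · rw [e3, hb]
        exact ⟨q + 1, by ring⟩
      · omega
      · omega
      · calc 2 * (3 * (2 * f)) * q ^ 3 * 3 = (36 * f) * q ^ 3 := by ring
          _ ≤ (q ^ 2 - 1) * (q ^ 3 + 1) := Nat.mul_le_mul (by omega) (by omega)

theorem crit_psu {G : Type u} [Group G] [Finite G] (hs' : IsSimpleGroup G) (hna : ¬ IsMulCommutative G)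
    (hG : IsPSU G) : Crit G := by
  obtain ⟨F, iF, iF', n, q, hFq, hn, h32, ⟨e⟩⟩ := hG
  have hfin : Finite (PSU n F q) := Finite.of_equiv _ e.toEquiv
  obtain ⟨p, m, hp, hm, hF, hch⟩ := field_data F
  have : Fact p.Prime := ⟨hp⟩
  have hL1 : IsPSUChar p G := ⟨F, iF, iF', hch, n, q, hFq, hn, h32, ⟨e⟩⟩
  have hL : IsLieTypeChar p G := Or.inr (Or.inr (Or.inl hL1))
  obtain ⟨f, -, hq⟩ : ∃ f ≤ m, q = p ^ f := by
    rw [← Nat.dvd_prime_pow hp, ← hF, hFq]
    exact dvd_pow_self q (by norm_num)
  have hf : 1 ≤ f := by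
    by_contra hcon
    have hf0 : f = 0 := by omega
    rw [hf0, pow_zero] at hq
    rw [hq, one_pow] at hFq
    have := Fintype.one_lt_card (α := F)
    omega
  have hA := Cfsg.Agent.S0815.result p f hf hq hFq n hn h32
  have ho := card_out_of_mulAut (simple_congr e hs') (comm_congr e hna) hA
  rw [← card_out_congr e] at ho
  have hS := Cfsg.Agent.S0280.result hFq n (by omega)
  rw [← Nat.card_congr e.toEquiv] at hS
  have hq2 : 2 ≤ q := by
    rw [hq]
    calc 2 ≤ p := hp.two_le
      _ = p ^ 1 := (pow_one p).symm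
      _ ≤ p ^ f := Nat.pow_le_pow_right hp.pos hf
  obtain ⟨k, rfl⟩ : ∃ k, n = k + 2 + 1 := ⟨n - 3, by omega⟩
  rw [prod_un, ← Finset.sum_range_id] at hS
  have hS' : Nat.gcd (k + 3) (q + 1) * Nat.card G =
      q ^ (∑ i ∈ Finset.range (k + 2 + 1), i) * up q (k + 2) := by
    apply Nat.eq_of_mul_eq_mul_left (show 0 < q + 1 by omega)
    rw [show (q + 1) * (q ^ (∑ i ∈ Finset.range (k + 2 + 1), i) * up q (k + 2)) =
      q ^ (∑ i ∈ Finset.range (k + 2 + 1), i) * ((q + 1) * up q (k + 2)) by ring, ← hS]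
    ring
  rcases Nat.eq_zero_or_pos k with hk | hk
  · subst hk
    have e3 : ∑ i ∈ Finset.range (0 + 2 + 1), i = 3 := by decide
    rw [e3, show (0 : ℕ) + 3 = 3 by norm_num, show (0 : ℕ) + 2 = 2 by norm_num, up_two] at hS'
    have hq22 : q ≠ 2 := fun h => h32 ⟨rfl, h⟩
    exact psu_three hs' hp hL hq hf rfl (by omega) hS' ho
  · exact psu_four_le hs' hp hL hq hf hk rfl hS' ho

end Cfsg.Agent.H548.RowPSU
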