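import Mathlib
import Cfsg.Prelude.Def_Classification2
import Cfsg.Agent.H548.RowPSp
import Cfsg.Agent.H548.RowOmega
import Cfsg.Agent.H548.RowPSL
import Cfsg.Agent.H548.RowPSU
import Cfsg.Agent.H548.RowAlt
import Cfsg.Agent.H270.Crit.LTwo
import Cfsg.Agent.H270.Crit.Spor
import Cfsg.Agent.H228.CritSz

/-!
# `Crit` for all known simple groups (helper548, for S4239)
-/

set_option autoImplicit false

namespace Cfsg.Agent.H548.Rows

open Cfsg Cfsg.Agent.H548.Crit

universe u

/-- every known finite simple group (not of prime order) has an element with a small centralizer -/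
theorem crit_of_known {S : Type u} [Group S] [Finite S] (hs : IsSimpleGroup S) (hna : ¬ IsMulCommutative S)
    (h : IsKnownSimple' S) : Crit S := by
  rcases h with h | h | h | h | h | h | h | h | h | h
  · exfalso
    have : Fact (Nat.card S).Prime := ⟨h⟩
    have hc : IsCyclic S := isCyclic_of_prime_card (p := Nat.card S) rfl
    exact hna IsCyclic.commutative
  · exact RowAlt.crit_alt hs hna h
  · obtain ⟨F, iF, iF', n, hn, h4, ⟨e⟩⟩ := h
    rcases Nat.lt_or_ge 2 n with hn3 | hn2
    · exact RowPSL.crit_psl hs hn3 e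
    · obtain rfl : n = 2 := by omega
      exact (H270.Crit.LTwo.crit_psl_two F (h4 rfl)).congr e.symm
  · exact RowPSp.crit_psp hs hna h
  · exact RowPSU.crit_psu hs hna h
  · exact RowOmega.crit_odd hs hna h
  · exact RowOmega.crit_plus hs hna h
  · exact RowOmega.crit_minus hs hna h
  · rcases h with h | h | h | h | h | h | h | h | h | h | h
    · obtain ⟨F, iF, iF', h3, he⟩ := h
      obtain ⟨p, hp⟩ := CharP.exists F
      exact H228.CritExc.crit_of_exceptional (p := p) (Or.inl ⟨F, iF, iF', hp, Or.inl ⟨h3, he⟩⟩)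
    · obtain ⟨F, iF, iF', he⟩ := h
      obtain ⟨p, hp⟩ := CharP.exists F
      exact H228.CritExc.crit_of_exceptional (p := p) (Or.inl ⟨F, iF, iF', hp, Or.inr (Or.inl he)⟩)
    · obtain ⟨F, iF, iF', he⟩ := h
      obtain ⟨p, hp⟩ := CharP.exists F
      exact H228.CritExc.crit_of_exceptional (p := p) (Or.inl ⟨F, iF, iF', hp, Or.inr (Or.inr (Or.inl he))⟩)
    · obtain ⟨F, iF, iF', he⟩ := h
      obtain ⟨p, hp⟩ := CharP.exists F
      exact H228.CritExc.crit_of_exceptional (p := p) (Or.inl ⟨F, iF, iF', hp, Or.inr (Or.inr (Or.inr (Or.inl he)))⟩)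
    · obtain ⟨F, iF, iF', he⟩ := h
      obtain ⟨p, hp⟩ := CharP.exists F
      exact H228.CritExc.crit_of_exceptional (p := p) (Or.inl ⟨F, iF, iF', hp, Or.inr (Or.inr (Or.inr (Or.inr he)))⟩)
    · obtain ⟨K, iK, iK', q, hq, hK, he⟩ := h
      obtain ⟨p, hp⟩ := CharP.exists K
      exact H228.CritExc.crit_of_exceptional (p := p) (Or.inr (Or.inl ⟨K, iK, iK', hp, q, hq, Or.inl ⟨hK, he⟩⟩))
    · obtain ⟨K, iK, iK', q, hq, hK, he⟩ := h
      obtain ⟨p, hp⟩ := CharP.exists K
      exact H228.CritExc.crit_of_exceptional (p := p) (Or.inr (Or.inl ⟨K, iK, iK', hp, q, hq, Or.inr ⟨hK, he⟩⟩))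
    · exact H228.CritExc.crit_of_exceptional (p := 2) (Or.inr (Or.inr (Or.inl h)))
    · exact H228.CritExc.crit_of_exceptional (p := 2) (Or.inr (Or.inr (Or.inr (Or.inr h))))
    · exact H228.CritExc.crit_of_exceptional (p := 2) (Or.inr (Or.inr (Or.inr (Or.inl h))))
    · exact H270.Crit.crit_isoTits h
  · exact H270.Crit.crit_sporadic h

end Cfsg.Agent.H548.Rows
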