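import Mathlib
import Cfsg.Agent.H548.Soc
import Cfsg.Agent.Lib.Cores
import Cfsg.Agent.Lib.GenFitting
import Cfsg.Agent.TwoFusion.FStarControl
import Cfsg.Agent.SignalizersComponents.Components
import Cfsg.Agent.SignalizersComponents.ComponentExists

/-!
# Large conjugacy classes (helper548, for S4239)

`W` : if `O_p(G) = 1` and all finite nonabelian simple groups satisfy `Crit` then `|C_G(x)| |P| ≤ |G|` for some `x`.
-/

set_option autoImplicit false

namespace Cfsg.Agent.H548.WMain

open Subgroup Cfsg Cfsg.Agent.H548.Crit Cfsg.Agent.H548.PCoset Cfsg.Agent.H548.PMod Cfsg.Agent.H548.PBound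
  Cfsg.Agent.H548.CosetGrp

universe u

/-- The hypothesis. -/
def AllCrit : Prop := ∀ (S : Type u) [Group S] [Finite S], IsSimpleGroup S → ¬ IsMulCommutative S → Crit S

section soc

variable {G : Type u} [Group G]

/-- A component with trivial centre is simple. -/
theorem simple_of_component {K : Subgroup G} (hK : IsComponent K) (hc : center K = ⊥) :
    IsSimpleGroup K ∧ ¬ IsMulCommutative K := by
  obtain ⟨-, hperf, hs⟩ := hK
  have e : K ⧸ center K ≃* K := (QuotientGroup.quotientMulEquivOfEq hc).trans (QuotientGroup.quotientBot)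
  have h1 : IsSimpleGroup K := by
    have : Nontrivial K := e.symm.toEquiv.nontrivial
    exact e.symm.isSimpleGroup
  refine ⟨h1, fun hcomm => ?_⟩
  have h2 : center K = ⊤ := by
    rw [eq_top_iff]
    intro x _
    rw [mem_center_iff]
    intro g
    exact hcomm.is_comm.comm g x
  have h3 : (⊤ : Subgroup K) = ⊥ := h2.symm.trans hc
  have : Nontrivial K := h1.toNontrivial
  exact bot_ne_top h3.symm

theorem soc_of_fitting [Finite G] (hcrit : AllCrit.{u}) (hfit : fittingSubgroup G = ⊥) :
    Soc.Soc (G := G) (fun K : {K : Subgroup G // IsComponent K} => (K : Subgroup G)) := by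
  have hlay : ∀ g : G, (∀ K : {K : Subgroup G // IsComponent K}, ∀ x ∈ (K : Subgroup G), g * x = x * g) → g = 1 := by
    intro g hg
    have h1 : g ∈ centralizer (generalizedFittingSubgroup G : Set G) := by
      have h2 : layer G ≤ centralizer ({g} : Set G) := by
        refine (SignalizersComponents.Components.layer_le_iff).2 fun K hK x hx => ?_
        rw [mem_centralizer_singleton_iff]
        exact (hg ⟨K, hK⟩ x hx).symm
      have h3 : generalizedFittingSubgroup G ≤ centralizer ({g} : Set G) := by
        unfold generalizedFittingSubgroup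
        rw [hfit, sup_bot_eq]
        exact h2
      rw [mem_centralizer_iff]
      intro x hx
      exact mem_centralizer_singleton_iff.1 (h3 hx)
    have h4 := TwoFusion.FStarControl.centralizer_genFitting_le_fitting h1
    rwa [hfit, mem_bot] at h4
  have hcomm : ∀ K L : {K : Subgroup G // IsComponent K}, K ≠ L → ∀ x ∈ (K : Subgroup G), ∀ y ∈ (L : Subgroup G),
      x * y = y * x := by
    intro K L hKL x hx y hy
    have h1 := SignalizersComponents.Components.component_le_centralizer_of_ne K.2 L.2
      (fun h => hKL (Subtype.ext h)) hx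
    exact ((mem_centralizer_iff.1 h1) y hy).symm
  have hctr : ∀ K : {K : Subgroup G // IsComponent K}, ∀ x ∈ (K : Subgroup G),
      (∀ y ∈ (K : Subgroup G), x * y = y * x) → x = 1 := by
    intro K x hx hxc
    refine hlay x fun L y hy => ?_
    by_cases hKL : K = L
    · subst hKL
      exact hxc y hy
    · exact hcomm K L hKL x hx y hy
  refine ⟨hcomm, hctr, Subtype.val_injective, ?_, hlay, ?_⟩
  · intro g K
    exact ⟨⟨_, SignalizersComponents.Components.isComponent_conj g K.2⟩, rfl⟩
  · intro K
    have hc : center (K : Subgroup G) = ⊥ := by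
      rw [eq_bot_iff]
      intro x hx
      rw [mem_center_iff] at hx
      rw [mem_bot]
      apply Subtype.ext
      refine hctr K x x.2 fun y hy => ?_
      exact (congrArg Subtype.val (hx ⟨y, hy⟩)).symm
    obtain ⟨h1, h2⟩ := simple_of_component K.2 hc
    exact hcrit _ h1 h2

theorem nonempty_component [Finite G] [Nontrivial G] (hfit : fittingSubgroup G = ⊥) :
    Nonempty {K : Subgroup G // IsComponent K} := by
  by_contra hcon
  rw [not_nonempty_iff] at hcon
  have h1 : layer G = ⊥ := (SignalizersComponents.ComponentExists.layer_eq_bot_iff).2 fun K hK => hcon.false ⟨K, hK⟩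
  have h2 := SignalizersComponents.ComponentExists.centralizer_fitting_le_of_layer_eq_bot h1
  rw [hfit] at h2
  obtain ⟨x, hx⟩ := exists_ne (1 : G)
  have h3 : x ∈ centralizer ((⊥ : Subgroup G) : Set G) := by
    rw [mem_centralizer_iff]
    intro y hy
    have : y = 1 := hy
    rw [this, one_mul, mul_one]
  exact hx ((mem_bot).1 (h2 h3))

end soc

section W

variable {G : Type u} [Group G] [Finite G] {p : ℕ} [hF : Fact p.Prime]

theorem coprime_fitting (hp : pCore p G = ⊥) : (Nat.card (fittingSubgroup G)).Coprime p := by
  rw [Nat.coprime_comm, Nat.Prime.coprime_iff_not_dvd hF.out]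
  intro hdvd
  obtain ⟨z, hz⟩ := exists_prime_orderOf_dvd_card' p hdvd
  have hz1 : (z : G) ∈ pCore p G := by
    refine Lib.GenFitting.mem_pCore_of_mem_nilpotent_normal (Lib.Cores.fittingSubgroup_normal)
      (Lib.Cores.fittingSubgroup_isNilpotent) z.2 (k := 1) ?_
    rw [pow_one, ← hz]
    exact congrArg Subtype.val (pow_orderOf_eq_one z)
  rw [hp, mem_bot] at hz1
  have h1 : z = 1 := Subtype.ext hz1
  rw [h1, orderOf_one] at hz
  exact hF.out.one_lt.ne hz

/-- **(W)**. -/
theorem W (hcrit : AllCrit.{u}) : ∀ (n : ℕ) (G : Type u) [Group G] [Finite G], Nat.card G ≤ n →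
    pCore p G = ⊥ → ∀ P : Sylow p G, ∃ x : G, Nat.card (centralizer ({x} : Set G)) * Nat.card P ≤ Nat.card G := by
  intro n
  induction n with
  | zero =>
    intro G _ _ hn
    exact absurd hn (by have := Nat.card_pos (α := G); omega)
  | succ n ih =>
    intro G _ _ hn hO P
    rcases subsingleton_or_nontrivial G with hss | hnt
    · refine ⟨1, ?_⟩
      have h1 : Nat.card (centralizer ({1} : Set G)) ≤ 1 := by
        rw [Finite.card_le_one_iff_subsingleton]; infer_instance
      have h2 : Nat.card P ≤ 1 := by
        rw [Finite.card_le_one_iff_subsingleton]; infer_instance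
      have h3 : 0 < Nat.card G := Nat.card_pos
      nlinarith
    by_cases hfit : fittingSubgroup G = ⊥
    · have hne := nonempty_component hfit
      have hfin : Finite {K : Subgroup G // IsComponent K} := inferInstance
      have := Fintype.ofFinite {K : Subgroup G // IsComponent K}
      obtain ⟨x, hx⟩ := (soc_of_fitting hcrit hfit).main P
      refine ⟨x, le_trans ?_ hx⟩
      apply Nat.mul_le_mul_right
      omega
    · -- the nilpotent case
      set F := fittingSubgroup G with hFdef
      have hFn : F.Normal := Lib.Cores.fittingSubgroup_normal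
      have hFnil : Group.IsNilpotent F := Lib.Cores.fittingSubgroup_isNilpotent
      have hFp : (Nat.card F).Coprime p := coprime_fitting hO
      have hO1n : (pCore p (G ⧸ F)).Normal := Lib.Cores.pCore_normal p
      let π : G →* (G ⧸ F) ⧸ pCore p (G ⧸ F) := (QuotientGroup.mk' (pCore p (G ⧸ F))).comp (QuotientGroup.mk' F)
      have hπ : Function.Surjective π :=
        (QuotientGroup.mk'_surjective _).comp (QuotientGroup.mk'_surjective _)
      set K : Subgroup G := π.ker with hK
      have hKc : K = (pCore p (G ⧸ F)).comap (QuotientGroup.mk' F) := by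
        rw [hK, ← MonoidHom.comap_ker, QuotientGroup.ker_mk']
      have hFK : F ≤ K := by
        rw [hKc]
        intro x hx
        rw [mem_comap, QuotientGroup.mk'_apply, (QuotientGroup.eq_one_iff x).2 hx]
        exact one_mem _
      have hcardG := card_eq_map_mul π ⊤
      rw [← MonoidHom.range_eq_map, MonoidHom.range_eq_top.2 hπ, top_inf_eq, Subgroup.card_top, Subgroup.card_top] at hcardG
      have hKpos : 0 < Nat.card K := Nat.card_pos
      have hK1 : 1 < Nat.card K := by
        have h1 : 1 < Nat.card F := by
          rw [Finite.one_lt_card_iff_nontrivial]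
          exact (Subgroup.nontrivial_iff_ne_bot F).2 hfit
        exact lt_of_lt_of_le h1 (PCoset.card_le_of_le hFK)
      have hlt : Nat.card ((G ⧸ F) ⧸ pCore p (G ⧸ F)) < Nat.card G := by
        have h0 : 0 < Nat.card ((G ⧸ F) ⧸ pCore p (G ⧸ F)) := Nat.card_pos
        rw [hcardG]
        nlinarith
      -- the Sylow subgroup of the quotient
      let P₂ : Sylow p ((G ⧸ F) ⧸ pCore p (G ⧸ F)) := P.mapSurjective hπ
      obtain ⟨x₂, hx₂⟩ := ih _ (by omega) (Lib.Cores.pCore_quotient_pCore p) P₂
      obtain ⟨g, rfl⟩ := hπ x₂
      -- hypotheses of the coset claim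
      have hrel : ∃ n, F.relIndex K = p ^ n := by
        have h1 : IsPGroup p (K.map (QuotientGroup.mk' F)) := by
          rw [hKc, Subgroup.map_comap_eq_self_of_surjective (QuotientGroup.mk'_surjective F)]
          exact Lib.Cores.pCore_isPGroup p
        obtain ⟨n, hn⟩ := h1.exists_card_eq
        refine ⟨n, ?_⟩
        have h2 := Subgroup.relIndex_ker (K := K) (QuotientGroup.mk' F)
        rwa [QuotientGroup.ker_mk', hn] at h2
      have hC : ∀ x ∈ K, (∃ n, x ^ p ^ n = 1) → (∀ v ∈ F, x * v = v * x) → x = 1 := by
        intro x hxK ⟨m, hm⟩ hxF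
        let Z : Subgroup G := K ⊓ centralizer (F : Set G)
        have hKn : K.Normal := MonoidHom.normal_ker π
        have hZn : Z.Normal := Subgroup.normal_inf_normal _ _
        have hZnil : Group.IsNilpotent Z := by
          let f : Z →* pCore p (G ⧸ F) := ((QuotientGroup.mk' F).comp Z.subtype).codRestrict _ (fun z => by
            have hz : (z : G) ∈ K := z.2.1
            rw [hKc] at hz
            exact hz)
          have hfk : f.ker ≤ center Z := by
            intro z hz
            have h1 : (QuotientGroup.mk' F) (z : G) = 1 := congrArg Subtype.val (MonoidHom.mem_ker.1 hz)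
            have h2 : (z : G) ∈ F := (QuotientGroup.eq_one_iff _).1 h1
            rw [mem_center_iff]
            intro y
            apply Subtype.ext
            exact ((mem_centralizer_iff.1 y.2.2) z h2).symm
          have : Group.IsNilpotent (pCore p (G ⧸ F)) := (Lib.Cores.pCore_isPGroup p).isNilpotent
          exact Subgroup.isNilpotent_of_ker_le_center f hfk
        have h1 : x ∈ Z := ⟨hxK, mem_centralizer_iff.2 fun v hv => (hxF v hv).symm⟩
        have h2 := Lib.GenFitting.mem_pCore_of_mem_nilpotent_normal hZn hZnil h1 hm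
        rwa [hO, mem_bot] at h2
      have hKn : K.Normal := MonoidHom.normal_ker π
      obtain ⟨k, hk, hkc⟩ := coset_nilp F K hFK hFp hrel hC g
      refine ⟨k * g, ?_⟩
      have hπx : π (k * g) = π g := by rw [map_mul, MonoidHom.mem_ker.1 hk, one_mul]
      set x := k * g with hx
      have h1 := card_eq_map_mul π (centralizer ({x} : Set G))
      have h2 := card_eq_map_mul π (P : Subgroup G)
      have h3 : Nat.card ((centralizer ({x} : Set G)).map π) ≤ Nat.card (centralizer ({π g} : Set _)) := by
        apply PCoset.card_le_of_le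
        rintro _ ⟨y, hy, rfl⟩
        rw [mem_centralizer_singleton_iff, ← hπx, ← map_mul, ← map_mul]
        exact congrArg π (mem_centralizer_singleton_iff.1 hy)
      have h4 : Nat.card (centralizer ({x} : Set G) ⊓ π.ker : Subgroup G) ≤ Nat.card F := by
        rw [inf_comm]
        exact hkc
      have h5 : Nat.card ((P : Subgroup G).map π) = Nat.card P₂ := rfl
      have h6 := card_mul_card_le hFK (inf_le_right : (P : Subgroup G) ⊓ K ≤ K)
      have h7 : Nat.card (F ⊓ ((P : Subgroup G) ⊓ K) : Subgroup G) = 1 := by
        rw [Subgroup.card_eq_one, eq_bot_iff]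
        rintro y ⟨hy1, hy2, -⟩
        rw [mem_bot]
        obtain ⟨m, hm⟩ := P.isPGroup' ⟨y, hy2⟩
        have hm' : y ^ p ^ m = 1 := congrArg Subtype.val hm
        have h8 : orderOf y ∣ p ^ m := orderOf_dvd_of_pow_eq_one hm'
        have h9 : orderOf y ∣ Nat.card F := Subgroup.orderOf_dvd_natCard F hy1
        exact orderOf_eq_one_iff.1 (Nat.dvd_one.1 ((hFp.pow_right m) ▸ Nat.dvd_gcd h9 h8))
      rw [h7, mul_one] at h6
      calc Nat.card (centralizer ({x} : Set G)) * Nat.card P
          = (Nat.card ((centralizer ({x} : Set G)).map π) * Nat.card (centralizer ({x} : Set G) ⊓ π.ker : Subgroup G)) *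
            (Nat.card ((P : Subgroup G).map π) * Nat.card ((P : Subgroup G) ⊓ π.ker : Subgroup G)) := by
            rw [← h1, ← h2]
        _ ≤ (Nat.card (centralizer ({π g} : Set _)) * Nat.card F) *
            (Nat.card P₂ * Nat.card ((P : Subgroup G) ⊓ K : Subgroup G)) := by
            rw [h5]
            gcongr
        _ = (Nat.card (centralizer ({π g} : Set _)) * Nat.card P₂) *
            (Nat.card F * Nat.card ((P : Subgroup G) ⊓ K : Subgroup G)) := by ring
        _ ≤ Nat.card ((G ⧸ F) ⧸ pCore p (G ⧸ F)) * Nat.card K := Nat.mul_le_mul hx₂ h6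
        _ = Nat.card G := hcardG.symm

end W

end Cfsg.Agent.H548.WMain
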